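import Mathlib
import Cfsg.Agent.GT.ZassenhausAlg
import Cfsg.Agent.Cl.LinearBasic

/-!
# Evaluation of formal quaternions, and the icosian model of `SL(2,5)`
-/

set_option autoImplicit false
set_option linter.unreachableTactic false
set_option linter.unnecessarySeqFocus false
set_option linter.unusedTactic false

open Matrix

namespace Cfsg.Agent.GT.Frob

/-- A homomorphism out of `SL(2,F)` given by a function that is checked on transvections. -/
theorem exists_hom_sl2_of_fun {F M : Type*} [Field F] [Monoid M]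
    (t : F → F → F → F → M) (h1 : t 1 0 0 1 = 1)
    (hU : ∀ a b c d : F, a * d - b * c = 1 → ∀ x,
      t a (a * x + b) c (c * x + d) = t a b c d * t 1 x 0 1)
    (hL : ∀ a b c d : F, a * d - b * c = 1 → ∀ x,
      t (a + b * x) b (c + d * x) d = t a b c d * t 1 0 x 1) :
    ∃ f : SpecialLinearGroup (Fin 2) F →* M, ∀ g, f g = t (g 0 0) (g 0 1) (g 1 0) (g 1 1) := by
  classical
  let f : SpecialLinearGroup (Fin 2) F → M := fun g => t (g 0 0) (g 0 1) (g 1 0) (g 1 1)
  have hf1 : f 1 = 1 := by simp [f, h1]
  refine ⟨⟨⟨f, hf1⟩, fun A B => ?_⟩, fun g => rfl⟩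
  refine Cl.sl_transvection_induction (fun B => ∀ A, f (A * B) = f A * f B)
    (fun A => by rw [mul_one, hf1, mul_one]) (fun i j hij x A => ?_)
    (fun B C hB hC A => by rw [← mul_assoc, hC, hB, hC, mul_assoc]) B A
  have hA : A 0 0 * A 1 1 - A 0 1 * A 1 0 = 1 := by
    have := A.det_coe
    rwa [det_fin_two] at this
  fin_cases i <;> fin_cases j
  · exact absurd rfl hij
  · have := hU _ _ _ _ hA x
    simp [f, SpecialLinearGroup.transvection_coe, Matrix.mul_apply, Fin.sum_univ_two, ← this]
  · have := hL _ _ _ _ hA x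
    simp [f, SpecialLinearGroup.transvection_coe, Matrix.mul_apply, Fin.sum_univ_two, ← this]
  · exact absurd rfl hij

/-- Two anticommuting square roots of `-1`. -/
structure QuatPair {R : Type*} [Ring R] (i j : R) : Prop where
  ii : i * i = -1
  jj : j * j = -1
  ji : j * i = -(i * j)

namespace QuatPair

variable {R : Type*} [Ring R] [Algebra ℚ R] {i j : R}

/-- The centraliser of the pair. -/
abbrev Cent (i j : R) : Type _ := Subalgebra.centralizer ℚ ({i, j} : Set R)

/-- Evaluation of a formal quaternion. -/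
def ev (i j : R) (a : Q4 (Cent i j)) : R := a.r + i * a.i + j * a.j + i * j * a.k

theorem ev_add (a b : Q4 (Cent i j)) : ev i j (a + b) = ev i j a + ev i j b := by
  obtain ⟨a', b', c', d'⟩ := b
  obtain ⟨a, b, c, d⟩ := a
  simp only [ev, Q4.mk_add, Subalgebra.coe_add]
  noncomm_ring

theorem ev_neg (a : Q4 (Cent i j)) : ev i j (-a) = -ev i j a := by
  obtain ⟨a, b, c, d⟩ := a
  simp only [ev, Q4.mk_neg, Subalgebra.coe_neg]
  noncomm_ring

theorem ev_const (b : Cent i j) : ev i j ⟨b, 0, 0, 0⟩ = b := by simp [ev]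

omit [Algebra ℚ R] in
theorem ii' (h : QuatPair i j) (t : R) : i * (i * t) = -t := by rw [← mul_assoc, h.ii]; simp

omit [Algebra ℚ R] in
theorem jj' (h : QuatPair i j) (t : R) : j * (j * t) = -t := by rw [← mul_assoc, h.jj]; simp

omit [Algebra ℚ R] in
theorem ji' (h : QuatPair i j) (t : R) : j * (i * t) = -(i * (j * t)) := by
  rw [← mul_assoc, h.ji]; simp [mul_assoc]

theorem ev_mul (h : QuatPair i j) (a b : Q4 (Cent i j)) :
    ev i j (a * b) = ev i j a * ev i j b := by
  obtain ⟨a', b', c', d'⟩ := b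
  obtain ⟨a, b, c, d⟩ := a
  have h1 : ∀ (b : Cent i j) (t : R), b * (i * t) = i * (b * t) := fun b t => by
    rw [← mul_assoc, ← b.2 i (by simp), mul_assoc]
  have h2 : ∀ (b : Cent i j) (t : R), b * (j * t) = j * (b * t) := fun b t => by
    rw [← mul_assoc, ← b.2 j (by simp), mul_assoc]
  simp only [ev, Q4.mk_mul, Subalgebra.coe_add, Subalgebra.coe_sub, Subalgebra.coe_mul, mul_add,
    add_mul, mul_sub, mul_assoc, h1, h2, h.ii', h.jj', h.ji', mul_neg, neg_neg]
  abel

theorem r_eq_zero (h : QuatPair i j) {a : Q4 (Cent i j)} (ha : ev i j a = 0) : a.r = 0 := by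
  obtain ⟨a, b, c, d⟩ := a
  have key : ∀ u v : Q4 (Cent i j), ev i j (u * ⟨a, b, c, d⟩ * v) = 0 := fun u v => by
    rw [h.ev_mul, h.ev_mul, ha, mul_zero, zero_mul]
  have h1 := key ⟨0, 1, 0, 0⟩ ⟨0, -1, 0, 0⟩
  have h2 := key ⟨0, 0, 1, 0⟩ ⟨0, 0, -1, 0⟩
  have h3 := key ⟨0, 0, 0, 1⟩ ⟨0, 0, 0, -1⟩
  simp [ev, Q4.mk_mul] at ha h1 h2 h3
  exact Subtype.ext (eq_zero_of_nsmul 4 (by linear_combination (norm := (noncomm_ring <;> norm_num)) ha + h1 + h2 + h3))

theorem ev_injective (h : QuatPair i j) : Function.Injective (ev i j) := by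
  rintro ⟨a, b, c, d⟩ ⟨a', b', c', d'⟩ e
  have h0 : ev i j (⟨a, b, c, d⟩ + -⟨a', b', c', d'⟩) = 0 := by rw [ev_add, ev_neg, e, add_neg_cancel]
  have key : ∀ v : Q4 (Cent i j), ((⟨a, b, c, d⟩ + -⟨a', b', c', d'⟩) * v).r = 0 := fun v =>
    h.r_eq_zero (by rw [h.ev_mul, h0, zero_mul])
  have h1 := key ⟨1, 0, 0, 0⟩
  have h2 := key ⟨0, -1, 0, 0⟩
  have h3 := key ⟨0, 0, -1, 0⟩
  have h4 := key ⟨0, 0, 0, -1⟩
  simp only [Q4.mk_add, Q4.mk_neg, Q4.mk_mul, mul_one, mul_zero, sub_zero, mul_neg, zero_sub,
    neg_neg, add_neg_eq_zero] at h1 h2 h3 h4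
  rw [h1, h2, h3, h4]

theorem ev_surjective (h : QuatPair i j) : Function.Surjective (ev i j) := by
  intro t
  let P : R → Cent i j := fun t =>
    ⟨(1 / 4 : ℚ) • (t - i * t * i - j * t * j - i * j * t * (i * j)), by
      rintro x (rfl | rfl) <;>
      · simp only [mul_smul_comm, smul_mul_assoc, mul_sub, sub_mul, mul_assoc, h.ii', h.jj', h.ji',
          h.ii, h.jj, h.ji, mul_neg, neg_neg, mul_one]
        congr 1
        abel⟩
  refine ⟨⟨P t, P (-(i * t)), P (-(j * t)), P (-(i * j * t))⟩, ?_⟩
  simp only [ev, P, mul_smul_comm, mul_sub, mul_assoc, h.ii', h.jj', h.ji', mul_neg, neg_mul,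
    neg_neg]
  module

end QuatPair

/-- Change of coefficients. -/
def Q4.map {B C : Type*} (f : B → C) (a : Q4 B) : Q4 C := ⟨f a.r, f a.i, f a.j, f a.k⟩

theorem Q4.map_add {B C : Type*} [Ring B] [Ring C] (f : B →+* C) (a b : Q4 B) :
    (a + b).map f = a.map f + b.map f := by
  obtain ⟨a', b', c', d'⟩ := b
  obtain ⟨a, b, c, d⟩ := a
  simp [Q4.map, Q4.mk_add]

theorem Q4.map_mul {B C : Type*} [Ring B] [Ring C] (f : B →+* C) (a b : Q4 B) :
    (a * b).map f = a.map f * b.map f := by
  obtain ⟨a', b', c', d'⟩ := b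
  obtain ⟨a, b, c, d⟩ := a
  simp [Q4.map, Q4.mk_mul]

/-- The golden integers. -/
abbrev Gold : Type := QuadraticAlgebra ℤ 1 1

/-- Packed table of twice the icosians, indexed by `SL(2,5)`. -/
def icoTab : ℕ := 0x49a4d90000000000000000000000000000004d34530000000000000000000000000000006512920000000000000000000000000000002ca49145268b0000000000000000000000000000000000006926530000000000000000000000000000000000006922d10000002d244a0000000000000000000000000000000000004124920000002d24da0000000000000000000000000000000000000000004ca2d200000000000049164a0000000000000000000000000000000000000000004534d10000000000002da49300000000000065245a00000000000000000000000000000000000000000000000045145100000000000000000028b4d20000000000000000004996930000000000000000006934990000000000000000004d228b00000000000000000000000029348b00000000000000000000000045949a0000000000000000000000004cb49a00000000000000000000000069148b0000000000000000000000004924900000000000000000000000002914990000000000000000000000000000000000000000004d345100000000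000048b69300000000000000000000000000000000000000000045228b0000000000006994d200000000000000000000000000000069265100000000000000000000000000000044b49a4932ca0000000000000000000000000000004d14d30000000000000000000000000000002994520000000000000000004534530000000000000000006524ca0000000000000000000000000000000000000000000000004912da0000000000000000002da4910000000000000000004ca65200000000000000000000000000000000000048a4cb00000049929300000000000000000000000000000000000049969100000048a4590000000000000000000000000000000000004944920000000000000000000000004da2d20000000000000000000000002d169200000000000000000000000049241200000000000000000000000065369200000000000000000000000044a2d200000000000000000000000000000049a4cb00000048b29300000000000000000000000000000000000048b69100000000000000000000000000000000000049a45900000049049200000000000000000064a49300000000000000000000000000000000000000000000000049364a0000000000000000002d245a0000000000000000004d14d100000000000000000045a2d2000000000000000000000000000000453451000000000000000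00000000000000049165a0000000000000000000000000000004d948a2922d300000000000000000000000000000068b4d20000000000000000000000000000000000000000004d26990000000000004992910000000000004514d300000000000000000000000000000000000000000069348b00000000000028b4520000000000000000000000002d129200000000000000000000000049251200000000000000000000000065329200000000000000000000000044a6520000000000000000000000004da65200000000000000000000000000000029148b00000000000000000048b2910000000000000000006994520000000000000000000000000000000000000000000000004d34d300000000000000000045269900000000000064a4910000000000000000000000000000000000000000004d14530000000000004932da00000000000045a6520000000000000000000000000000000000000000002d24ca0000005124920000000000000000000000000000000000006524da0000000000000000000000000000000000002926530000002922d100000000000000000000000000000000000065244a00000000000000000000000000000065a4932d36920000000000000000000000000000004514d100000000000000000000000000000048a44b0000000000000000000000000000004d22990000000000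0000000000000029349900000000000000000000000045948a0000000000000000000000004cb48a0000000000000000000000006914990000000000000000000000004924940000000000000000000000000000000000000000000000000000000000000000000000000000000000000000000000004d34d149a44b4522992ca4936516920000000000000000000000000000000000000000000000000000000000004d145149365a44b48a6922d32994d20000000000000000000000000000000000000000000000000000000000000000000000000000000000000000000000000000000000000000000000000000000000000000000000000000002926514d949a4912ca4534d368b45200000000000000000000000000000000000000000000000000000000000065a4914d268b48a4d94514532d3292000000000000000000000000000000000000000000000000000000000000000000000000000000000000000000000000000000000000000000000000000000000000000000000000000000000000000000000000000000000000000000000000000000000000000000000000000000000000000000000000000000000000000000000000000000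

/-- Twice the icosian attached to a matrix of `SL(2,5)`. -/
def ico (a b c d : ZMod 5) : Q4 Gold :=
  let v := icoTab >>> (24 * (((a.val * 5 + b.val) * 5 + c.val) * 5 + d.val)) % 16777216
  let e : ℕ → ℤ := fun n => (v >>> (3 * n) % 8 : ℕ) - 2
  ⟨⟨e 0, e 1⟩, ⟨e 2, e 3⟩, ⟨e 4, e 5⟩, ⟨e 6, e 7⟩⟩

theorem ico_one : ico 1 0 0 1 = ⟨2, 0, 0, 0⟩ := by decide +kernel

theorem ico_upper : ∀ a b c d : ZMod 5, a * d - b * c = 1 → ∀ x,
    ico a (a * x + b) c (c * x + d) + ico a (a * x + b) c (c * x + d) =
      ico a b c d * ico 1 x 0 1 := by decide +kernel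

theorem ico_lower : ∀ a b c d : ZMod 5, a * d - b * c = 1 → ∀ x,
    ico (a + b * x) b (c + d * x) d + ico (a + b * x) b (c + d * x) d =
      ico a b c d * ico 1 0 x 1 := by decide +kernel

theorem ico_norm : ∀ a b c d : ZMod 5, a * d - b * c = 1 →
    (∃ n ∈ [1, -1, 4, 5, -5, 9, 16], ((ico a b c d).r - 2) * star ((ico a b c d).r - 2) = (n : ℤ)) ∨
      a = 1 ∧ b = 0 ∧ c = 0 ∧ d = 1 := by decide +kernel

set_option synthInstance.maxSize 2000 in
theorem ico_trace : ∀ a b c d : ZMod 5, a * d - b * c = 1 → a + d = -1 →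
    (∃ s ∈ [1, -1], ∃ t ∈ [1, -1], ∃ u ∈ [1, -1], ico a b c d = ⟨-1, s, t, u⟩) ∨
    ∃ s ∈ [(⟨0, 1⟩ : Gold), -⟨0, 1⟩], ∃ t ∈ [1 - (⟨0, 1⟩ : Gold), -(1 - ⟨0, 1⟩)],
      ico a b c d = ⟨-1, s, t, 0⟩ ∨ ico a b c d = ⟨-1, 0, s, t⟩ ∨ ico a b c d = ⟨-1, t, 0, s⟩ := by
  decide +kernel

theorem ico_form8 : ∀ s ∈ [(1 : Gold), -1], ∀ t ∈ [(1 : Gold), -1], ∀ u ∈ [(1 : Gold), -1],
    ∃ a b c d : ZMod 5, a * d - b * c = 1 ∧ ico a b c d = ⟨-1, s, t, u⟩ := by decide +kernel

theorem ico_form12 : ∀ s ∈ [(⟨0, 1⟩ : Gold), -⟨0, 1⟩], ∀ t ∈ [1 - (⟨0, 1⟩ : Gold), -(1 - ⟨0, 1⟩)],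
    (∃ a b c d : ZMod 5, a * d - b * c = 1 ∧ ico a b c d = ⟨-1, s, t, 0⟩) ∧
    (∃ a b c d : ZMod 5, a * d - b * c = 1 ∧ ico a b c d = ⟨-1, 0, s, t⟩) ∧
    (∃ a b c d : ZMod 5, a * d - b * c = 1 ∧ ico a b c d = ⟨-1, t, 0, s⟩) := by decide +kernel

theorem fact_prime_five' : Fact (Nat.Prime 5) := ⟨by norm_num⟩

attribute [local instance] fact_prime_five'

/-- `SL(2,5)` is generated by its elements of trace `-1`. -/
theorem sl2_five_induction (P : SpecialLinearGroup (Fin 2) (ZMod 5) → Prop) (h1 : P 1)
    (hmul : ∀ A B, P A → P B → P (A * B)) (h3 : ∀ A, A 0 0 + A 1 1 = -1 → P A)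
    (A : SpecialLinearGroup (Fin 2) (ZMod 5)) : P A := by
  have hpow : ∀ A (n : ℕ), P A → P (A ^ n) := fun A n hA => by
    induction n with
    | zero => simpa using h1
    | succ n ih => rw [pow_succ]; exact hmul _ _ ih hA
  refine Cl.sl_transvection_induction P h1 (fun i j hij x => ?_) hmul A
  fin_cases i <;> fin_cases j
  · exact absurd rfl hij
  · have : SpecialLinearGroup.transvection hij x =
        (⟨!![4, 1; 4, 0], by decide⟩ * ⟨!![3, 2; 1, 1], by decide⟩ *
          ⟨!![3, 4; 3, 1], by decide⟩) ^ x.val := by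
      apply Subtype.ext
      rw [SpecialLinearGroup.transvection_coe]
      revert x
      decide +kernel
    rw [this]
    exact hpow _ _ (hmul _ _ (hmul _ _ (h3 _ (by decide)) (h3 _ (by decide))) (h3 _ (by decide)))
  · have : SpecialLinearGroup.transvection hij x =
        (⟨!![1, 1; 2, 3], by decide⟩ * ⟨!![4, 1; 4, 0], by decide⟩ *
          ⟨!![1, 4; 3, 3], by decide⟩) ^ x.val := by
      apply Subtype.ext
      rw [SpecialLinearGroup.transvection_coe]
      revert x
      decide +kernel
    rw [this]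
    exact hpow _ _ (hmul _ _ (hmul _ _ (h3 _ (by decide)) (h3 _ (by decide))) (h3 _ (by decide)))
  · exact absurd rfl hij

open QuatPair in
/-- The icosian representation of `SL(2,5)`. -/
theorem QuatPair.exists_hom_sl2_five {R : Type*} [Ring R] [Algebra ℚ R] [Nontrivial R] {i j : R}
    (h : QuatPair i j) {φ : Cent i j} (hφ : φ * φ = φ + 1) :
    ∃ f : SpecialLinearGroup (Fin 2) (ZMod 5) →* R, Function.Injective f ∧
      (∀ g, g 0 0 + g 1 1 = -1 → ∃ a, (Form8 a ∨ Form12 φ a) ∧ ev i j a = 2 * f g + 1) ∧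
      ∀ a, Form8 a ∨ Form12 φ a → ∃ g, ev i j a = 2 * f g + 1 := by
  let θ : Gold →+* Cent i j :=
    (QuadraticAlgebra.lift (R := ℤ) (a := 1) (b := 1) ⟨φ, by simp [hφ, add_comm]⟩).toRingHom
  have hθ : θ ⟨0, 1⟩ = φ := by simp [θ]
  let t : ZMod 5 → ZMod 5 → ZMod 5 → ZMod 5 → R := fun a b c d =>
    (1 / 2 : ℚ) • ev i j ((ico a b c d).map θ)
  have hmul : ∀ x y z : Q4 Gold, x + x = y * z → (1 / 2 : ℚ) • ev i j (x.map θ) =
      (1 / 2 : ℚ) • ev i j (y.map θ) * (1 / 2 : ℚ) • ev i j (z.map θ) := fun x y z e => by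
    rw [smul_mul_smul_comm, ← h.ev_mul, ← Q4.map_mul, ← e, Q4.map_add, ev_add]
    module
  obtain ⟨f, hf⟩ := exists_hom_sl2_of_fun t (by
      simp only [t, ico_one, Q4.map, map_zero, ev_const, map_ofNat]
      rw [show ((2 : Cent i j) : R) = 1 + 1 from one_add_one_eq_two.symm]
      module)
    (fun a b c d e x => hmul _ _ _ (ico_upper a b c d e x))
    (fun a b c d e x => hmul _ _ _ (ico_lower a b c d e x))
  have hdet : ∀ g : SpecialLinearGroup (Fin 2) (ZMod 5), g 0 0 * g 1 1 - g 0 1 * g 1 0 = 1 :=
    fun g => by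
      have := g.det_coe
      rwa [det_fin_two] at this
  have key : ∀ (g : SpecialLinearGroup (Fin 2) (ZMod 5)) (s t u : Gold),
      ico (g 0 0) (g 0 1) (g 1 0) (g 1 1) = ⟨-1, s, t, u⟩ →
      ev i j ⟨0, θ s, θ t, θ u⟩ = 2 * f g + 1 := fun g s t' u e => by
    simp only [hf, t, e, Q4.map, ev, map_neg, map_one, two_mul]
    push_cast
    module
  have key2 : ∀ s t u : Gold,
      (∃ a b c d : ZMod 5, a * d - b * c = 1 ∧ ico a b c d = ⟨-1, s, t, u⟩) →
      ∃ g, ev i j ⟨0, θ s, θ t, θ u⟩ = 2 * f g + 1 := fun s t u ⟨a, b, c, d, e, e'⟩ =>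
    ⟨⟨!![a, b; c, d], by rw [det_fin_two_of, e]⟩, key _ s t u e'⟩
  refine ⟨f, (injective_iff_map_eq_one f).mpr fun g hg => ?_, fun g hg => ?_, fun a ha => ?_⟩
  · rcases ico_norm _ _ _ _ (hdet g) with ⟨n, hn, e⟩ | ⟨h1, h2, h3, h4⟩
    · have h1 : ev i j ((ico (g 0 0) (g 0 1) (g 1 0) (g 1 1)).map θ) = ev i j ⟨2, 0, 0, 0⟩ := by
        rw [hf] at hg
        rw [ev_const, show ((2 : Cent i j) : R) = 1 + 1 from one_add_one_eq_two.symm]
        linear_combination (norm := module) (2 : ℚ) • hg
      have h2 : θ (ico (g 0 0) (g 0 1) (g 1 0) (g 1 1)).r = 2 := congrArg Q4.r (h.ev_injective h1)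
      have h3 := congrArg θ e
      rw [map_mul, map_sub, h2, map_ofNat, sub_self, zero_mul, map_intCast] at h3
      have : CharZero (Cent i j) := algebraRat.charZero _
      have h4 : n = 0 := by exact_mod_cast h3.symm
      subst h4
      exact absurd hn (by decide)
    · ext a b
      fin_cases a <;> fin_cases b <;> simpa
  · rcases ico_trace _ _ _ _ (hdet g) hg with ⟨s, hs, t, ht, u, hu, e⟩ | ⟨s, hs, t, ht, e⟩
    · refine ⟨_, Or.inl ⟨rfl, ?_, ?_, ?_⟩, key g s t u e⟩
      · simp only [List.mem_cons, List.not_mem_nil, or_false] at hs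
        rcases hs with rfl | rfl <;> simp
      · simp only [List.mem_cons, List.not_mem_nil, or_false] at ht
        rcases ht with rfl | rfl <;> simp
      · simp only [List.mem_cons, List.not_mem_nil, or_false] at hu
        rcases hu with rfl | rfl <;> simp
    · simp only [List.mem_cons, List.not_mem_nil, or_false] at hs ht
      have hs' : θ s = φ ∨ θ s = -φ := by rcases hs with rfl | rfl <;> simp only [map_neg, hθ] <;> simp
      have ht' : θ t = 1 - φ ∨ θ t = -(1 - φ) := by
        rcases ht with rfl | rfl <;> simp only [map_neg, map_sub, map_one, hθ] <;> simp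
      rcases e with e | e | e
      · exact ⟨_, Or.inr ⟨rfl, _, _, hs', ht', Or.inl ⟨rfl, rfl, map_zero θ⟩⟩, key g _ _ _ e⟩
      · exact ⟨_, Or.inr ⟨rfl, _, _, hs', ht', Or.inr (Or.inl ⟨rfl, rfl, map_zero θ⟩)⟩, key g _ _ _ e⟩
      · exact ⟨_, Or.inr ⟨rfl, _, _, hs', ht', Or.inr (Or.inr ⟨rfl, rfl, map_zero θ⟩)⟩, key g _ _ _ e⟩
  · obtain ⟨a, b, c, d⟩ := a
    have l1 : ∀ {b : Cent i j}, b = 1 ∨ b = -1 → ∃ s ∈ [(1 : Gold), -1], θ s = b := by
      rintro _ (rfl | rfl)
      · exact ⟨1, by simp, map_one θ⟩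
      · exact ⟨-1, by simp, by simp⟩
    rcases ha with ⟨rfl, hb, hc, hd⟩ | ⟨rfl, s, t, hs, ht, e⟩
    · obtain ⟨s, hs, rfl⟩ := l1 hb
      obtain ⟨t, ht, rfl⟩ := l1 hc
      obtain ⟨u, hu, rfl⟩ := l1 hd
      exact key2 s t u (ico_form8 s hs t ht u hu)
    · obtain ⟨s, hs', rfl⟩ : ∃ s₀ ∈ [(⟨0, 1⟩ : Gold), -⟨0, 1⟩], θ s₀ = s := by
        rcases hs with rfl | rfl
        · exact ⟨_, List.mem_cons_self, hθ⟩
        · exact ⟨-⟨0, 1⟩, by simp, by rw [map_neg, hθ]⟩
      obtain ⟨t, ht', rfl⟩ : ∃ t₀ ∈ [1 - (⟨0, 1⟩ : Gold), -(1 - ⟨0, 1⟩)], θ t₀ = t := by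
        rcases ht with rfl | rfl
        · exact ⟨_, List.mem_cons_self, by rw [map_sub, map_one, hθ]⟩
        · exact ⟨-(1 - ⟨0, 1⟩), by simp, by rw [map_neg, map_sub, map_one, hθ]⟩
      obtain ⟨h1, h2, h3⟩ := ico_form12 s hs' t ht'
      rcases e with ⟨rfl, rfl, rfl⟩ | ⟨rfl, rfl, rfl⟩ | ⟨rfl, rfl, rfl⟩
      · simpa using key2 _ _ _ h1
      · simpa using key2 _ _ _ h2
      · simpa using key2 _ _ _ h3

end Cfsg.Agent.GT.Frob
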