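import Mathlib
import Cfsg.Agent.GT.FrobeniusFpf
import Cfsg.Agent.Cl.LinearBasic

/-!
# `SL(2,3)` and `SL(2,5)` act semiregularly
-/

set_option autoImplicit false

open Matrix

namespace Cfsg.Agent.GT.Frob

/-- A matrix representation in which no nonidentity element has eigenvalue `1`. -/
theorem hasFpfAction_of_matrix {A : Type*} [Group A] [Finite A] {K n : Type*} [Field K]
    [Fintype n] [DecidableEq n] [Nonempty n] (f : A →* Matrix n n K)
    (h : ∀ a : A, a ≠ 1 → (f a - 1).det ≠ 0) : HasFpfAction A := by
  let _ : DistribMulAction A (n → K) :=
    { smul := fun a v => f a *ᵥ v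
      one_smul := fun v => show f 1 *ᵥ v = v by rw [map_one, one_mulVec]
      mul_smul := fun a b v => show f (a * b) *ᵥ v = f a *ᵥ f b *ᵥ v by
        rw [map_mul, mulVec_mulVec]
      smul_zero := fun a => mulVec_zero _
      smul_add := fun a v w => mulVec_add _ _ _ }
  refine hasFpfAction_of_distribMulAction (n → K) fun a ha v hv => ?_
  refine eq_zero_of_mulVec_eq_zero (h a ha) ?_
  rw [sub_mulVec, one_mulVec, sub_eq_zero]
  exact hv

/-- Product of two `2 × 2` matrices given by their entries. -/
def mul4 {K : Type*} [Mul K] [Add K] (x y : K × K × K × K) : K × K × K × K :=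
  (x.1 * y.1 + x.2.1 * y.2.2.1, x.1 * y.2.1 + x.2.1 * y.2.2.2,
    x.2.2.1 * y.1 + x.2.2.2 * y.2.2.1, x.2.2.1 * y.2.1 + x.2.2.2 * y.2.2.2)

/-- A homomorphism out of `SL(2,F)` given by a table that is checked on transvections. -/
theorem exists_hom_sl2_of_table {F K : Type*} [Field F] [CommRing K]
    (t : F → F → F → F → K × K × K × K) (h1 : t 1 0 0 1 = (1, 0, 0, 1))
    (hU : ∀ a b c d : F, a * d - b * c = 1 → ∀ x,
      t a (a * x + b) c (c * x + d) = mul4 (t a b c d) (t 1 x 0 1))
    (hL : ∀ a b c d : F, a * d - b * c = 1 → ∀ x,
      t (a + b * x) b (c + d * x) d = mul4 (t a b c d) (t 1 0 x 1)) :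
    ∃ f : SpecialLinearGroup (Fin 2) F →* Matrix (Fin 2) (Fin 2) K, ∀ g, f g =
      !![(t (g 0 0) (g 0 1) (g 1 0) (g 1 1)).1, (t (g 0 0) (g 0 1) (g 1 0) (g 1 1)).2.1;
        (t (g 0 0) (g 0 1) (g 1 0) (g 1 1)).2.2.1, (t (g 0 0) (g 0 1) (g 1 0) (g 1 1)).2.2.2] := by
  classical
  let m : K × K × K × K → Matrix (Fin 2) (Fin 2) K := fun x => !![x.1, x.2.1; x.2.2.1, x.2.2.2]
  have hm : ∀ x y, m (mul4 x y) = m x * m y := fun x y => by simp [m, mul4]
  let f : SpecialLinearGroup (Fin 2) F → Matrix (Fin 2) (Fin 2) K :=
    fun g => m (t (g 0 0) (g 0 1) (g 1 0) (g 1 1))
  have hf1 : f 1 = 1 := by simp [f, m, h1, Matrix.one_fin_two]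
  refine ⟨⟨⟨f, hf1⟩, fun A B => ?_⟩, fun g => rfl⟩
  refine Cl.sl_transvection_induction (fun B => ∀ A, f (A * B) = f A * f B)
    (fun A => by rw [mul_one, hf1, mul_one]) (fun i j hij x A => ?_)
    (fun B C hB hC A => by rw [← mul_assoc, hC, hB, hC, mul_assoc]) B A
  have hA : A 0 0 * A 1 1 - A 0 1 * A 1 0 = 1 := by
    have := A.det_coe
    rwa [det_fin_two] at this
  fin_cases i <;> fin_cases j
  · exact absurd rfl hij
  · have := hU _ _ _ _ hA x
    simp only [f, ← hm]
    simp [SpecialLinearGroup.transvection_coe, Matrix.mul_apply, Fin.sum_univ_two, ← this]
  · have := hL _ _ _ _ hA x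
    simp only [f, ← hm]
    simp [SpecialLinearGroup.transvection_coe, Matrix.mul_apply, Fin.sum_univ_two, ← this]
  · exact absurd rfl hij

theorem hasFpfAction_sl2_of_table {F K : Type*} [Field F] [Finite F] [Field K]
    (t : F → F → F → F → K × K × K × K) (h1 : t 1 0 0 1 = (1, 0, 0, 1))
    (hU : ∀ a b c d : F, a * d - b * c = 1 → ∀ x,
      t a (a * x + b) c (c * x + d) = mul4 (t a b c d) (t 1 x 0 1))
    (hL : ∀ a b c d : F, a * d - b * c = 1 → ∀ x,
      t (a + b * x) b (c + d * x) d = mul4 (t a b c d) (t 1 0 x 1))
    (hf : ∀ a b c d : F, a * d - b * c = 1 →
      ((t a b c d).1 - 1) * ((t a b c d).2.2.2 - 1) - (t a b c d).2.1 * (t a b c d).2.2.1 = 0 →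
      a = 1 ∧ b = 0 ∧ c = 0 ∧ d = 1) :
    HasFpfAction (SpecialLinearGroup (Fin 2) F) := by
  obtain ⟨f, hf'⟩ := exists_hom_sl2_of_table t h1 hU hL
  refine hasFpfAction_of_matrix f fun g hg h => hg ?_
  have hA : g 0 0 * g 1 1 - g 0 1 * g 1 0 = 1 := by
    have := g.det_coe
    rwa [det_fin_two] at this
  obtain ⟨h1, h2, h3, h4⟩ := hf _ _ _ _ hA (by simpa [hf', det_fin_two] using h)
  ext i j
  fin_cases i <;> fin_cases j <;> simpa

/-- Decoding of a packed table of `2 × 2` matrices. -/
def unpack4 (N q p : ℕ) (a b c d : ZMod q) : ZMod p × ZMod p × ZMod p × ZMod p :=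
  let v := N >>> (16 * (((a.val * q + b.val) * q + c.val) * q + d.val)) % 65536
  ((v % 16 : ℕ), (v / 16 % 16 : ℕ), (v / 256 % 16 : ℕ), (v / 4096 : ℕ))

/-- Table of an embedding of `SL(2,3)` in `SL(2,5)`. -/
def tabSL23 : ℕ := 0x42410000000000000224114000000000000000003121000020230000041100000000324300000000331300000000400400000000303200000000000000002434000001440000000000000331131400000000000044100000000022420000000023120000000010010000000000000000143312203402000000000000433041222103000000000000000000000000000000000000000000000000000000000000

/-- Table of an embedding of `SL(2,5)` in `SL(2,11)`. -/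
def tabSL25 : ℕ := 0x9045000000000000000000008a2400000000000000000000482700000000000000000000434681a0000000000000000000000000526700000000000000000000000013a90000972900000000000000000000000047770000338100000000000000000000000000006635000000006a610000000000000000000000000000124900000000876400000000183300000000000000000000000000000000253800000000000065850000000000005aa700000000000093050000000000000a18000000000000000009680000000000000000157300000000000000003641000000000000000082500000000000000000a00a0000000000000000580900000000000000000000000000007a2300000000073100000000000000000000000000004684000000006295000000000000000000004266000000000000000000007208115600000000000000000000052100000000000000000000a191000000000000169000000000000094990000000000000000000000000000000070a8000000000000776300000000000095a20000000000000000000000003725000014800000000000000000000000004aa600005079000000000000000000000000916200000000000000009a52000000000000000092320000000000000000a451000000000000000064a50000000000000000a2a100000000000000000000604200007115000000000000000000000000a730000000000000000000000000849600002a5900000000000044580000000000000000000000000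000000040130000000000002722000000000000a520000000000000261900000000000000000000069a00000000000000000000aa650000000000000000000049037955000000000000000000001a2a0000000000000000000000000000753700000000048a00000000419800000000000000000000000000006302000000005926000000000000000057160000000000000000176a00000000000000002989000000000000000021690000000000000000191a0000000000000000000028060000000000006114000000000000563600000000000000000000000000000000968300000000000001a30000000034570000000000000000000000000000a97200000000515a0000000055860000000000000000000000000000a388000074440000000000000000000000002492000000000000000000000000a81200006954000000000000000000000000883a0000000000000000000078757394000000000000000000003197000000000000000000002076000000000000000000003a10000000000000000039600000000000000000857a0000000000000000a6480000000000000000025300000000000000001001000000000000000000000000000000000000000000000000000000000000000086825493768753478343000000000000000000000000000000000000000099718017320423aa084000000000000000000000000000000000000000000000000000000000000000000000000000000000000000000000000000009811890730a4224a0370000000000000000000000000000000000000000068744534672835393878000000000000000000000000000000000000000000000000000000000000000000000000000000000000000000000000000000000000000000000000000000000000000000000000000000000000000000000000000000000000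

theorem fact_prime_five : Fact (Nat.Prime 5) := ⟨by norm_num⟩

theorem fact_prime_eleven : Fact (Nat.Prime 11) := ⟨by norm_num⟩

attribute [local instance] fact_prime_five fact_prime_eleven

theorem hasFpfAction_sl2_three : HasFpfAction (SpecialLinearGroup (Fin 2) (ZMod 3)) :=
  hasFpfAction_sl2_of_table (unpack4 tabSL23 3 5) (by decide +kernel) (by decide +kernel)
    (by decide +kernel) (by decide +kernel)

theorem hasFpfAction_sl2_five : HasFpfAction (SpecialLinearGroup (Fin 2) (ZMod 5)) :=
  hasFpfAction_sl2_of_table (unpack4 tabSL25 5 11) (by decide +kernel) (by decide +kernel)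
    (by decide +kernel) (by decide +kernel)

end Cfsg.Agent.GT.Frob
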