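import Mathlib

/-!
# Irreducible representations over a field whose characteristic does not divide the group order

Schur's lemma, the orthogonality relations in operator form, independence of non-isomorphic
irreducible subrepresentations, and Clifford's theorem for one normalizing operator.
-/

set_option autoImplicit false

namespace Cfsg.Agent.GT

open Module

variable {K : Type*} [Field K] {M : Type*} [Group M]
  {W W' V : Type*} [AddCommGroup W] [Module K W] [AddCommGroup W'] [Module K W']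
  [AddCommGroup V] [Module K V]

/-- An irreducible representation. -/
structure IrrRep (τ : Representation K M W) : Prop where
  nontrivial : Nontrivial W
  irr : ∀ U : Submodule K W, (∀ m, ∀ w ∈ U, τ m w ∈ U) → U = ⊥ ∨ U = ⊤

namespace IrrRep

variable {τ : Representation K M W} {τ' : Representation K M W'} {σ : Representation K M V}

theorem injective_or_eq_zero (h : IrrRep τ) {f : W →ₗ[K] V}
    (hf : ∀ m w, f (τ m w) = σ m (f w)) : Function.Injective f ∨ f = 0 := by
  rcases h.irr (LinearMap.ker f) (fun m w hw => by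
    rw [LinearMap.mem_ker] at hw ⊢
    rw [hf, hw, map_zero]) with h1 | h1
  · exact Or.inl (LinearMap.ker_eq_bot.1 h1)
  · exact Or.inr (LinearMap.ker_eq_top.1 h1)

theorem surjective_or_eq_zero (h : IrrRep τ) {f : V →ₗ[K] W}
    (hf : ∀ m w, f (σ m w) = τ m (f w)) : Function.Surjective f ∨ f = 0 := by
  rcases h.irr (LinearMap.range f) (by
    rintro m _ ⟨w, rfl⟩
    exact ⟨σ m w, hf m w⟩) with h1 | h1
  · exact Or.inr (LinearMap.range_eq_bot.1 h1)
  · exact Or.inl (LinearMap.range_eq_top.1 h1)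

theorem bijective_or_eq_zero (h : IrrRep τ) (h' : IrrRep τ') {f : W →ₗ[K] W'}
    (hf : ∀ m w, f (τ m w) = τ' m (f w)) : Function.Bijective f ∨ f = 0 := by
  rcases h.injective_or_eq_zero hf with h1 | h1
  · rcases h'.surjective_or_eq_zero hf with h2 | h2
    · exact Or.inl ⟨h1, h2⟩
    · exact Or.inr h2
  · exact Or.inr h1

theorem comp (h : IrrRep τ) {M' : Type*} [Group M'] {β : M' →* M} (hβ : Function.Surjective β) :
    IrrRep (K := K) (τ.comp β) :=
  ⟨h.nontrivial, fun U hU => h.irr U fun m w hw => by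
    obtain ⟨m, rfl⟩ := hβ m
    exact hU m w hw⟩

theorem finrank_pos [FiniteDimensional K W] (h : IrrRep τ) : 0 < finrank K W :=
  have := h.nontrivial
  Module.finrank_pos

/-- Schur's lemma. -/
theorem exists_eq_smul [IsAlgClosed K] [FiniteDimensional K W] (h : IrrRep τ) {f : End K W}
    (hf : ∀ m, f * τ m = τ m * f) : ∃ c : K, f = c • (1 : End K W) := by
  have := h.nontrivial
  obtain ⟨c, hc⟩ := Module.End.exists_eigenvalue f
  obtain ⟨v, hv⟩ := hc.exists_hasEigenvector
  rcases h.injective_or_eq_zero (σ := τ) (f := f - c • (1 : End K W)) (fun m w => by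
    have := congrArg (· w) (hf m)
    simp only [End.mul_apply] at this
    simp [this]) with h1 | h1
  · refine absurd (h1 (a₂ := 0) ?_) hv.2
    simp [hv.apply_eq_smul]
  · exact ⟨c, sub_eq_zero.1 h1⟩

theorem finrank_eq_one_of_forall_smul [FiniteDimensional K W] (h : IrrRep τ)
    (hs : ∀ m, ∃ c : K, τ m = c • (1 : End K W)) : finrank K W = 1 := by
  have := h.nontrivial
  obtain ⟨v, hv⟩ := exists_ne (0 : W)
  rcases h.irr (K ∙ v) (fun m w hw => by
    obtain ⟨c, hc⟩ := hs m
    rw [hc]
    exact Submodule.smul_mem _ c hw) with h1 | h1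
  · exact absurd (Submodule.span_singleton_eq_bot.1 h1) hv
  · rw [← finrank_top, ← h1, finrank_span_singleton hv]

section Finite

variable [Fintype M]

theorem sum_apply_intertwines (φ : Dual K W) (u : W') (m : M) (v : W) :
    ∑ g, φ (τ g⁻¹ (τ m v)) • τ' g u = τ' m (∑ g, φ (τ g⁻¹ v) • τ' g u) := by
  rw [map_sum, ← Equiv.sum_comp (Equiv.mulLeft m)]
  refine Finset.sum_congr rfl fun g _ => ?_
  simp only [Equiv.coe_mulLeft, map_smul, map_mul, End.mul_apply, mul_inv_rev]
  congr 3
  rw [← End.mul_apply, ← map_mul, inv_mul_cancel, map_one, End.one_apply]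

/-- The averaged rank one operator. -/
noncomputable def avg (τ : Representation K M W) (τ' : Representation K M W') (φ : Dual K W)
    (u : W') : W →ₗ[K] W' :=
  ∑ g, (φ ∘ₗ τ g⁻¹).smulRight (τ' g u)

theorem avg_apply (φ : Dual K W) (u : W') (v : W) :
    avg τ τ' φ u v = ∑ g, φ (τ g⁻¹ v) • τ' g u := by
  simp [avg, LinearMap.sum_apply]

theorem avg_intertwines (φ : Dual K W) (u : W') (m : M) (v : W) :
    avg τ τ' φ u (τ m v) = τ' m (avg τ τ' φ u v) := by
  rw [avg_apply, avg_apply, sum_apply_intertwines]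

theorem trace_avg [FiniteDimensional K W] (φ : Dual K W) (u : W) :
    LinearMap.trace K W (avg τ τ φ u) = (Nat.card M : K) * φ u := by
  rw [avg, map_sum]
  have : ∀ g : M, LinearMap.trace K W ((φ ∘ₗ τ g⁻¹).smulRight (τ g u)) = φ u := fun g => by
    rw [LinearMap.trace_smulRight, LinearMap.comp_apply, ← End.mul_apply, ← map_mul,
      inv_mul_cancel, map_one, End.one_apply]
  simp [this, Nat.card_eq_fintype_card]

variable [IsAlgClosed K] [FiniteDimensional K W]

theorem exists_avg_eq (h : IrrRep τ) (φ : Dual K W) (u : W) :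
    ∃ c : K, avg τ τ φ u = c • (1 : End K W) ∧ c * finrank K W = (Nat.card M : K) * φ u := by
  obtain ⟨c, hc⟩ := h.exists_eq_smul (f := avg τ τ φ u) fun m =>
    LinearMap.ext fun v => avg_intertwines φ u m v
  refine ⟨c, hc, ?_⟩
  rw [← trace_avg (τ := τ), hc, map_smul, LinearMap.trace_one, smul_eq_mul]

omit [Fintype M] in
/-- The degree of an irreducible representation is prime to the characteristic. -/
theorem finrank_ne_zero [Finite M] (h : IrrRep τ) (hM : (Nat.card M : K) ≠ 0) :
    (finrank K W : K) ≠ 0 := by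
  have := Fintype.ofFinite M
  have := h.nontrivial
  obtain ⟨u, hu⟩ := exists_ne (0 : W)
  obtain ⟨φ, hφ⟩ := Module.Projective.exists_dual_eq_one K hu
  obtain ⟨c, -, hc⟩ := h.exists_avg_eq φ u
  intro h0
  rw [h0, hφ, mul_zero, mul_one] at hc
  exact hM hc.symm

theorem sum_smul_self (h : IrrRep τ) (hM : (Nat.card M : K) ≠ 0) (φ : Dual K W) (u v : W) :
    ∑ g, φ (τ g⁻¹ v) • τ g u = ((Nat.card M : K) / finrank K W * φ u) • v := by
  obtain ⟨c, hc, hc'⟩ := h.exists_avg_eq φ u
  rw [← avg_apply, hc, LinearMap.smul_apply, End.one_apply]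
  congr 1
  have := h.finrank_ne_zero hM
  field_simp
  rw [hc']

/-- Fourier inversion in the endomorphism ring of an irreducible representation. -/
theorem sum_trace_smul (h : IrrRep τ) (hM : (Nat.card M : K) ≠ 0) (A : End K W) :
    ∑ g, LinearMap.trace K W (A * τ g⁻¹) • τ g = ((Nat.card M : K) / finrank K W) • A := by
  obtain ⟨t, rfl⟩ := (dualTensorHomEquiv K W W).surjective A
  induction t with
  | zero => simp
  | add a b ha hb =>
    simp only [map_add, add_mul, add_smul, Finset.sum_add_distrib, ha, hb, smul_add]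
  | tmul φ v =>
    ext u
    have e : ∀ g : M, LinearMap.trace K W (dualTensorHomEquiv K W W (φ ⊗ₜ v) * τ g⁻¹) =
        φ (τ g⁻¹ v) := fun g => by
      have : dualTensorHomEquiv K W W (φ ⊗ₜ v) * τ g⁻¹ = (φ ∘ₗ τ g⁻¹).smulRight v := by
        ext w
        simp
      rw [this, LinearMap.trace_smulRight, LinearMap.comp_apply]
    simp only [e, LinearMap.sum_apply, LinearMap.smul_apply]
    rw [h.sum_smul_self hM]
    simp [smul_smul]

end Finite

/-- Images of pairwise non-isomorphic irreducible representations are independent. -/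
theorem eq_zero_of_sum_eq_zero [Finite M] [IsAlgClosed K] [FiniteDimensional K W]
    (hM : (Nat.card M : K) ≠ 0) {ι : Type*} [Fintype ι] {τ : ι → Representation K M W}
    (h : ∀ i, IrrRep (τ i))
    (hne : ∀ i j, ∀ e : W ≃ₗ[K] W, (∀ m w, e (τ i m w) = τ j m (e w)) → i = j)
    {f : ι → W →ₗ[K] V} (hf : ∀ i m w, f i (τ i m w) = σ m (f i w))
    (hi : ∀ i, Function.Injective (f i)) {w : ι → W} (hw : ∑ i, f i (w i) = 0) : w = 0 := by
  classical
  have := Fintype.ofFinite M
  ext j
  by_contra hj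
  obtain ⟨φ, hφ⟩ := Module.Projective.exists_dual_eq_one K hj
  have e : ∀ i, ∑ g, φ (τ j g⁻¹ (w j)) • σ g (f i (w i)) =
      f i (avg (τ j) (τ i) φ (w i) (w j)) := fun i => by
    rw [avg_apply, map_sum]
    simp [hf]
  have h1 : ∑ i, f i (avg (τ j) (τ i) φ (w i) (w j)) = 0 := by
    simp only [← e]
    rw [Finset.sum_comm]
    simp only [← Finset.smul_sum, ← map_sum, hw, map_zero, smul_zero, Finset.sum_const_zero]
  rw [Finset.sum_eq_single j (fun i _ hij => ?_) (by simp), avg_apply,
    (h j).sum_smul_self hM, hφ, mul_one, map_eq_zero_iff _ (hi j), smul_eq_zero] at h1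
  · exact hj (h1.resolve_left (div_ne_zero hM ((h j).finrank_ne_zero hM)))
  · rcases (h j).bijective_or_eq_zero (h i) (avg_intertwines φ (w i)) with h2 | h2
    · exact absurd (hne j i (LinearEquiv.ofBijective _ h2) (avg_intertwines φ (w i))).symm hij
    · rw [h2, LinearMap.zero_apply, map_zero]

end IrrRep

/-- Every nonzero invariant subspace contains an irreducible one. -/
theorem exists_irrRep_le [FiniteDimensional K V] (σ : Representation K M V) {V' : Submodule K V}
    (hV' : ∀ m, ∀ v ∈ V', σ m v ∈ V') (h0 : V' ≠ ⊥) :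
    ∃ U ≤ V', ∃ hU : ∀ m, U ≤ U.comap (σ m), IrrRep (σ.subrepresentation U hU) := by
  obtain ⟨U, ⟨hUV, hU0, hU⟩, hmin⟩ := (wellFounded_lt (α := Submodule K V)).has_min
    {U | U ≤ V' ∧ U ≠ ⊥ ∧ ∀ m, U ≤ U.comap (σ m)} ⟨V', le_rfl, h0, hV'⟩
  refine ⟨U, hUV, hU, Submodule.nontrivial_iff_ne_bot.2 hU0, fun X hX => ?_⟩
  by_contra hc
  push Not at hc
  refine hmin (X.map U.subtype) ⟨(Submodule.map_subtype_le _ _).trans hUV, ?_, ?_⟩ ?_
  · intro h
    exact hc.1 (Submodule.map_injective_of_injective U.injective_subtype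
      (h.trans (Submodule.map_bot _).symm))
  · rintro m _ ⟨w, hw, rfl⟩
    exact ⟨_, hX m w hw, rfl⟩
  · refine lt_of_le_of_ne (Submodule.map_subtype_le _ _) fun h => hc.2 ?_
    apply Submodule.map_injective_of_injective U.injective_subtype
    rw [h, Submodule.map_subtype_top]

/-- A nontrivial representation in coprime characteristic has a nontrivial irreducible part. -/
theorem exists_irrRep_ne_one [Finite M] [FiniteDimensional K V] (hM : (Nat.card M : K) ≠ 0)
    (σ : Representation K M V) {m₀ : M} (h₀ : σ m₀ ≠ 1) :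
    ∃ U : Submodule K V, ∃ hU : ∀ m, U ≤ U.comap (σ m), IrrRep (σ.subrepresentation U hU) ∧
      ∃ m, σ.subrepresentation U hU m ≠ 1 := by
  have := Fintype.ofFinite M
  have e : ∀ m, (∑ g, σ g) * σ m = ∑ g, σ g := fun m => by
    rw [Finset.sum_mul, ← Equiv.sum_comp (Equiv.mulRight m) (fun g => σ g)]
    simp
  obtain ⟨U, hUV, hU, h⟩ := exists_irrRep_le σ (V' := LinearMap.ker (∑ g, σ g))
    (fun m v hv => by
      rw [LinearMap.mem_ker] at hv ⊢
      rw [← End.mul_apply, e, hv])
    (fun h => h₀ (LinearMap.ext fun v => by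
      have : σ m₀ v - v ∈ LinearMap.ker (∑ g, σ g) := by
        rw [LinearMap.mem_ker, map_sub, ← End.mul_apply, e, sub_self]
      rw [h, Submodule.mem_bot, sub_eq_zero] at this
      exact this))
  refine ⟨U, hU, h, ?_⟩
  by_contra hc
  push Not at hc
  have := h.nontrivial
  obtain ⟨u, hu⟩ := exists_ne (0 : U)
  have h1 : (∑ g, σ g) u = 0 := hUV u.2
  have h2 : ∀ g, σ g u = u := fun g => congrArg Subtype.val (LinearMap.congr_fun (hc g) u)
  simp only [LinearMap.sum_apply, h2, Finset.sum_const, Finset.card_univ,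
    ← Nat.card_eq_fintype_card] at h1
  rw [← Nat.cast_smul_eq_nsmul K, smul_eq_zero] at h1
  exact hu (Subtype.ext (h1.resolve_left hM))

theorem exists_forall_zpow_mem_iff {G : Type*} [Group G] (S : Subgroup G) (g : G) :
    ∃ d : ℕ, ∀ k : ℤ, g ^ k ∈ S ↔ (d : ℤ) ∣ k := by
  refine ⟨MulAction.period g ((1 : G) : G ⧸ S), fun k => ?_⟩
  rw [← MulAction.zpow_smul_eq_iff_period_dvd, MulAction.Quotient.smul_coe, eq_comm,
    QuotientGroup.eq]
  simp

/-- The automorphisms fixing the isomorphism type of a representation. -/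
def repStab (τ : Representation K M W) : Subgroup (MulAut M) where
  carrier := {β | ∃ e : W ≃ₗ[K] W, ∀ m w, e (τ (β m) w) = τ m (e w)}
  one_mem' := ⟨LinearEquiv.refl K W, fun _ _ => rfl⟩
  mul_mem' := by
    rintro β γ ⟨e, he⟩ ⟨e', he'⟩
    exact ⟨e.trans e', fun m w => by simp [he, he']⟩
  inv_mem' := by
    rintro β ⟨e, he⟩
    refine ⟨e.symm, fun m w => e.injective ?_⟩
    conv_rhs => rw [← β.apply_inv_self M m, he]
    simp

theorem conj_mem_repStab (τ : Representation K M W) (g : M) : MulAut.conj g ∈ repStab τ := by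
  refine ⟨LinearEquiv.ofBijective (τ g⁻¹) (τ.apply_bijective _), fun m w => ?_⟩
  change τ g⁻¹ _ = τ m (τ g⁻¹ w)
  simp only [← End.mul_apply, ← map_mul, MulAut.conj_apply]
  congr 2
  group

theorem pow_mul_rep {σ : Representation K M V} {T : End K V} {α : MulAut M}
    (hα : ∀ m, T * σ m = σ (α m) * T) (k : ℕ) (m : M) : T ^ k * σ m = σ ((α ^ k) m) * T ^ k := by
  induction k with
  | zero => simp
  | succ k ih => rw [pow_succ', mul_assoc, ih, ← mul_assoc, hα, mul_assoc, pow_succ' α]; rfl

/-- Clifford's theorem for one operator `T` normalizing a representation `σ`. -/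
theorem clifford_cyclic [Finite M] [IsAlgClosed K] [FiniteDimensional K V] [FiniteDimensional K W]
    (hM : (Nat.card M : K) ≠ 0) {σ : Representation K M V} {T : End K V}
    (hT : Function.Injective T) {α : MulAut M} (hα : ∀ m, T * σ m = σ (α m) * T)
    {τ : Representation K M W} (hτ : IrrRep τ) {f : W →ₗ[K] V}
    (hf : ∀ m w, f (τ m w) = σ m (f w)) (hfi : Function.Injective f) {N : ℕ}
    (hN : α ^ N ∈ repStab τ) :
    ∃ d : ℕ, d ∣ N ∧ ∃ (f' : W →ₗ[K] V) (T' : End K W), Function.Injective f' ∧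
      (∀ m w, f' (τ m w) = σ m (f' w)) ∧ (∀ w, (T ^ d) (f' w) = f' (T' w)) ∧
      ∀ w : Fin d → W, ∑ i : Fin d, (T ^ (i : ℕ)) (f' (w i)) = 0 → w = 0 := by
  have := hτ.nontrivial
  obtain ⟨d, hd⟩ := exists_forall_zpow_mem_iff (repStab τ) α
  refine ⟨d, Int.natCast_dvd_natCast.1 ((hd N).1 (by simpa using hN)), ?_⟩
  obtain ⟨e, he⟩ : α ^ d ∈ repStab τ := by simpa using (hd d).2 dvd_rfl
  have hTk : ∀ (k : ℕ) (g : W →ₗ[K] V), (∀ m w, g (τ m w) = σ m (g w)) → ∀ m w,
      (T ^ k) (g (τ ((α ^ k)⁻¹ m) w)) = σ m ((T ^ k) (g w)) := fun k g hg m w => by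
    rw [hg, ← End.mul_apply, pow_mul_rep hα, MulAut.apply_inv_self, End.mul_apply]
  let H : Submodule K (W →ₗ[K] V) :=
    { carrier := {g | ∀ m w, g (τ m w) = σ m (g w)}
      zero_mem' := fun m w => by simp
      add_mem' := fun ha hb m w => by simp [ha m w, hb m w]
      smul_mem' := fun c g hg m w => by simp [hg m w] }
  let L₀ : End K (W →ₗ[K] V) :=
    (LinearMap.llcomp K W V V (T ^ d)) ∘ₗ (LinearMap.lcomp K V (e : W →ₗ[K] W))
  have hL₀ : ∀ g w, L₀ g w = (T ^ d) (g (e w)) := fun _ _ => rfl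
  have hL : ∀ g ∈ H, L₀ g ∈ H := fun g hg m w => by
    rw [hL₀, hL₀, ← hTk d g hg, ← he, MulAut.apply_inv_self]
  have : Nontrivial H := ⟨⟨f, hf⟩, 0, fun h => by
    obtain ⟨w, hw⟩ := exists_ne (0 : W)
    exact hw (hfi (by rw [show f = 0 from congrArg Subtype.val h]; simp))⟩
  obtain ⟨c, hc⟩ := Module.End.exists_eigenvalue (L₀.restrict hL)
  obtain ⟨⟨g, hg⟩, hv⟩ := hc.exists_hasEigenvector
  have hg1 : L₀ g = c • g := congrArg Subtype.val hv.apply_eq_smul
  have hgi : Function.Injective g :=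
    (hτ.injective_or_eq_zero hg).resolve_right fun h => hv.2 (Subtype.ext h)
  refine ⟨g, c • (e.symm : End K W), hgi, hg, fun w => ?_, fun w hw => ?_⟩
  · have := LinearMap.congr_fun hg1 (e.symm w)
    rw [hL₀, e.apply_symm_apply] at this
    simpa using this
  · refine IrrRep.eq_zero_of_sum_eq_zero (σ := σ) hM
      (τ := fun i : Fin d => τ.comp ((α ^ (i : ℕ))⁻¹ : MulAut M).toMonoidHom)
      (fun i => hτ.comp ((α ^ (i : ℕ))⁻¹ : MulAut M).surjective) (fun i j e' he' => ?_)
      (f := fun i => (T ^ (i : ℕ)) ∘ₗ g) (fun i => hTk i g hg)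
      (fun i => (End.iterate_injective hT i).comp hgi) hw
    have h1 : α ^ ((j : ℤ) - (i : ℤ)) ∈ repStab τ := ⟨e', fun m w => by
      have := he' ((α ^ (j : ℕ)) m) w
      simp only [MonoidHom.comp_apply, MulEquiv.coe_toMonoidHom, MulAut.inv_apply_self] at this
      rw [← this, sub_eq_neg_add, zpow_add, zpow_neg, zpow_natCast, zpow_natCast]
      rfl⟩
    have h2 := Int.eq_zero_of_abs_lt_dvd ((hd _).1 h1) (by
      have := i.2
      have := j.2
      rw [abs_lt]
      omega)
    exact Fin.ext (by omega)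

universe u v in
/-- The degree of an irreducible representation of a `q`-group is a power of `q`. -/
theorem IrrRep.exists_finrank_eq_pow [IsAlgClosed K] {q : ℕ} [hq : Fact q.Prime]
    (hK : (q : K) ≠ 0) {M : Type u} [Group M] [Finite M] (hM : IsPGroup q M) {W : Type v}
    [AddCommGroup W] [Module K W] [FiniteDimensional K W] {τ : Representation K M W}
    (h : IrrRep τ) : ∃ k, finrank K W = q ^ k := by
  induction hn : Nat.card M using Nat.strong_induction_on generalizing M W with
  | _ n ih =>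
  rcases subsingleton_or_nontrivial M with hs | hs
  · exact ⟨0, h.finrank_eq_one_of_forall_smul fun m => ⟨1, by simp [Subsingleton.elim m 1]⟩⟩
  have := hM.isNilpotent
  obtain ⟨M₀, hM₀, -⟩ := (eq_top_or_exists_le_coatom (⊥ : Subgroup M)).resolve_left bot_ne_top
  have hn₀ : M₀.Normal := Subgroup.NormalizerCondition.normal_of_coatom M₀
    Group.normalizerCondition_of_isNilpotent hM₀
  obtain ⟨t, ht⟩ : ∃ t, t ∉ M₀ ∧ t ^ q ∈ M₀ := by
    have : Nontrivial (M ⧸ M₀) := QuotientGroup.nontrivial_iff.2 hM₀.1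
    obtain ⟨k, hk0, hk⟩ := (hM.to_quotient M₀).nontrivial_iff_card.1 this
    obtain ⟨x, hx⟩ := exists_prime_orderOf_dvd_card' (G := M ⧸ M₀) q
      (hk ▸ dvd_pow_self q hk0.ne')
    obtain ⟨t, rfl⟩ := QuotientGroup.mk_surjective x
    refine ⟨t, fun h => ?_, ?_⟩
    · rw [(QuotientGroup.eq_one_iff t).2 h, orderOf_one] at hx
      exact hq.out.one_lt.ne hx
    · rw [← QuotientGroup.eq_one_iff, QuotientGroup.mk_pow, ← hx, pow_orderOf_eq_one]
  have hc : (Nat.card M₀ : K) ≠ 0 := by
    obtain ⟨k, hk⟩ := (hM.to_subgroup M₀).exists_card_eq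
    rw [hk, Nat.cast_pow]
    exact pow_ne_zero _ hK
  have := h.nontrivial
  obtain ⟨U, -, hU, hUi⟩ := exists_irrRep_le (τ.comp M₀.subtype) (V' := ⊤) (by simp) top_ne_bot
  obtain ⟨k, hk⟩ := ih _ (hn ▸ Finite.card_subtype_lt ht.1) (hM.to_subgroup M₀) hUi rfl
  have hα : ∀ m : M₀, τ t * (τ.comp M₀.subtype) m =
      (τ.comp M₀.subtype) (MulAut.conjNormal t m) * τ t := fun m => by
    simp [← map_mul]
  obtain ⟨d, hd, f, T', hfi, hf, hT', hind⟩ := clifford_cyclic hc (σ := τ.comp M₀.subtype)
    (T := τ t) (τ.apply_bijective t).1 hα hUi (f := U.subtype) (fun _ _ => rfl)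
    U.injective_subtype (N := q) (by
      rw [← map_pow, show t ^ q = ((⟨t ^ q, ht.2⟩ : M₀) : M) from rfl, MulAut.conjNormal_val]
      exact conj_mem_repStab _ _)
  have hd0 : 0 < d := Nat.pos_of_dvd_of_pos hd hq.out.pos
  let F : (Fin d → U) →ₗ[K] W := ∑ i : Fin d, (τ t ^ (i : ℕ)) ∘ₗ f ∘ₗ LinearMap.proj i
  have hF : ∀ w, F w = ∑ i : Fin d, (τ t ^ (i : ℕ)) (f (w i)) := fun w => by
    simp [F, LinearMap.sum_apply]
  have hFi : Function.Injective F :=
    (injective_iff_map_eq_zero F).2 fun w hw => hind w (hF w ▸ hw)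
  have hmem : ∀ i < d, ∀ u, (τ t ^ i) (f u) ∈ LinearMap.range F := fun i hi u =>
    ⟨Pi.single ⟨i, hi⟩ u, by
      rw [hF, Finset.sum_eq_single ⟨i, hi⟩ (fun j _ hj => by simp [hj]) (by simp)]
      simp⟩
  have hFs : LinearMap.range F = ⊤ := by
    refine (h.irr _ fun g => ?_).resolve_left fun h0 => ?_
    · have hg : g ∈ Subgroup.closure (insert t (M₀ : Set M)) := by
        rw [hM₀.2 (Subgroup.closure (insert t (M₀ : Set M))) (lt_of_le_of_ne
          (fun x hx => Subgroup.subset_closure (Or.inr hx))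
          fun h => ht.1 (h ▸ Subgroup.subset_closure (Or.inl rfl)))]
        trivial
      rw [← Subgroup.mem_toSubmonoid, Subgroup.closure_toSubmonoid_of_finite] at hg
      induction hg using Submonoid.closure_induction with
      | one => simp
      | mul x y _ _ hx hy => exact fun w hw => by rw [map_mul]; exact hx _ (hy w hw)
      | mem x hx =>
        rintro _ ⟨w, rfl⟩
        rw [hF, map_sum]
        refine Submodule.sum_mem _ fun i _ => ?_
        rcases hx with rfl | hx
        · rw [← End.mul_apply, ← pow_succ']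
          rcases (Nat.succ_le_of_lt i.2).lt_or_eq with h1 | h1
          · exact hmem _ h1 _
          · rw [show (i : ℕ) + 1 = d from h1, hT']
            exact hmem 0 hd0 _
        · have := LinearMap.congr_fun (pow_mul_rep hα i
            ((MulAut.conjNormal t ^ (i : ℕ))⁻¹ ⟨x, hx⟩)) (f (w i))
          rw [MulAut.apply_inv_self, End.mul_apply, End.mul_apply, ← hf] at this
          exact (show _ = τ x _ from this) ▸ hmem _ i.2 _
    · have := hUi.nontrivial
      obtain ⟨u, hu⟩ := exists_ne (0 : U)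
      have := hmem 0 hd0 u
      rw [h0, Submodule.mem_bot] at this
      exact hu (hfi (by simpa using this))
  have e := (LinearEquiv.ofBijective F ⟨hFi, LinearMap.range_eq_top.1 hFs⟩).finrank_eq
  rw [Module.finrank_pi_fintype, Finset.sum_const, Finset.card_univ, Fintype.card_fin, hk,
    smul_eq_mul] at e
  rcases (Nat.dvd_prime hq.out).1 hd with rfl | rfl
  · exact ⟨k, by rw [← e, one_mul]⟩
  · exact ⟨k + 1, by rw [← e, pow_succ']⟩

end Cfsg.Agent.GT
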