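import Mathlib

/-!
# The commutant of a nilpotent operator

If `T ^ s = 0` on a space of dimension `D`, the commutant of `T` has dimension at least `D ^ 2 / s`.
-/

set_option autoImplicit false

namespace Cfsg.Agent.GT

open Module

variable {K : Type*} [Field K] {V : Type*} [AddCommGroup V] [Module K V]

/-- The endomorphisms commuting with `T`. -/
def commutant (T : End K V) : Submodule K (End K V) where
  carrier := {A | T * A = A * T}
  zero_mem' := by simp
  add_mem' := fun {a b} ha hb => by
    simp only [Set.mem_setOf_eq] at *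
    rw [mul_add, add_mul, ha, hb]
  smul_mem' := fun c a ha => by
    simp only [Set.mem_setOf_eq] at *
    rw [mul_smul_comm, smul_mul_assoc, ha]

theorem mem_commutant {T A : End K V} : A ∈ commutant T ↔ T * A = A * T := Iff.rfl

theorem commutant_sub_one (T : End K V) : commutant (T - 1) = commutant T := by
  ext A
  simp [mem_commutant, sub_mul, mul_sub]

theorem exists_flag_set (F : ℕ → Submodule K V) (hF : Monotone F) (h0 : F 0 = ⊥) (j : ℕ) :
    ∃ B : Set V, LinearIndepOn K id B ∧ B ⊆ F j ∧
      ∀ i ≤ j, F i ≤ Submodule.span K (B ∩ F i) := by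
  induction j with
  | zero => exact ⟨∅, linearIndepOn_empty _ _, Set.empty_subset _, fun i hi => by
      rw [Nat.le_zero.1 hi, h0]; exact bot_le⟩
  | succ j ih =>
    obtain ⟨B, hB, hBF, hs⟩ := ih
    obtain ⟨B', hB'F, hBB', hsp, hB'⟩ :=
      exists_linearIndepOn_id_extension hB (hBF.trans (hF j.le_succ))
    refine ⟨B', hB', hB'F, fun i hi => ?_⟩
    rcases hi.lt_or_eq with h | rfl
    · exact (hs i (Nat.lt_succ_iff.1 h)).trans
        (Submodule.span_mono (Set.inter_subset_inter_left _ hBB'))
    · rw [Set.inter_eq_left.2 hB'F]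
      exact hsp

/-- A nilpotent operator is strictly block triangular in a suitable basis. -/
theorem exists_basis_height {T : End K V} {s : ℕ} (hT : T ^ s = 0) :
    ∃ (B : Set V) (b : Basis B K V) (h : B → ℕ), (∀ i, h i < s) ∧
      ∀ i j, b.repr (T (b j)) i ≠ 0 → h i < h j := by
  classical
  obtain ⟨B, hB, -, hs⟩ := exists_flag_set (fun j => LinearMap.ker (T ^ j))
    (LinearMap.iterateKer T).monotone (by simp [Module.End.one_eq_id]) s
  have htop : ⊤ ≤ Submodule.span K (Set.range (fun x : B => (x : V))) := by
    have := hs s le_rfl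
    simp only [hT, LinearMap.ker_zero, Submodule.top_coe, Set.inter_univ] at this
    simpa using this
  let b : Basis B K V := Basis.mk (v := fun x : B => (x : V)) hB htop
  have hb : ∀ i, b i = i := fun i => Basis.mk_apply _ _ i
  have hex : ∀ v : V, ∃ k, (T ^ k) v = 0 := fun v => ⟨s, by simp [hT]⟩
  have hpos : ∀ i : B, 0 < Nat.find (hex i) := fun i => by
    rw [Nat.find_pos]
    simpa [← hb] using b.ne_zero i
  have hle : ∀ v, Nat.find (hex v) ≤ s := fun v => Nat.find_le (by simp [hT])
  refine ⟨B, b, fun i => Nat.find (hex i) - 1, fun i => ?_, fun i j hij => ?_⟩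
  · have := hpos i
    have := hle i
    change Nat.find (hex i) - 1 < s
    omega
  · have h1 : T (b j) ∈ LinearMap.ker (T ^ (Nat.find (hex j) - 1)) := by
      rw [LinearMap.mem_ker, ← End.mul_apply, ← pow_succ, Nat.sub_add_cancel (hpos j), hb]
      exact Nat.find_spec (hex j)
    have h2 := hs _ ((Nat.sub_le _ _).trans (hle j)) h1
    have e : B ∩ (LinearMap.ker (T ^ (Nat.find (hex j) - 1)) : Set V) =
        b '' {i | (T ^ (Nat.find (hex j) - 1)) i = 0} := by
      ext v
      constructor
      · rintro ⟨hv, hv'⟩
        exact ⟨⟨v, hv⟩, hv', hb _⟩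
      · rintro ⟨i, hi, rfl⟩
        rw [hb]
        exact ⟨i.2, hi⟩
    rw [e, Basis.mem_span_image] at h2
    have h3 : Nat.find (hex i) ≤ Nat.find (hex j) - 1 :=
      Nat.find_le (h2 (Finsupp.mem_support_iff.2 hij))
    have := hpos i
    change Nat.find (hex i) - 1 < Nat.find (hex j) - 1
    omega

theorem card_sq_le_mul_card_pairs {ι : Type*} [Fintype ι] (h : ι → ℕ) {s : ℕ}
    (hs : ∀ i, h i < s) :
    Fintype.card ι ^ 2 ≤ s * Fintype.card {x : ι × ι // h x.1 = h x.2} := by
  classical
  have e1 : Fintype.card ι = ∑ a ∈ Finset.range s, (Finset.univ.filter fun i => h i = a).card :=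
    Finset.card_eq_sum_card_fiberwise fun i _ => by simpa using hs i
  have e2 : Fintype.card {x : ι × ι // h x.1 = h x.2} =
      ∑ a ∈ Finset.range s, (Finset.univ.filter fun i => h i = a).card ^ 2 := by
    rw [Fintype.card_subtype, Finset.card_eq_sum_card_fiberwise (f := fun x => h x.1)
      (t := Finset.range s) fun x _ => by simpa using hs x.1]
    refine Finset.sum_congr rfl fun a _ => ?_
    rw [sq, ← Finset.card_product]
    congr 1
    ext x
    simp only [Finset.mem_filter, Finset.mem_univ, true_and, Finset.mem_product]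
    omega
  rw [e1, e2]
  simpa using sq_sum_le_card_mul_sum_sq (s := Finset.range s)
    (f := fun a => (Finset.univ.filter fun i => h i = a).card)

theorem finrank_sq_le_mul_finrank_commutant [FiniteDimensional K V] {T : End K V} {s : ℕ}
    (hT : T ^ s = 0) : finrank K V ^ 2 ≤ s * finrank K (commutant T) := by
  classical
  obtain ⟨B, b, h, hs, hA⟩ := exists_basis_height hT
  have := FiniteDimensional.fintypeBasisIndex b
  rw [finrank_eq_card_basis b]
  refine (card_sq_le_mul_card_pairs h hs).trans (Nat.mul_le_mul_left _ ?_)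
  set A := LinearMap.toMatrix b b T with hAdef
  have hA' : ∀ i j, A i j ≠ 0 → h i < h j := fun i j hij =>
    hA i j (by rwa [hAdef, LinearMap.toMatrix_apply] at hij)
  let ex : ({x : B × B // h x.1 ≤ h x.2} → K) →ₗ[K] Matrix B B K :=
    { toFun := fun f => Matrix.of fun i j => if H : h i ≤ h j then f ⟨(i, j), H⟩ else 0
      map_add' := fun f g => by
        ext i j
        by_cases H : h i ≤ h j <;> simp [H]
      map_smul' := fun c f => by
        ext i j
        by_cases H : h i ≤ h j <;> simp [H] }
  have hex : ∀ f i j, ex f i j = if H : h i ≤ h j then f ⟨(i, j), H⟩ else 0 := fun _ _ _ => rfl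
  have hexi : Function.Injective ex := fun f g hfg => by
    ext ⟨⟨i, j⟩, H⟩
    have := congrFun (congrFun hfg i) j
    simpa [hex, show h i ≤ h j from H] using this
  let Ψ : ({x : B × B // h x.1 ≤ h x.2} → K) →ₗ[K] ({x : B × B // h x.1 < h x.2} → K) :=
    { toFun := fun f x => (A * ex f - ex f * A) x.1.1 x.1.2
      map_add' := fun f g => by
        ext x
        simp only [map_add, mul_add, add_mul, Matrix.sub_apply, Matrix.add_apply, Pi.add_apply]
        ring
      map_smul' := fun c f => by
        ext x
        simp [mul_sub] }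
  have hker : ∀ f ∈ LinearMap.ker Ψ, A * ex f = ex f * A := fun f hf => by
    ext i j
    by_cases H : h i < h j
    · exact sub_eq_zero.1 (congrFun (LinearMap.mem_ker.1 hf) ⟨(i, j), H⟩)
    · rw [Matrix.mul_apply, Matrix.mul_apply, Finset.sum_eq_zero, Finset.sum_eq_zero]
      · intro k _
        by_cases h1 : A k j = 0
        · rw [h1, mul_zero]
        · rw [hex, dif_neg (by have := hA' _ _ h1; omega), zero_mul]
      · intro k _
        by_cases h1 : A i k = 0
        · rw [h1, zero_mul]
        · rw [hex, dif_neg (by have := hA' _ _ h1; omega), mul_zero]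
  have h1 : finrank K (LinearMap.ker Ψ) ≤ finrank K (commutant T) := by
    refine LinearMap.finrank_le_finrank_of_injective
      (f := LinearMap.codRestrict (commutant T)
        ((Matrix.toLin b b).toLinearMap ∘ₗ ex ∘ₗ (LinearMap.ker Ψ).subtype) fun f => ?_) ?_
    · rw [mem_commutant, ← Matrix.toLin_toMatrix b b T, ← hAdef]
      change Matrix.toLin b b A ∘ₗ Matrix.toLin b b (ex f) =
        Matrix.toLin b b (ex f) ∘ₗ Matrix.toLin b b A
      rw [← Matrix.toLin_mul, ← Matrix.toLin_mul, hker f f.2]
    · intro f g hfg
      exact Subtype.ext (hexi ((Matrix.toLin b b).injective (congrArg Subtype.val hfg)))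
  have h2 := LinearMap.finrank_range_add_finrank_ker Ψ
  have h3 := Submodule.finrank_le (LinearMap.range Ψ)
  rw [Module.finrank_fintype_fun_eq_card] at h2 h3
  have h4 : Fintype.card {x : B × B // h x.1 ≤ h x.2} =
      Fintype.card {x : B × B // h x.1 < h x.2} + Fintype.card {x : B × B // h x.1 = h x.2} := by
    simp only [Fintype.card_subtype]
    rw [← Finset.card_union_of_disjoint (Finset.disjoint_filter.2 fun x _ h1 => h1.ne),
      ← Finset.filter_or]
    simp only [le_iff_lt_or_eq]
  omega

theorem pow_finrank_eq_zero [FiniteDimensional K V] {T : End K V} (hT : IsNilpotent T) :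
    T ^ finrank K V = 0 := by
  have := T.aeval_self_charpoly
  rwa [hT.charpoly_eq_X_pow_finrank, map_pow, Polynomial.aeval_X] at this

theorem finrank_le_finrank_commutant [FiniteDimensional K V] {T : End K V} (hT : IsNilpotent T) :
    finrank K V ≤ finrank K (commutant T) := by
  have := finrank_sq_le_mul_finrank_commutant (pow_finrank_eq_zero hT)
  rcases Nat.eq_zero_or_pos (finrank K V) with h | h
  · omega
  · rw [sq] at this
    exact Nat.le_of_mul_le_mul_left this h

/-- The number of Jordan blocks of maximal size. -/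
theorem mul_finrank_range_pow_le [FiniteDimensional K V] {S : End K V} {k : ℕ}
    (hS : S ^ (k + 1) = 0) : (k + 1) * finrank K (LinearMap.range (S ^ k)) ≤ finrank K V := by
  have key : ∀ j ≤ k + 1, j * finrank K (LinearMap.range (S ^ k)) +
      finrank K (LinearMap.range (S ^ j)) ≤ finrank K V := by
    intro j
    induction j with
    | zero => exact fun _ => by simpa using Submodule.finrank_le _
    | succ j ih =>
      intro hj
      have h1 := LinearMap.finrank_range_add_finrank_ker
        (S.domRestrict (LinearMap.range (S ^ j)))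
      rw [LinearMap.range_domRestrict, ← LinearMap.range_comp, ← Module.End.mul_eq_comp,
        ← pow_succ', LinearMap.ker_domRestrict, ← Submodule.finrank_map_subtype_eq,
        Submodule.map_comap_subtype] at h1
      have h2 : LinearMap.range (S ^ k) ≤ LinearMap.range (S ^ j) ⊓ LinearMap.ker S := by
        rintro _ ⟨v, rfl⟩
        refine ⟨⟨(S ^ (k - j)) v, ?_⟩, ?_⟩
        · rw [← End.mul_apply, ← pow_add, Nat.add_sub_cancel' (by omega)]
        · change S _ = 0
          rw [← End.mul_apply, ← pow_succ', hS, LinearMap.zero_apply]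
      have h3 := Submodule.finrank_mono h2
      have := ih (by omega)
      rw [add_mul]
      omega
  exact le_trans (Nat.le_add_right _ _) (key _ le_rfl)

theorem sub_one_pow_char_pow {p : ℕ} [Fact p.Prime] [CharP K p] {R : Type*} [Ring R]
    [Algebra K R] (x : R) (n : ℕ) : (x - 1) ^ p ^ n = x ^ p ^ n - 1 := by
  have := congrArg (Polynomial.aeval x)
    (sub_pow_char_pow (Polynomial.X : Polynomial K) 1 (p := p) (n := n))
  simpa using this

theorem geom_sum_char_pow {p : ℕ} [hp : Fact p.Prime] [CharP K p] {R : Type*} [Ring R]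
    [Algebra K R] (x : R) (n : ℕ) :
    ∑ i ∈ Finset.range (p ^ n), x ^ i = (x - 1) ^ (p ^ n - 1) := by
  have h : ∑ i ∈ Finset.range (p ^ n), (Polynomial.X : Polynomial K) ^ i =
      (Polynomial.X - 1) ^ (p ^ n - 1) := by
    refine mul_right_cancel₀ (Polynomial.X_sub_C_ne_zero (1 : K)) ?_
    rw [map_one, geom_sum_mul, ← pow_succ, Nat.sub_add_cancel (Nat.one_le_pow _ _ hp.out.pos),
      sub_pow_char_pow, one_pow]
  simpa [map_sum] using congrArg (Polynomial.aeval x) h

end Cfsg.Agent.GT
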