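import Mathlib
import Cfsg.Agent.GT.ModRep
import Cfsg.Agent.GT.NilpCommutant
import Cfsg.Agent.GT.ElemAbRep
import Cfsg.Agent.GT.CoprimeNilp
import Cfsg.Agent.GT.PSolvable
import Cfsg.Agent.GT.Conj

/-!
# Theorem B of Hall and Higman
-/

set_option autoImplicit false

namespace Cfsg.Agent.GT

open Module

theorem sum_mem_of_free {K Γ X E : Type*} [Field K] [Group Γ] [MulAction Γ X] [AddCommGroup E]
    [Module K E] {α : Γ} {N : ℕ} (hN : α ^ N = 1) (hN0 : 0 < N) (S : Submodule K E) (F : X → E)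
    (Y : Finset X) (hY : ∀ y ∈ Y, α • y ∈ Y)
    (hfree : ∀ y ∈ Y, ∀ k, 0 < k → k < N → α ^ k • y ≠ y)
    (hS : ∀ y ∈ Y, ∑ i ∈ Finset.range N, F (α ^ i • y) ∈ S) : ∑ y ∈ Y, F y ∈ S := by
  classical
  induction Y using Finset.strongInduction with
  | _ Y ih =>
  rcases Y.eq_empty_or_nonempty with rfl | ⟨y, hy⟩
  · simp
  have hYk : ∀ k : ℕ, α ^ k • y ∈ Y := fun k => by
    induction k with
    | zero => simpa using hy
    | succ k ih => rw [pow_succ', mul_smul]; exact hY _ ih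
  have key : ∀ i j, i < j → j < N → α ^ i • y ≠ α ^ j • y := fun i j hij hj h =>
    hfree y hy (j - i) (by omega) (by omega) (by
      rw [← smul_left_cancel_iff (α ^ i), ← mul_smul, ← pow_add, Nat.add_sub_cancel' hij.le, h])
  have hinj : Set.InjOn (fun i : ℕ => α ^ i • y) (Finset.range N : Set ℕ) := by
    intro i hi j hj h
    simp only [Finset.coe_range, Set.mem_Iio] at hi hj
    rcases lt_trichotomy i j with h1 | h1 | h1
    · exact absurd h (key i j h1 hj)
    · exact h1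
    · exact absurd h.symm (key j i h1 hi)
  have hO : (Finset.range N).image (fun i => α ^ i • y) ⊆ Y := by
    intro z hz
    obtain ⟨i, -, rfl⟩ := Finset.mem_image.1 hz
    exact hYk i
  rw [← Finset.sum_sdiff hO, Finset.sum_image hinj]
  refine S.add_mem (ih _ (Finset.sdiff_ssubset hO ⟨y, Finset.mem_image.2
    ⟨0, Finset.mem_range.2 hN0, by simp⟩⟩) (fun z hz => ?_)
    (fun z hz => hfree z (Finset.mem_sdiff.1 hz).1)
    (fun z hz => hS z (Finset.mem_sdiff.1 hz).1)) (hS y hy)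
  obtain ⟨hz, hz'⟩ := Finset.mem_sdiff.1 hz
  refine Finset.mem_sdiff.2 ⟨hY z hz, fun h => hz' ?_⟩
  obtain ⟨i, -, hi⟩ := Finset.mem_image.1 h
  refine Finset.mem_image.2 ⟨(N - 1 + i) % N, Finset.mem_range.2 (Nat.mod_lt _ hN0), ?_⟩
  rw [← pow_eq_pow_mod _ hN, pow_add, mul_smul, hi, ← mul_smul, ← pow_succ,
    Nat.sub_add_cancel hN0, hN, one_smul]

theorem pow_smul_ne_of_prime_pow {Γ X : Type*} [Group Γ] [MulAction Γ X] {α : Γ} {p n : ℕ}
    (hp : p.Prime) (hα : α ^ p ^ (n + 1) = 1) {y : X} (hy : α ^ p ^ n • y ≠ y) {k : ℕ}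
    (h0 : 0 < k) (hk : k < p ^ (n + 1)) : α ^ k • y ≠ y := by
  rw [Ne, MulAction.pow_smul_eq_iff_period_dvd] at hy ⊢
  intro h
  obtain ⟨j, hj, e⟩ := (Nat.dvd_prime_pow hp).1
    (MulAction.pow_smul_eq_iff_period_dvd.1 (show α ^ p ^ (n + 1) • y = y by rw [hα, one_smul]))
  rcases hj.lt_or_eq with h1 | rfl
  · exact hy (e ▸ pow_dvd_pow p (Nat.lt_succ_iff.1 h1))
  · exact absurd (Nat.le_of_dvd h0 (e ▸ h)) hk.not_ge

variable {K : Type*} [Field K] {p : ℕ} [hp : Fact p.Prime] [CharP K p]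

section Core

variable [IsAlgClosed K] {M : Type*} [Group M] [Finite M] {W : Type*} [AddCommGroup W]
  [Module K W] [FiniteDimensional K W]

theorem mul_finrank_commutant_le (hM : (Nat.card M : K) ≠ 0) {τ : Representation K M W}
    (hτ : IrrRep τ) {T : End K W} {α : MulAut M} (hα : ∀ m, T * τ m = τ (α m) * T) {n : ℕ}
    (hT : T ^ p ^ (n + 1) = 1) (hαn : α ^ p ^ (n + 1) = 1)
    (hfix : ∀ m, (α ^ p ^ n) m = m → ∃ c : K, τ m = c • (1 : End K W)) :
    p ^ (n + 1) * finrank K (commutant T) + 1 ≤ p ^ (n + 1) + finrank K W ^ 2 := by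
  classical
  have := Fintype.ofFinite M
  set N := p ^ (n + 1) with hN
  have hN0 : 0 < N := Nat.pow_pos hp.out.pos
  have hTT : T * T ^ (N - 1) = 1 := by rw [← pow_succ', Nat.sub_add_cancel hN0, hT]
  have hTT' : T ^ (N - 1) * T = 1 := by rw [← pow_succ, Nat.sub_add_cancel hN0, hT]
  let U : End K (End K W) := LinearMap.mulLeftRight K (T, T ^ (N - 1))
  have hU : ∀ A, U A = T * A * T ^ (N - 1) := fun A => rfl
  have hUk : ∀ (k : ℕ) A, (U ^ k) A = T ^ k * A * (T ^ (N - 1)) ^ k := fun k A => by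
    induction k with
    | zero => simp
    | succ k ih => rw [pow_succ', End.mul_apply, ih, hU, pow_succ', pow_succ]; simp [mul_assoc]
  have hUτ : ∀ (k : ℕ) m, (U ^ k) (τ m) = τ ((α ^ k) m) := fun k m => by
    rw [hUk, pow_mul_rep hα, mul_assoc, ← (Commute.self_pow T _).mul_pow, hTT, one_pow, mul_one]
  have hUN : U ^ N = 1 := LinearMap.ext fun A => by
    rw [hUk, hT, ← pow_mul, mul_comm (N - 1), pow_mul, hT]
    simp
  have hS : (U - 1) ^ (N - 1 + 1) = 0 := by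
    rw [Nat.sub_add_cancel hN0, sub_one_pow_char_pow (K := K), hUN, sub_self]
  have h1 := mul_finrank_range_pow_le hS
  rw [Nat.sub_add_cancel hN0, Module.finrank_linearMap, ← sq] at h1
  set R := LinearMap.range ((U - 1) ^ (N - 1)) with hR
  have h2 : commutant T ≤ (K ∙ (1 : End K W)) ⊔ R := by
    intro A hA
    have hκ := div_ne_zero hM (hτ.finrank_ne_zero hM)
    rw [← Submodule.smul_mem_iff _ hκ, ← hτ.sum_trace_smul hM,
      ← Finset.sum_filter_add_sum_filter_not _ (fun m => (α ^ p ^ n) m = m)]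
    refine Submodule.add_mem_sup (Submodule.sum_mem _ fun m hm => ?_) ?_
    · obtain ⟨c, hc⟩ := hfix m (Finset.mem_filter.1 hm).2
      rw [hc]
      exact Submodule.smul_mem _ _ (Submodule.smul_mem _ _ (Submodule.mem_span_singleton_self _))
    have ha : ∀ m, LinearMap.trace K W (A * τ (α m)⁻¹) = LinearMap.trace K W (A * τ m⁻¹) := by
      intro m
      rw [← map_inv, ← mul_one (τ (α m⁻¹)), ← hTT, ← mul_assoc (τ _), ← hα, ← mul_assoc,
        LinearMap.trace_mul_comm, ← mul_assoc A, ← mem_commutant.1 hA, ← mul_assoc, ← mul_assoc,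
        hTT', one_mul]
    have hak : ∀ (k : ℕ) m, LinearMap.trace K W (A * τ ((α ^ k) m)⁻¹) =
        LinearMap.trace K W (A * τ m⁻¹) := fun k m => by
      induction k with
      | zero => rfl
      | succ k ih => rw [pow_succ', MulAut.mul_apply, ha, ih]
    refine sum_mem_of_free hαn hN0 R _ _ (fun y hy => ?_)
      (fun y hy k => pow_smul_ne_of_prime_pow hp.out hαn (Finset.mem_filter.1 hy).2)
      (fun y _ => ?_)
    · simp only [Finset.mem_filter, Finset.mem_univ, true_and, MulAut.smul_def] at hy ⊢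
      rw [← MulAut.mul_apply, ← pow_succ, pow_succ', MulAut.mul_apply]
      exact fun h => hy (α.injective h)
    · simp only [MulAut.smul_def, hak, ← Finset.smul_sum, ← hUτ]
      refine R.smul_mem _ ⟨τ y, ?_⟩
      rw [← geom_sum_char_pow (K := K), LinearMap.sum_apply]
  have h3 : finrank K (commutant T) ≤ 1 + finrank K R := by
    have := hτ.nontrivial
    refine (Submodule.finrank_mono h2).trans ((Submodule.finrank_add_le_finrank_add_finrank _ _).trans ?_)
    rw [finrank_span_singleton one_ne_zero]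
  have h4 : N * finrank K R ≠ finrank K W ^ 2 := fun h => hτ.finrank_ne_zero hM (by
    have := congrArg (Nat.cast : ℕ → K) h
    rw [Nat.cast_mul, hN, Nat.cast_pow, CharP.cast_eq_zero, zero_pow n.succ_ne_zero, zero_mul,
      Nat.cast_pow] at this
    exact pow_eq_zero_iff two_ne_zero |>.1 this.symm)
  have := Nat.mul_le_mul_left N h3
  rw [mul_add, mul_one] at this
  omega

/-- The critical case of Theorem B. -/
theorem hallHigman_core (hM : (Nat.card M : K) ≠ 0) {τ : Representation K M W}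
    (hτ : IrrRep τ) {T : End K W} {α : MulAut M} (hα : ∀ m, T * τ m = τ (α m) * T) {n : ℕ}
    (hT : T ^ p ^ (n + 1) = 1) (hαn : α ^ p ^ (n + 1) = 1)
    (hfix : ∀ m, (α ^ p ^ n) m = m → ∃ c : K, τ m = c • (1 : End K W)) (hD : finrank K W ≠ 1)
    {s : ℕ} (hs : (T - 1) ^ s = 0) (hlt : s < p ^ (n + 1)) :
    s + 1 = p ^ (n + 1) ∧ finrank K W + 1 = p ^ (n + 1) := by
  have h1 := mul_finrank_commutant_le hM hτ hα hT hαn hfix
  have h2 := finrank_sq_le_mul_finrank_commutant hs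
  have h3 := finrank_le_finrank_commutant ⟨s, hs⟩
  have h4 := hτ.finrank_pos
  rw [commutant_sub_one] at h2 h3
  generalize p ^ (n + 1) = N at *
  generalize finrank K (commutant T) = c at *
  generalize finrank K W = D at *
  obtain ⟨N, rfl⟩ : ∃ N', N = N' + 1 := ⟨N - 1, by omega⟩
  obtain ⟨D, rfl⟩ : ∃ D', D = D' + 2 := ⟨D - 2, by omega⟩
  have h5 : (D + 2) ^ 2 ≤ N * c := h2.trans (Nat.mul_le_mul_right _ (by omega))
  have h6 : c ≤ N := by nlinarith
  have h7 : N ≤ D + 2 := by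
    by_contra h
    have : (D + 1) * (D + 4) ≤ (D + 1) * (N + 1) := Nat.mul_le_mul_left _ (by omega)
    have : (N + 1) * (D + 2) ≤ (N + 1) * c := Nat.mul_le_mul_left _ h3
    nlinarith
  have h8 : N = D + 2 := by omega
  subst h8
  have h9 : c = D + 2 := by omega
  subst h9
  rw [sq] at h2
  have := Nat.le_of_mul_le_mul_right h2 h4
  omega

variable {V : Type*} [AddCommGroup V] [Module K V] [FiniteDimensional K V]

/-- Theorem B relative to one irreducible constituent `τ` of the normalized representation. -/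
theorem hallHigman_irr (hM : (Nat.card M : K) ≠ 0) {σ : Representation K M V} {T : End K V}
    {α : MulAut M} (hα : ∀ m, T * σ m = σ (α m) * T) {n : ℕ}
    (hT : T ^ p ^ (n + 1) = 1) (hαn : α ^ p ^ (n + 1) = 1) {τ : Representation K M W}
    (hτ : IrrRep τ) {f : W →ₗ[K] V} (hf : ∀ m w, f (τ m w) = σ m (f w))
    (hfi : Function.Injective f)
    (hfix : ∀ m, (α ^ p ^ n) m = m → ∃ c : K, τ m = c • (1 : End K W))
    (hne : ∃ m, τ ((α ^ p ^ n) m) ≠ τ m) {r : ℕ} (hr : (T - 1) ^ r = 0) :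
    p ^ (n + 1) ≤ r ∨ ∃ k ≤ n, finrank K W + 1 = p ^ (k + 1) ∧ finrank K W ≠ 1 ∧
      p ^ (n - k) * (p ^ (k + 1) - 1) ≤ r ∧ α ^ p ^ (n - k) ∈ repStab τ := by
  have hTi : Function.Injective T := by
    refine Function.Injective.of_comp (f := ⇑(T ^ (p ^ (n + 1) - 1))) ?_
    rw [← Module.End.coe_mul, ← pow_succ, Nat.sub_add_cancel (Nat.pow_pos hp.out.pos), hT]
    exact Function.injective_id
  obtain ⟨d, hd, f', T', hfi', hf', hT', hind⟩ :=
    clifford_cyclic hM hTi hα hτ hf hfi (N := p ^ (n + 1)) (by rw [hαn]; exact one_mem _)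
  obtain ⟨a, ha, rfl⟩ := (Nat.dvd_prime_pow hp.out).1 hd
  have := hτ.nontrivial
  have hpow : ∀ (k : ℕ) w, ((T ^ p ^ a) ^ k) (f' w) = f' ((T' ^ k) w) := fun k w => by
    induction k with
    | zero => rfl
    | succ k ih => rw [pow_succ', End.mul_apply, ih, hT', pow_succ', End.mul_apply]
  have hpow' : ∀ (k : ℕ) w, ((T ^ p ^ a - 1) ^ k) (f' w) = f' (((T' - 1) ^ k) w) :=
    fun k w => by
      induction k with
      | zero => rfl
      | succ k ih =>
        rw [pow_succ', End.mul_apply, ih, pow_succ', End.mul_apply]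
        simp [hT']
  have hlow : ∀ j, (T' - 1) ^ j ≠ 0 → p ^ a * (j + 1) ≤ r := fun j hj => by
    by_contra hc
    refine hj (LinearMap.ext fun w => ?_)
    have h0 : 0 < p ^ a := Nat.pow_pos hp.out.pos
    have h1 : (T - 1) ^ (p ^ a - 1 + p ^ a * j) = 0 :=
      pow_eq_zero_of_le (by rw [mul_add] at hc; omega) hr
    have h2 := LinearMap.congr_fun h1 (f' w)
    rw [pow_add, pow_mul, sub_one_pow_char_pow (K := K), End.mul_apply, hpow',
      ← geom_sum_char_pow (K := K), LinearMap.sum_apply, ← Fin.sum_univ_eq_sum_range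
        (fun i => (T ^ i) (f' (((T' - 1) ^ j) w)))] at h2
    exact congrFun (hind _ h2) ⟨0, h0⟩
  rcases ha.lt_or_eq with ha | rfl
  swap
  · exact Or.inl (by simpa using hlow 0 (by simp))
  obtain ⟨k, rfl⟩ : ∃ k, n = a + k := ⟨n - a, by omega⟩
  have hT1 : T' ^ p ^ (k + 1) = 1 := LinearMap.ext fun w => hfi' (by
    rw [← hpow, ← pow_mul, ← pow_add, ← add_assoc, hT]; rfl)
  have hα' : ∀ m, T' * τ m = τ ((α ^ p ^ a) m) * T' := fun m => LinearMap.ext fun w => hfi' (by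
    rw [End.mul_apply, End.mul_apply, ← hT', hf', hf', ← hT', ← End.mul_apply, pow_mul_rep hα,
      End.mul_apply])
  have hnil : (T' - 1) ^ p ^ (k + 1) = 0 := by
    rw [sub_one_pow_char_pow (K := K), hT1, sub_self]
  have hD : finrank K W ≠ 1 := fun h => by
    have h1 := pow_finrank_eq_zero ⟨_, hnil⟩
    rw [h, pow_one, sub_eq_zero] at h1
    obtain ⟨m, hm⟩ := hne
    have := pow_mul_rep hα' (p ^ k) m
    rw [h1, one_pow, one_mul, mul_one, ← pow_mul, ← pow_add] at this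
    exact hm this.symm
  have hc := fun s => hallHigman_core hM hτ hα' hT1 (by rw [← pow_mul, ← pow_add, ← hαn]; rfl)
    (fun m hm => hfix m (by rwa [← pow_mul, ← pow_add] at hm)) hD (s := s)
  have h2 : 2 ≤ p ^ (k + 1) := Nat.one_lt_pow k.succ_ne_zero hp.out.one_lt
  by_cases h : (T' - 1) ^ (p ^ (k + 1) - 1) = 0
  · refine Or.inr ⟨k, by omega, (hc _ h (by omega)).2, hD, ?_, ?_⟩
    · have := hlow (p ^ (k + 1) - 2) fun h' => by
        have := (hc _ h' (by omega)).1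
        omega
      rwa [Nat.add_sub_cancel, show p ^ (k + 1) - 1 = p ^ (k + 1) - 2 + 1 by omega]
    · rw [Nat.add_sub_cancel]
      have hb : T' * T' ^ (p ^ (k + 1) - 1) = 1 := by
        rw [← pow_succ', Nat.sub_add_cancel (by omega), hT1]
      have hb' : T' ^ (p ^ (k + 1) - 1) * T' = 1 := by
        rw [← pow_succ, Nat.sub_add_cancel (by omega), hT1]
      refine ⟨LinearEquiv.ofLinear _ _ hb' hb, fun m w => ?_⟩
      change (T' ^ (p ^ (k + 1) - 1) * τ _) w = (τ m * T' ^ (p ^ (k + 1) - 1)) w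
      rw [← mul_one (τ ((α ^ p ^ a) m)), ← hb, ← mul_assoc (τ _), ← hα', ← mul_assoc,
        ← mul_assoc, hb', one_mul]
  · refine Or.inl ?_
    have := hlow _ h
    rwa [Nat.sub_add_cancel (by omega), ← pow_add] at this

end Core

open Subgroup
open scoped commutatorElement

variable {G : Type*} [Group G] [Finite G] {V : Type*} [AddCommGroup V] [Module K V]
  [FiniteDimensional K V]

omit [Finite G] in
theorem coe_normalizerMonoidHom_pow {Q : Subgroup G} {x : G} (hx : x ∈ normalizer (Q : Set G))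
    (k : ℕ) (m : Q) : ((Q.normalizerMonoidHom ⟨x, hx⟩ ^ k) m : G) = x ^ k * m * (x ^ k)⁻¹ := by
  rw [← map_pow]
  rfl

theorem natCast_card_ne_zero (K : Type*) [Field K] [CharP K p] {M : Type*} [Group M]
    (h : (Nat.card M).Coprime p) : (Nat.card M : K) ≠ 0 := by
  rw [Ne, CharP.cast_eq_zero_iff K p]
  exact hp.out.coprime_iff_not_dvd.1 h.symm

theorem hallHigman_rep [IsAlgClosed K] (ρ : Representation K G V) {q : ℕ} [hq : Fact q.Prime]
    (hqp : q ≠ p) {Q : Subgroup G} (hQ : IsPGroup q Q) {x : G}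
    (hxQ : x ∈ normalizer (Q : Set G)) {n : ℕ} (hx : x ^ p ^ (n + 1) = 1)
    (hfix : Q ⊓ centralizer (zpowers (x ^ p ^ n) : Set G) ≤ centralizer (Q : Set G))
    (hgen : ⁅Q, zpowers (x ^ p ^ n)⁆ = Q) (hne : ∃ m ∈ Q, ρ m ≠ 1) {r : ℕ}
    (hr : (ρ x - 1) ^ r = 0) :
    p ^ (n + 1) ≤ r ∨ ∃ n₀ m, 1 ≤ n₀ ∧ n₀ ≤ n + 1 ∧ 1 ≤ m ∧ p ^ n₀ - 1 = q ^ m ∧
      ¬ IsMulCommutative Q ∧ p ^ (n + 1 - n₀) * (p ^ n₀ - 1) ≤ r := by
  have hqK : (q : K) ≠ 0 := by
    rw [Ne, CharP.cast_eq_zero_iff K p, Nat.prime_dvd_prime_iff_eq hp.out hq.out]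
    exact hqp.symm
  have hM : (Nat.card Q : K) ≠ 0 := by
    obtain ⟨k, hk⟩ := hQ.exists_card_eq
    rw [hk, Nat.cast_pow]
    exact pow_ne_zero _ hqK
  obtain ⟨m₀, hm₀, hne⟩ := hne
  obtain ⟨U, hU, hτ, m₁, hm₁⟩ := exists_irrRep_ne_one hM (ρ.comp Q.subtype) (m₀ := ⟨m₀, hm₀⟩) hne
  set τ := Representation.subrepresentation (ρ.comp Q.subtype) U hU with hτdef
  have hcen : ∀ m : Q, (m : G) ∈ centralizer (Q : Set G) → ∃ c : K, τ m = c • 1 :=
    fun m hm => hτ.exists_eq_smul fun g => by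
      rw [← map_mul, ← map_mul]
      exact congrArg τ (Subtype.ext (hm g g.2).symm)
  have e := coe_normalizerMonoidHom_pow hxQ
  have hf : ∀ m, (Q.normalizerMonoidHom ⟨x, hxQ⟩ ^ p ^ n) m = m → ∃ c : K, τ m = c • 1 := by
    refine fun m hm => hcen m (hfix (mem_inf.2 ⟨m.2, ?_⟩))
    rw [centralizer_zpowers, mem_centralizer_singleton_iff, eq_comm,
      ← mul_inv_eq_iff_eq_mul, ← e, hm]
  have hn : ∃ m, τ ((Q.normalizerMonoidHom ⟨x, hxQ⟩ ^ p ^ n) m) ≠ τ m := by
    by_contra hc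
    push Not at hc
    have hj : ∀ (j : ℕ) m, τ (((Q.normalizerMonoidHom ⟨x, hxQ⟩ ^ p ^ n) ^ j) m) = τ m :=
      fun j => by
        induction j with
        | zero => exact fun _ => rfl
        | succ j ih => exact fun m => by rw [pow_succ', MulAut.mul_apply, hc, ih]
    have : Q ≤ τ.ker.map Q.subtype := by
      refine hgen.ge.trans (commutator_le.2 fun g hg y hy => ?_)
      obtain ⟨j, rfl⟩ := mem_powers_iff_mem_zpowers.2 hy
      refine ⟨⟨g, hg⟩ * (((Q.normalizerMonoidHom ⟨x, hxQ⟩ ^ p ^ n) ^ j) ⟨g, hg⟩)⁻¹, ?_, ?_⟩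
      · rw [SetLike.mem_coe, MonoidHom.mem_ker, ← map_inv, map_mul, hj, ← map_mul, mul_inv_cancel,
          map_one]
      · simp only [← pow_mul, coe_subtype, coe_mul, coe_inv, e, commutatorElement_def]
        group
    obtain ⟨m, hm, hm'⟩ := this m₁.2
    exact hm₁ (Subtype.ext hm' ▸ hm)
  rcases hallHigman_irr hM (σ := ρ.comp Q.subtype) (T := ρ x)
    (α := Q.normalizerMonoidHom ⟨x, hxQ⟩) (fun m => by
      change ρ x * ρ m = ρ (x * m * x⁻¹) * ρ x
      simp [← map_mul]) (n := n) (by rw [← map_pow, hx, map_one])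
    (by ext m; rw [e, hx]; simp) hτ (f := U.subtype) (fun _ _ => rfl) U.injective_subtype
    hf hn hr with h | ⟨k, hk, h1, h2, h3, -⟩
  · exact Or.inl h
  · obtain ⟨m, hm⟩ := hτ.exists_finrank_eq_pow hqK hQ
    refine Or.inr ⟨k + 1, m, by omega, by omega, ?_, by omega, fun hc => h2 ?_, ?_⟩
    · rcases m with _ | m
      · exact absurd hm h2
      · omega
    · exact hτ.finrank_eq_one_of_forall_smul fun m => hcen m fun g hg =>
        congrArg Subtype.val (hc.is_comm.comm ⟨g, hg⟩ m)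
    · rwa [Nat.add_sub_add_right]

omit [CharP K p] in
/-- A minimal invariant subgroup not centralized by `A` is a group of prime power order. -/
theorem exists_isPGroup_minimal_not_centralized {B A R : Subgroup G} (hB : IsPGroup p B)
    (hAB : A ≤ B) (hBA : B ≤ normalizer (A : Set G)) (hR : (Nat.card R).Coprime p)
    (hBR : B ≤ normalizer (R : Set G)) (hA : ¬ A ≤ centralizer (R : Set G)) :
    ∃ q : ℕ, q.Prime ∧ q ≠ p ∧ ∃ Q ≤ R, IsPGroup q Q ∧ B ≤ normalizer (Q : Set G) ∧ Q ≠ ⊥ ∧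
      ⁅Q, A⁆ = Q ∧ Q ⊓ centralizer (A : Set G) = ⁅Q, Q⁆ ∧ ⁅Q, Q⁆ ≤ centralizer (Q : Set G) ∧
      (frattini Q).map Q.subtype = ⁅Q, Q⁆ ∧
      ∀ U < Q, B ≤ normalizer (U : Set G) → ⁅U, A⁆ = ⊥ := by
  obtain ⟨Q, hQR, hBQ, hAQ, hne, hmin⟩ := CopAct.exists_minimal_not_centralized hBR
    (hAB.trans hBR) (fun h => hA (CopAct.commutator_eq_bot_iff.1 h))
  have hQc : (Nat.card Q).Coprime p := hR.coprime_dvd_left (card_dvd_of_le hQR)
  have hQ0 : Q ≠ ⊥ := fun h => hne (by simp [h])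
  obtain ⟨q, hq, hQ⟩ : ∃ q : ℕ, q.Prime ∧ IsPGroup q Q := by
    by_contra hc
    push Not at hc
    refine hne (CopAct.commutator_eq_bot_iff.2 (le_centralizer_iff.1
      (CopAct.le_of_forall_sylow_le fun q _ _ => ?_)))
    obtain ⟨k, hk⟩ := hB.exists_card_eq
    have := hB.isNilpotent
    obtain ⟨P, hP⟩ := CopAct.exists_invariant_sylow hBQ (hk ▸ (hQc.symm.pow_left k))
      (Or.inl inferInstance) q
    refine ⟨P, le_centralizer_iff.1 (CopAct.commutator_eq_bot_iff.1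
      (hmin _ (lt_of_le_of_ne (map_subtype_le _) fun h => hc q Fact.out ?_) hP (hAB.trans hP)))⟩
    exact h ▸ P.2.map _
  have := Fact.mk hq
  have hqp : q ≠ p := by
    rintro rfl
    exact hQ0 (by
      simpa using CopAct.inf_eq_bot_of_coprime (coprime_card_of_isPGroup hq hQ hQc))
  obtain ⟨k, hk⟩ := (hB.to_le hAB).exists_card_eq
  obtain ⟨h1, h2, h3, h4, -⟩ := CopAct.minimal_action_structure hQ hBQ hAQ hBA
    (hk ▸ ((Nat.coprime_primes hp.out hq).2 hqp.symm).pow_left k) hne hmin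
  exact ⟨q, hq, hqp, Q, hQR, hQ, hBQ, hQ0, h1, h2, h4, h3,
    fun U hU hBU => hmin U hU hBU (hAB.trans hBU)⟩

/-- **Theorem B of Hall and Higman.** -/
theorem hallHigmanB (ρ : Representation K G V) (hρ : Function.Injective ρ) {R : Subgroup G}
    (hR : (Nat.card R).Coprime p) {x : G} (hxR : x ∈ normalizer (R : Set G)) {n : ℕ}
    (hx : x ^ p ^ (n + 1) = 1) (hy : x ^ p ^ n ∉ centralizer (R : Set G)) {r : ℕ}
    (hr : (ρ x - 1) ^ r = 0) :
    p ^ (n + 1) ≤ r ∨ ∃ n₀ q m, 1 ≤ n₀ ∧ n₀ ≤ n + 1 ∧ q.Prime ∧ 1 ≤ m ∧ p ^ n₀ - 1 = q ^ m ∧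
      (∃ Q ≤ R, IsPGroup q Q ∧ x ∈ normalizer (Q : Set G) ∧ ¬ IsMulCommutative Q) ∧
      p ^ (n + 1 - n₀) * (p ^ n₀ - 1) ≤ r := by
  have hB : IsPGroup p (zpowers x) := by
    obtain ⟨k, -, hk⟩ := (Nat.dvd_prime_pow hp.out).1 (orderOf_dvd_of_pow_eq_one hx)
    exact IsPGroup.of_card (by rw [Nat.card_zpowers, hk])
  have hAB : zpowers (x ^ p ^ n) ≤ zpowers x := zpowers_le.2 (pow_mem (mem_zpowers x) _)
  obtain ⟨q, hq, hqp, Q, hQR, hQ, hBQ, hQ0, h1, h2, h3, -⟩ :=
    exists_isPGroup_minimal_not_centralized hB hAB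
    ((le_centralizer _).trans ((centralizer_le hAB).trans (centralizer_le_normalizer _))) hR
    (zpowers_le.2 hxR) (fun h => hy (zpowers_le.1 h))
  have := Fact.mk hq
  obtain ⟨m, hm, hm1⟩ := (Q.bot_or_exists_ne_one).resolve_left hQ0
  rcases hallHigman_rep (repBaseChange (AlgebraicClosure K) ρ) hqp hQ (zpowers_le.1 hBQ) hx
    (h2.le.trans h3) h1 ⟨m, hm, fun h => hm1 (hρ (by
      rw [(repBaseChange_eq_one_iff _ ρ).1 h, map_one]))⟩ (r := r) (by
      have := congrArg (Module.End.baseChangeHom K (AlgebraicClosure K) V) hr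
      rw [map_pow, map_zero] at this
      rw [← this]
      congr 1
      change _ = LinearMap.baseChange _ _
      rw [LinearMap.baseChange_sub, LinearMap.baseChange_one]
      rfl) with h | ⟨n₀, m, h1, h2, h3, h4, h5, h6⟩
  · exact Or.inl h
  · exact Or.inr ⟨n₀, q, m, h1, h2, hq, h3, h4, ⟨Q, hQR, hQ, zpowers_le.1 hBQ, h5⟩, h6⟩

end Cfsg.Agent.GT
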