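import Mathlib
import Cfsg.Agent.GT.ModRep

/-!
# Character projections and the subgroup of scalars of an irreducible representation
-/

set_option autoImplicit false

namespace Cfsg.Agent.GT

open Module
open scoped commutatorElement

variable {K : Type*} [Field K] {M : Type*} [Group M]
  {W W' V : Type*} [AddCommGroup W] [Module K W] [AddCommGroup W'] [Module K W']
  [AddCommGroup V] [Module K V]
  {τ : Representation K M W} {τ' : Representation K M W'} {σ : Representation K M V}

/-- A multiple of the projection of `σ` onto its homogeneous component of type `τ`. -/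
noncomputable def charProj [Fintype M] (τ : Representation K M W) (σ : Representation K M V) :
    End K V :=
  ∑ g, LinearMap.trace K W (τ g⁻¹) • σ g

theorem charProj_apply_intertwiner [Fintype M] {f : W' →ₗ[K] V}
    (hf : ∀ m w, f (τ' m w) = σ m (f w)) (w : W') :
    charProj τ σ (f w) = f (charProj τ τ' w) := by
  simp [charProj, LinearMap.sum_apply, hf]

theorem trace_of_mem_repStab [FiniteDimensional K W] {α : MulAut M} (h : α ∈ repStab τ) (m : M) :
    LinearMap.trace K W (τ (α m)) = LinearMap.trace K W (τ m) := by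
  obtain ⟨e, he⟩ := h
  rw [← LinearMap.trace_conj' (τ (α m)) e]
  congr 1
  ext w
  simp [LinearEquiv.conj_apply, he]

theorem mul_charProj [Fintype M] [FiniteDimensional K W] {T : End K V} {α : MulAut M}
    (hα : ∀ m, T * σ m = σ (α m) * T) (h : α ∈ repStab τ) :
    T * charProj τ σ = charProj τ σ * T := by
  rw [charProj, Finset.mul_sum, Finset.sum_mul, ← Equiv.sum_comp α.toEquiv
    (fun g => LinearMap.trace K W (τ g⁻¹) • σ g * T)]
  refine Finset.sum_congr rfl fun g _ => ?_
  rw [mul_smul_comm, smul_mul_assoc, hα, ← trace_of_mem_repStab h, map_inv]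
  rfl

theorem IrrRep.charProj_self [Fintype M] [IsAlgClosed K] [FiniteDimensional K W] (h : IrrRep τ)
    (hM : (Nat.card M : K) ≠ 0) :
    charProj τ τ = ((Nat.card M : K) / finrank K W) • (1 : End K W) := by
  rw [← h.sum_trace_smul hM]
  simp [charProj]

theorem IrrRep.charProj_eq_zero [Fintype M] [FiniteDimensional K W] (h : IrrRep τ)
    (h' : IrrRep τ') (hne : ∀ e : W ≃ₗ[K] W', ¬ ∀ m w, e (τ m w) = τ' m (e w)) :
    charProj τ τ' = 0 := by
  classical
  ext u
  let b := Module.finBasis K W
  have e : ∀ g : M, LinearMap.trace K W (τ g⁻¹) = ∑ i, b.coord i (τ g⁻¹ (b i)) := fun g => by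
    rw [LinearMap.trace_eq_matrix_trace K b, Matrix.trace]
    simp [LinearMap.toMatrix_apply]
  simp only [charProj, e, LinearMap.sum_apply, LinearMap.smul_apply, Finset.sum_smul]
  rw [Finset.sum_comm]
  refine Finset.sum_eq_zero fun i _ => ?_
  rw [← IrrRep.avg_apply]
  rcases h.bijective_or_eq_zero h' (IrrRep.avg_intertwines (b.coord i) u) with h2 | h2
  · exact absurd (IrrRep.avg_intertwines (b.coord i) u) (hne (LinearEquiv.ofBijective _ h2))
  · rw [h2, LinearMap.zero_apply]

/-- A translate of a constituent by an operator moving its type is killed by the projection. -/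
theorem IrrRep.charProj_apply_of_notMem [Fintype M] [FiniteDimensional K W] (h : IrrRep τ)
    {f : W →ₗ[K] V} (hf : ∀ m w, f (τ m w) = σ m (f w)) {T : End K V} {α : MulAut M}
    (hα : ∀ m, T * σ m = σ (α m) * T) (hn : α ∉ repStab τ) (w : W) :
    charProj τ σ (T (f w)) = 0 := by
  have h1 := charProj_apply_intertwiner (τ := τ) (τ' := τ.comp (α⁻¹ : MulAut M).toMonoidHom)
    (σ := σ) (f := T ∘ₗ f) (fun m w => by
      change T (f (τ (α⁻¹ m) w)) = σ m (T (f w))
      rw [hf, ← End.mul_apply, hα, MulAut.apply_inv_self, End.mul_apply]) w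
  rw [h.charProj_eq_zero (h.comp (α⁻¹ : MulAut M).surjective) (fun e he => hn ⟨e, fun m w => by
    simpa using he (α m) w⟩), LinearMap.zero_apply, map_zero] at h1
  exact h1

/-- The elements represented by scalars. -/
def scalarSub (τ : Representation K M W) : Subgroup M where
  carrier := {m | ∃ c : K, τ m = c • (1 : End K W)}
  one_mem' := ⟨1, by simp⟩
  mul_mem' := by
    rintro a b ⟨c, hc⟩ ⟨d, hd⟩
    exact ⟨c * d, by rw [map_mul, hc, hd, smul_mul_smul_comm, mul_one]⟩
  inv_mem' := by
    rintro a ⟨c, hc⟩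
    have h : τ a * τ a⁻¹ = 1 := by rw [← map_mul, mul_inv_cancel, map_one]
    rw [hc, smul_mul_assoc, one_mul] at h
    by_cases h0 : c = 0
    · rw [h0, zero_smul] at h
      exact ⟨0, by rw [← mul_one (τ a⁻¹), ← h]; simp⟩
    · exact ⟨c⁻¹, by rw [← h, smul_smul, inv_mul_cancel₀ h0, one_smul]⟩

theorem mem_scalarSub {m : M} : m ∈ scalarSub τ ↔ ∃ c : K, τ m = c • (1 : End K W) := Iff.rfl

theorem apply_mem_scalarSub {α : MulAut M} (h : α ∈ repStab τ) {m : M} (hm : m ∈ scalarSub τ) :
    α m ∈ scalarSub τ := by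
  obtain ⟨e, he⟩ := h
  obtain ⟨c, hc⟩ := hm
  exact ⟨c, LinearMap.ext fun w => e.injective (by rw [he, hc]; simp)⟩

theorem apply_mem_ker_of_mem_repStab {α : MulAut M} (h : α ∈ repStab τ) {m : M}
    (hm : τ m = 1) : τ (α m) = 1 := by
  obtain ⟨e, he⟩ := h
  exact LinearMap.ext fun w => e.injective (by rw [he, hm]; simp)

variable [IsAlgClosed K] [FiniteDimensional K W]

theorem IrrRep.mem_scalarSub_of_comm (h : IrrRep τ) {m : M} (hm : ∀ g, m * g = g * m) :
    m ∈ scalarSub τ :=
  h.exists_eq_smul fun g => by rw [← map_mul, ← map_mul, hm]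

theorem IrrRep.trace_eq_zero (h : IrrRep τ) (h2 : ∀ a b : M, ⁅a, b⁆ ∈ scalarSub τ) {g : M}
    (hg : g ∉ scalarSub τ) : LinearMap.trace K W (τ g) = 0 := by
  by_contra h0
  refine hg (h.exists_eq_smul fun m => ?_)
  obtain ⟨c, hc⟩ := h2 m g
  have e : τ (m * g * m⁻¹) = c • τ g := by
    rw [show m * g * m⁻¹ = ⁅m, g⁆ * g by simp [commutatorElement_def], map_mul, hc,
      smul_mul_assoc, one_mul]
  have h1 := trace_of_mem_repStab (conj_mem_repStab τ m) g
  rw [MulAut.conj_apply, e, map_smul, smul_eq_mul, mul_eq_right₀ h0] at h1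
  rw [h1, one_smul] at e
  rw [← map_mul τ m g, ← inv_mul_cancel_right (m * g) m, map_mul τ _ m, e]

/-- For a group of class two modulo scalars, `|M : scalars| ≤ (dim W) ^ 2`. -/
theorem IrrRep.index_scalarSub_le [Finite M] (h : IrrRep τ) (hM : (Nat.card M : K) ≠ 0)
    (h2 : ∀ a b : M, ⁅a, b⁆ ∈ scalarSub τ) : (scalarSub τ).index ≤ finrank K W ^ 2 := by
  classical
  have := Fintype.ofFinite (M ⧸ scalarSub τ)
  have hl : LinearIndependent K fun x : M ⧸ scalarSub τ => τ x.out := by
    refine Fintype.linearIndependent_iff.2 fun c hc x => ?_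
    have h1 := congrArg (fun A => LinearMap.trace K W (τ x.out⁻¹ * A)) hc
    simp only [Finset.mul_sum, mul_smul_comm, map_sum, map_smul, ← map_mul, mul_zero,
      map_zero] at h1
    rw [Finset.sum_eq_single x (fun y _ hy => by
      rw [h.trace_eq_zero h2 fun h' => hy ?_, smul_zero]
      rw [← QuotientGroup.eq, QuotientGroup.out_eq', QuotientGroup.out_eq'] at h'
      exact h'.symm) (by simp), inv_mul_cancel, map_one, LinearMap.trace_one, smul_eq_mul] at h1
    exact (mul_eq_zero.1 h1).resolve_right (h.finrank_ne_zero hM)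
  have := hl.fintype_card_le_finrank
  rwa [Module.finrank_linearMap, ← sq, ← Nat.card_eq_fintype_card] at this

end Cfsg.Agent.GT
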