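import Mathlib
import Cfsg.Agent.GT.HallHigmanB
import Cfsg.Agent.GT.PLength2
import Cfsg.Agent.GT.PStable

/-!
# The Frattini module of `O_{p',p}` and the exponent bound for the `p`-length
-/

set_option autoImplicit false

namespace Cfsg.Agent.GT

open Subgroup Module
open scoped commutatorElement

universe u

variable {p : ℕ} [hp : Fact p.Prime]

/-- The quotient of a `p`-solvable group in which `O_{p',p}` becomes elementary abelian. -/
theorem exists_frattini_quotient {G : Type u} [Group G] [Finite G] (hG : IsPSolvable p G) :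
    ∃ (X : Type u) (_ : Group X) (_ : Finite X) (f : G →* X), Function.Surjective f ∧
      IsElementaryAbelian p (pCore p X) ∧ centralizer (pCore p X : Set X) ≤ pCore p X ∧
      (pCore p X).comap f = pPrimePCore p G := by
  set Y := G ⧸ pPrimeCore p G
  set N := (frattini (pCore p Y)).map (pCore p Y).subtype
  have hN : IsPGroup p N := (isPGroup_pCore p).to_le (map_subtype_le _)
  refine ⟨Y ⧸ N, inferInstance, inferInstance, (QuotientGroup.mk' N).comp (QuotientGroup.mk' _),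
    (QuotientGroup.mk'_surjective _).comp (QuotientGroup.mk'_surjective _), ?_,
    charP_quotient_of_le_frattini
      ((hG.quotient _).centralizer_pCore_le pPrimeCore_quotient_pPrimeCore) N le_rfl, ?_⟩
  · rw [← map_pCore_quotient hN]
    exact isElementaryAbelian_map_mk'_frattini _ (isPGroup_pCore p)
  · rw [← comap_comap, comap_pCore_quotient hN]
    rfl

variable {G : Type*} [Group G]

section Rep

variable {V : Subgroup G} [V.Normal]

/-- The representation of `G` on an elementary abelian normal subgroup. -/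
def eaRepN (hV : IsElementaryAbelian p V) : Representation (ZMod p) G (EAV hV) :=
  (eaRep hV (H := ⊤) (normalizer_eq_top V).ge).comp topEquiv.symm.toMonoidHom

variable {hV : IsElementaryAbelian p V}

theorem val_eaRepN (g : G) (v : EAV hV) : (eaRepN hV g v).val = g * v.val * g⁻¹ := rfl

theorem val_eaRepN_sub_one (g : G) (v : EAV hV) : ((eaRepN hV g - 1) v).val = ⁅g, v.val⁆ :=
  val_eaRep_sub_one (hHV := (normalizer_eq_top V).ge) _ _

theorem eaRepN_eq_one_iff {g : G} : eaRepN hV g = 1 ↔ g ∈ centralizer (V : Set G) :=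
  eaRep_eq_one_iff (hHV := (normalizer_eq_top V).ge)

theorem eaRepN_eq_one_of_mem {g : G} (hg : g ∈ V) : eaRepN hV g = 1 :=
  eaRepN_eq_one_iff.2 (hV.le_centralizer hg)

theorem val_mul_pow (v : EAV hV) (x : G) (k : ℕ) :
    (v.val * x) ^ k = ((∑ i ∈ Finset.range k, eaRepN hV x ^ i) v).val * x ^ k := by
  induction k with
  | zero => simp [EAV.val_zero]
  | succ k ih =>
    rw [pow_succ, ih, Finset.sum_range_succ, LinearMap.add_apply, EAV.val_add, ← map_pow,
      val_eaRepN, pow_succ]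
    group

theorem val_mul_pow_char (v : EAV hV) (x : G) (n : ℕ) :
    (v.val * x) ^ p ^ n = (((eaRepN hV x - 1) ^ (p ^ n - 1)) v).val * x ^ p ^ n := by
  rw [val_mul_pow, geom_sum_char_pow (K := ZMod p)]

/-- The representation of `G ⧸ V` on `V`. -/
def eaRepQ (hV : IsElementaryAbelian p V) : Representation (ZMod p) (G ⧸ V) (EAV hV) :=
  QuotientGroup.lift V (eaRepN hV) fun _ hg => eaRepN_eq_one_of_mem hg

theorem eaRepQ_mk (g : G) : eaRepQ hV (g : G ⧸ V) = eaRepN hV g := rfl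

theorem eaRepQ_injective (hC : centralizer (V : Set G) ≤ V) : Function.Injective (eaRepQ hV) := by
  have : ∀ x, eaRepQ hV x = 1 → x = 1 := fun x hx => by
    obtain ⟨g, rfl⟩ := QuotientGroup.mk_surjective x
    exact (QuotientGroup.eq_one_iff g).2 (hC (eaRepN_eq_one_iff.1 hx))
  intro a b h
  refine mul_inv_eq_one.1 (this _ ?_)
  rw [map_mul, h, ← map_mul, mul_inv_cancel, map_one]

end Rep

variable [Finite G]

theorem eq_one_of_mem_centralizer_pPrimeCore (hG : IsPSolvable p G) (hO : pCore p G = ⊥) {x : G}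
    {k : ℕ} (hx : x ^ p ^ k = 1) (h : x ∈ centralizer (pPrimeCore p G : Set G)) : x = 1 := by
  have h1 := orderOf_dvd_natCard (⟨_, hG.centralizer_pPrimeCore_le hO h⟩ : pPrimeCore p G)
  rw [orderOf_mk] at h1
  exact orderOf_eq_one_iff.1 (Nat.eq_one_of_dvd_coprimes
    ((coprime_card_pPrimeCore p).pow_right k) h1 (orderOf_dvd_of_pow_eq_one hx))

/-- Theorem B for the action on an elementary abelian self-centralizing `O_p(G)`. -/
theorem hallHigmanB_eaRepN (hG : IsPSolvable p G) (hV : IsElementaryAbelian p (pCore p G))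
    (hC : centralizer (pCore p G : Set G) ≤ pCore p G) {x : G} {n : ℕ}
    (h1 : x ^ p ^ (n + 1) ∈ pCore p G) (h2 : x ^ p ^ n ∉ pCore p G) {r : ℕ}
    (hr : (eaRepN hV x - 1) ^ r = 0) :
    p ^ (n + 1) ≤ r ∨ ∃ n₀ q m, 1 ≤ n₀ ∧ n₀ ≤ n + 1 ∧ q.Prime ∧ 1 ≤ m ∧ p ^ n₀ - 1 = q ^ m ∧
      (∃ Q : Subgroup G, IsPGroup q Q ∧ ¬ IsMulCommutative Q) ∧
      p ^ (n + 1 - n₀) * (p ^ n₀ - 1) ≤ r := by
  have e : ∀ k : ℕ, (x : G ⧸ pCore p G) ^ k = 1 ↔ x ^ k ∈ pCore p G := fun k => by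
    rw [← QuotientGroup.mk_pow, QuotientGroup.eq_one_iff]
  rcases hallHigmanB (eaRepQ hV) (eaRepQ_injective hC) (coprime_card_pPrimeCore p)
    (x := (x : G ⧸ pCore p G)) (by rw [normalizer_eq_top]; trivial) ((e _).2 h1)
    (fun h => h2 ((e _).1 (eq_one_of_mem_centralizer_pPrimeCore (hG.quotient _)
      pCore_quotient_pCore (k := 1) (by rw [← pow_mul, ← pow_add]; exact (e _).2 h1) h))) hr
    with h | ⟨n₀, q, m, h3, h4, hq, h5, h6, ⟨Q, -, hQ, -, h7⟩, h8⟩
  · exact Or.inl h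
  · have := Fact.mk hq
    obtain ⟨P, hP, rfl⟩ := exists_isPGroup_map_eq (QuotientGroup.mk' (pCore p G)) hQ
      (by rw [QuotientGroup.range_mk']; exact le_top)
    exact Or.inr ⟨n₀, q, m, h3, h4, hq, h5, h6, ⟨P, hP, fun h => h7 inferInstance⟩, h8⟩

/-- The exceptional case of Theorem B cannot occur in `G`. -/
def NonExc (p : ℕ) (G : Type*) [Group G] : Prop :=
  ∀ n₀ q m : ℕ, 1 ≤ n₀ → q.Prime → 1 ≤ m → p ^ n₀ - 1 = q ^ m →
    ∀ Q : Subgroup G, IsPGroup q Q → IsMulCommutative Q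

/-- The `p`-elements of `G` have order dividing `p ^ e`. -/
def PExp (p e : ℕ) (G : Type*) [Group G] : Prop :=
  ∀ (x : G) (k : ℕ), x ^ p ^ k = 1 → x ^ p ^ e = 1

variable {X : Type*} [Group X] {e : ℕ}

omit hp in
theorem NonExc.of_surjective (h : NonExc p G) {f : G →* X} (hf : Function.Surjective f) :
    NonExc p X := fun n₀ q m h1 hq h2 h3 Q hQ => by
  have := Fact.mk hq
  obtain ⟨P, hP, rfl⟩ := exists_isPGroup_map_eq f hQ
    (by rw [MonoidHom.range_eq_top.2 hf]; exact le_top)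
  have := h n₀ q m h1 hq h2 h3 P hP
  infer_instance

omit [Finite G] in
theorem isPGroup_zpowers_of_pow_eq_one {x : G} {k : ℕ} (hx : x ^ p ^ k = 1) :
    IsPGroup p (zpowers x) := by
  obtain ⟨j, -, hj⟩ := (Nat.dvd_prime_pow hp.out).1 (orderOf_dvd_of_pow_eq_one hx)
  exact IsPGroup.of_card (by rw [Nat.card_zpowers, hj])

theorem exists_pElt_lift {f : G →* X} (hf : Function.Surjective f) {y : X} {k : ℕ}
    (hy : y ^ p ^ k = 1) : ∃ x : G, (∃ j, x ^ p ^ j = 1) ∧ f x = y := by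
  obtain ⟨P, hP, h⟩ := exists_isPGroup_map_eq f (isPGroup_zpowers_of_pow_eq_one hy)
    (by rw [MonoidHom.range_eq_top.2 hf]; exact le_top)
  obtain ⟨x, hx, rfl⟩ := h.ge (mem_zpowers y)
  obtain ⟨j, hj⟩ := hP ⟨x, hx⟩
  exact ⟨x, ⟨j, congrArg Subtype.val hj⟩, rfl⟩

theorem PExp.of_surjective (h : PExp p e G) {f : G →* X} (hf : Function.Surjective f) :
    PExp p e X := fun y k hy => by
  obtain ⟨x, ⟨j, hj⟩, rfl⟩ := exists_pElt_lift hf hy
  rw [← map_pow, h x j hj, map_one]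

theorem pExp_of_sylow (h : ∀ P : Sylow p G, ∀ x ∈ (P : Subgroup G), x ^ p ^ e = 1) :
    PExp p e G := fun x k hx => by
  obtain ⟨P, hP⟩ := (isPGroup_zpowers_of_pow_eq_one hx).exists_le_sylow
  exact h P x (hP (mem_zpowers x))

theorem PExp.coprime_card (h : PExp p 0 G) : (Nat.card G).Coprime p := by
  refine (hp.out.coprime_iff_not_dvd.2 fun hd => ?_).symm
  obtain ⟨x, hx⟩ := exists_prime_orderOf_dvd_card' p hd
  have := h x 1 (by rw [pow_one, ← hx, pow_orderOf_eq_one])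
  rw [pow_zero, pow_one] at this
  rw [this, orderOf_one] at hx
  exact hp.out.one_lt.ne hx

omit hp in
theorem nonExc_of_sylow
    (h : ∀ (q : ℕ) [Fact q.Prime], q ≠ p → ∀ Q : Sylow q G, IsMulCommutative (Q : Subgroup G)) :
    NonExc p G := fun n₀ q m h1 hq h2 h3 Q hQ => by
  have := Fact.mk hq
  obtain ⟨S, hS⟩ := hQ.exists_le_sylow
  refine PG.isMulCommutative_of_le hS (h q ?_ S)
  rintro rfl
  have h4 : q ∣ q ^ n₀ - q ^ m := Nat.dvd_sub (dvd_pow_self q (by omega)) (dvd_pow_self q (by omega))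
  have := Nat.pow_pos (n := n₀) hq.pos
  rw [show q ^ n₀ - q ^ m = 1 by omega] at h4
  exact hq.one_lt.ne' (Nat.dvd_one.1 h4)

theorem eq_two_of_pow_sub_one (hp2 : p ≠ 2) {n₀ q m : ℕ} (h1 : 1 ≤ n₀) (hq : q.Prime)
    (h : p ^ n₀ - 1 = q ^ m) : q = 2 ∧ ∃ k, p = 2 ^ k + 1 := by
  have h2 : 2 ∣ q ^ m := h ▸ (Nat.Odd.sub_odd (hp.out.odd_of_ne_two hp2).pow odd_one).two_dvd
  obtain rfl := ((Nat.prime_dvd_prime_iff_eq Nat.prime_two hq).1
    (Nat.prime_two.dvd_of_dvd_pow h2)).symm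
  have h3 : p - 1 ∣ 2 ^ m := by simpa [← h] using Nat.sub_dvd_pow_sub_pow p 1 n₀
  obtain ⟨k, -, hk⟩ := (Nat.dvd_prime_pow Nat.prime_two).1 h3
  have := hp.out.pos
  exact ⟨rfl, k, by omega⟩

omit [Finite G] in
theorem nonExc_of_not_fermat (hp2 : p ≠ 2) (h : ¬ ∃ k, p = 2 ^ k + 1) : NonExc p G :=
  fun _ _ _ h1 hq _ h3 => absurd (eq_two_of_pow_sub_one hp2 h1 hq h3).2 h

theorem nonExc_of_sylow_two (hp2 : p ≠ 2)
    (h : ∀ S : Sylow 2 G, IsMulCommutative (S : Subgroup G)) : NonExc p G :=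
  fun _ _ _ h1 hq _ h3 Q hQ => by
    obtain rfl := (eq_two_of_pow_sub_one hp2 h1 hq h3).1
    obtain ⟨S, hS⟩ := hQ.exists_le_sylow
    exact PG.isMulCommutative_of_le hS (h S)

theorem pow_ne_zero_of_nonExc (hG : IsPSolvable p G) (hN : NonExc p G)
    (hV : IsElementaryAbelian p (pCore p G))
    (hC : centralizer (pCore p G : Set G) ≤ pCore p G) {x : G} {n : ℕ}
    (h1 : x ^ p ^ (n + 1) ∈ pCore p G) (h2 : x ^ p ^ n ∉ pCore p G) :
    (eaRepN hV x - 1) ^ (p ^ (n + 1) - 1) ≠ 0 := fun hr => by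
  rcases hallHigmanB_eaRepN hG hV hC h1 h2 hr with h | ⟨n₀, q, m, h3, -, hq, h5, h6, ⟨Q, hQ, h7⟩, -⟩
  · have := Nat.pow_pos (n := n + 1) hp.out.pos
    omega
  · exact h7 (hN n₀ q m h3 hq h5 h6 Q hQ)

/-- In a group of `p`-exponent `p ^ n` every `p`-element is exceptional on `V`. -/
theorem PExp.pow_eq_zero {V : Subgroup G} [V.Normal] (hV : IsElementaryAbelian p V) {n : ℕ}
    (h : PExp p n G) {x : G} (hx : x ^ p ^ n = 1) : (eaRepN hV x - 1) ^ (p ^ n - 1) = 0 := by
  refine LinearMap.ext fun v => EAV.val_eq_one_iff.1 ?_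
  have h1 := val_mul_pow_char v x n
  rw [hx, mul_one] at h1
  rw [← h1]
  refine h _ (n + 1) ?_
  rw [pow_succ, pow_mul, h1]
  exact hV.2 _ (EAV.val_mem _)

theorem PExp.quotient_pPrimePCore {G : Type u} [Group G] [Finite G] (hG : IsPSolvable p G)
    (hN : NonExc p G) (h : PExp p (e + 1) G) : PExp p e (G ⧸ pPrimePCore p G) := by
  intro y k hy
  obtain ⟨X, _, _, f, hf, hV, hC, hc⟩ := exists_frattini_quotient hG
  obtain ⟨g, ⟨j, hj⟩, rfl⟩ := exists_pElt_lift (QuotientGroup.mk'_surjective _) hy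
  rw [← map_pow, QuotientGroup.mk'_apply, QuotientGroup.eq_one_iff, ← hc, mem_comap, map_pow]
  by_contra hg
  have hx : f g ^ p ^ (e + 1) = 1 := by rw [← map_pow, h g j hj, map_one]
  exact pow_ne_zero_of_nonExc (hG.of_surjective hf) (hN.of_surjective hf) hV hC
    (hx ▸ one_mem _) hg ((h.of_surjective hf).pow_eq_zero hV hx)

/-- **Theorem A of Hall and Higman**, non-exceptional case. -/
theorem pLengthLE_of_nonExc (e : ℕ) : ∀ (G : Type u) [Group G] [Finite G], IsPSolvable p G →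
    NonExc p G → PExp p e G → PLengthLE p e G := by
  induction e with
  | zero => exact fun G _ _ _ _ h => pLengthLE_zero_iff.2 h.coprime_card
  | succ e ih => exact fun G _ _ hG hN h => pLengthLE_succ_iff.2 (ih _ (hG.quotient _)
      (hN.of_surjective (QuotientGroup.mk'_surjective _)) (h.quotient_pPrimePCore hG hN))

end Cfsg.Agent.GT
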