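import Mathlib
import Cfsg.Agent.GT.ComplementSystem
import Cfsg.Agent.GT.PGroupChain

/-!
# Carter subgroups; the cover-avoidance property of system normalizers
-/

set_option autoImplicit false
open Pointwise

namespace Cfsg.Agent.GT

universe u

variable {G : Type*} [Group G]

/-- A system normalizer meets a non-central minimal normal subgroup trivially. -/
theorem _root_.Cfsg.IsComplementSystem.inf_systemNormalizer_eq_bot [Finite G]
    [Group.IsSolvable G] {K : Nat.Primes → Subgroup G} (h : IsComplementSystem K)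
    {B : Subgroup G} (hB : IsMinNormal B) (hc : Subgroup.centralizer (B : Set G) ≠ ⊤) :
    B ⊓ systemNormalizer K = ⊥ := by
  have := hB.normal
  obtain ⟨q, hq, hBq, -⟩ := hB.exists_isPGroup
  have := Fact.mk hq
  set C := Subgroup.centralizer (B : Set G)
  obtain ⟨L, hL, -⟩ := exists_isChiefFactor_above (lt_top_iff_ne_top.mpr hc)
  have := hL.2.1
  have key : ∀ X : Subgroup G, L ≤ C ⊔ X → B ⊓ Subgroup.centralizer (X : Set G) = ⊥ := by
    intro X hX
    rcases hB.eq_bot_or_eq (K := B ⊓ Subgroup.centralizer (L : Set G)) inf_le_left with h1 | h1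
    · rw [eq_bot_iff, ← h1]
      refine le_inf inf_le_left (Subgroup.le_centralizer_iff.mpr (hX.trans (sup_le ?_ ?_)))
      · exact Subgroup.centralizer_le (SetLike.coe_subset_coe.mpr inf_le_left)
      · exact Subgroup.le_centralizer_iff.mp inf_le_right
    · exact absurd (Subgroup.le_centralizer_iff.mp (h1.ge.trans inf_le_right)) hL.1.not_ge
  obtain ⟨-, r, hr, -, k, -, hk⟩ := hL.elementary
  have hcov : ∀ {π : Set ℕ} {H : Subgroup G}, IsPiHall π H → r ∈ π → L ≤ C ⊔ H ⊓ L := by
    intro π H hH hrπ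
    refine (HT.sup_eq_of_coprime_relIndex hL.1.le inf_le_right ?_).ge
    rw [hk]
    exact (isPiNum_prime_pow hr hrπ k).coprime (hH.inf_normal L).relIndex
  by_cases hrq : r = q
  · exfalso
    obtain ⟨P⟩ : Nonempty (Sylow q G) := inferInstance
    have h1 := key _ (hcov (isPiHall_sylow P) hrq)
    have h3 := PG.inf_centralizer_ne_bot_of_isPGroup hBq P.isPGroup'
      Subgroup.le_normalizer_of_normal hB.ne_bot
    exact h3 (eq_bot_iff.mpr (h1 ▸ inf_le_inf_left _
      (Subgroup.centralizer_le (SetLike.coe_subset_coe.mpr inf_le_left))))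
  · have h1 := key _ (hcov (h.isPiHall ⟨q, hq⟩) hrq)
    rw [eq_bot_iff, ← h1]
    refine le_inf inf_le_left fun x hx => Subgroup.mem_centralizer_iff.mpr fun y hy => ?_
    have h2 : x * y * x⁻¹ * y⁻¹ ∈ B ⊓ K ⟨q, hq⟩ := by
      refine ⟨?_, Subgroup.mul_mem _ ((Subgroup.mem_normalizer_iff.mp
        (mem_systemNormalizer.mp hx.2 _) y).mp hy.1) (Subgroup.inv_mem _ hy.1)⟩
      simpa [mul_assoc] using B.mul_mem hx.1 (‹B.Normal›.conj_mem _ (B.inv_mem hx.1) y)
    rw [((isPGroup_iff_isPiNum hq).mp hBq).inf_eq_bot (h.isPiHall ⟨q, hq⟩).card,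
      Subgroup.mem_bot] at h2
    calc y * x = (x * y * x⁻¹ * y⁻¹) * y * x := by rw [h2, one_mul]
      _ = x * y := by group

/-- System normalizers cover central chief factors. -/
theorem _root_.Cfsg.IsComplementSystem.le_sup_systemNormalizer [Finite G] [Group.IsSolvable G]
    {K : Nat.Primes → Subgroup G} (h : IsComplementSystem K) {A B : Subgroup G} [A.Normal]
    (hc : ⁅B, (⊤ : Subgroup G)⁆ ≤ A) : B ≤ A ⊔ systemNormalizer K := by
  have hf := QuotientGroup.mk'_surjective A
  have h1 : B.map (QuotientGroup.mk' A) ≤ (systemNormalizer K).map (QuotientGroup.mk' A) := by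
    rw [← h.systemNormalizer_map hf]
    refine le_trans ?_ (center_le_systemNormalizer _)
    rw [← Subgroup.centralizer_univ, ← Subgroup.coe_top,
      ← Subgroup.commutator_eq_bot_iff_le_centralizer, ← Subgroup.map_top_of_surjective _ hf,
      ← Subgroup.map_commutator, Subgroup.map_eq_bot_iff, QuotientGroup.ker_mk']
    exact hc
  rwa [Subgroup.map_le_iff_le_comap, Subgroup.comap_map_eq, QuotientGroup.ker_mk', sup_comm] at h1

/-- System normalizers avoid non-central chief factors. -/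
theorem _root_.Cfsg.IsComplementSystem.inf_systemNormalizer_le [Finite G] [Group.IsSolvable G]
    {K : Nat.Primes → Subgroup G} (h : IsComplementSystem K) {A B : Subgroup G}
    (hAB : IsChiefFactor B A) (hc : ¬ ⁅B, (⊤ : Subgroup G)⁆ ≤ A) : B ⊓ systemNormalizer K ≤ A := by
  have := hAB.2.2.1
  have hf := QuotientGroup.mk'_surjective A
  have h1 := (h.map hf).inf_systemNormalizer_eq_bot hAB.isMinNormal_map (fun h1 => hc (by
    rw [← QuotientGroup.ker_mk' A, ← Subgroup.map_eq_bot_iff, Subgroup.map_commutator,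
      Subgroup.commutator_eq_bot_iff_le_centralizer, Subgroup.le_centralizer_iff, h1]
    exact le_top))
  rw [h.systemNormalizer_map hf] at h1
  rw [← QuotientGroup.ker_mk' A, ← Subgroup.map_eq_bot_iff, eq_bot_iff, ← h1]
  exact Subgroup.map_inf_le _ _ _

/-! ### Carter subgroups -/

theorem _root_.Cfsg.IsCarterSubgroup.conj_smul {C : Subgroup G} (h : IsCarterSubgroup C) (g : G) :
    IsCarterSubgroup (MulAut.conj g • C) := by
  have := h.1
  exact ⟨isNilpotent_map C _, by rw [HT.normalizer_conj_smul, h.2]⟩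

theorem _root_.Cfsg.IsCarterSubgroup.subgroupOf {C L : Subgroup G} (h : IsCarterSubgroup C)
    (hle : C ≤ L) : IsCarterSubgroup (C.subgroupOf L) := by
  have := h.1
  exact ⟨isNilpotent_subgroupOf C L, by rw [← Subgroup.subgroupOf_normalizer_eq hle, h.2]⟩

theorem _root_.Cfsg.IsCarterSubgroup.eq_of_le [Finite G] {C L : Subgroup G}
    (h : IsCarterSubgroup C) (hle : C ≤ L) (hL : Group.IsNilpotent L) : C = L := by
  refine le_antisymm hle (Subgroup.subgroupOf_eq_top.mp ?_)
  by_contra hne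
  exact (isNilpotent_iff_normalizerCondition.mp hL _ (lt_top_iff_ne_top.mpr hne)).ne'
    (h.subgroupOf hle).2

/-- In a nilpotent subgroup `C`, a Hall subgroup is normal. -/
theorem _root_.Cfsg.IsPiHallOf.le_normalizer_of_isNilpotent [Finite G] {π : Set ℕ}
    {Q C : Subgroup G} (h : IsPiHallOf π Q C) (hC : Group.IsNilpotent C) :
    C ≤ Subgroup.normalizer (Q : Set G) := by
  rw [h.eq_of_le (isPiHallOf_piCoreOf π C).card (le_piCoreOf_of_isNilpotent h.le h.card)
    (isPiHallOf_piCoreOf π C).le]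
  exact le_normalizer_piCoreOf C

/-- If `N` is a normal `p`-subgroup, `E N / N` is nilpotent and `Q` is a Hall `p'`-subgroup of
`E`, then `N_E(Q)` is nilpotent. -/
theorem isNilpotent_inf_normalizer_of_quotient [Finite G] {p : ℕ} (hp : p.Prime)
    {N E Q : Subgroup G} [N.Normal] (hN : IsPGroup p N)
    (hE : Group.IsNilpotent (E.map (QuotientGroup.mk' N))) (hQ : IsPiHallOf {p}ᶜ Q E) :
    Group.IsNilpotent ↥(E ⊓ Subgroup.normalizer (Q : Set G)) := by
  have := Fact.mk hp
  have hQN : Q ⊓ N = ⊥ := by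
    rw [inf_comm]
    exact ((isPGroup_iff_isPiNum hp).mp hN).inf_eq_bot hQ.card
  have hQnil : Group.IsNilpotent Q := by
    have := isNilpotent_of_le (Subgroup.map_mono (f := QuotientGroup.mk' N) hQ.le)
    refine Subgroup.isNilpotent_of_ker_le_center ((QuotientGroup.mk' N).subgroupMap Q) fun x hx => ?_
    have h1 : (x : G) ∈ Q ⊓ N := ⟨x.2, (QuotientGroup.eq_one_iff _).mp (congrArg Subtype.val hx)⟩
    rw [hQN, Subgroup.mem_bot] at h1
    rw [show x = 1 from Subtype.ext h1]
    exact Subgroup.one_mem _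
  obtain ⟨P, hPC, hP, hPi⟩ := HT.exists_sylow_le p (E ⊓ Subgroup.normalizer (Q : Set G))
  have hQC : Q ≤ E ⊓ Subgroup.normalizer (Q : Set G) := le_inf hQ.le Subgroup.le_normalizer
  have hsup := HT.sup_eq_of_coprime_relIndex hPC hQC
    ((by simpa using (hQ.of_le hQC inf_le_left).relIndex :
      IsPiNum {p} (Q.relIndex (E ⊓ Subgroup.normalizer (Q : Set G)))).coprime
      ((isPiNum_compl_singleton_iff_not_dvd hp).mpr hPi)).symm
  rw [← hsup]
  have := hP.isNilpotent
  refine isNilpotent_sup_of_le_centralizer ?_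
  rw [← Subgroup.commutator_eq_bot_iff_le_centralizer, eq_bot_iff, ← hQN]
  refine le_inf (Subgroup.le_normalizer_iff_commutator_le_right.mp (hPC.trans inf_le_right)) ?_
  rw [← QuotientGroup.ker_mk' N, ← Subgroup.map_eq_bot_iff, Subgroup.map_commutator,
    Subgroup.commutator_eq_bot_iff_le_centralizer]
  exact le_centralizer_of_coprime_of_isNilpotent (Subgroup.map_mono (hPC.trans inf_le_left))
    (Subgroup.map_mono hQ.le)
    ((((isPGroup_iff_isPiNum hp).mp hP).card_map _).coprime (hQ.card.card_map _))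

/-- A Hall `p'`-subgroup of `C` is one of `N C` for a normal `p`-subgroup `N`. -/
theorem _root_.Cfsg.IsPiHallOf.sup_of_isPGroup [Finite G] {p : ℕ} (hp : p.Prime)
    {N C Q : Subgroup G} [N.Normal] (hQ : IsPiHallOf {p}ᶜ Q C) (hN : IsPGroup p N) :
    IsPiHallOf {p}ᶜ Q (N ⊔ C) :=
  hQ.trans_relIndex le_sup_right (by
    rw [compl_compl]
    exact ((isPGroup_iff_isPiNum hp).mp hN).of_dvd
      (HT.relIndex_sup_dvd_card Subgroup.le_normalizer_of_normal))

theorem Carter.map_mk'_sup_left (N C : Subgroup G) [N.Normal] :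
    (N ⊔ C).map (QuotientGroup.mk' N) = C.map (QuotientGroup.mk' N) := by
  rw [Subgroup.map_sup, (Subgroup.map_eq_bot_iff _).mpr (QuotientGroup.ker_mk' N).ge, bot_sup_eq]

/-- A Carter subgroup `C` is the normaliser in `N C` of its Hall `p'`-subgroup. -/
theorem _root_.Cfsg.IsCarterSubgroup.eq_inf_normalizer [Finite G] {p : ℕ} (hp : p.Prime)
    {N C Q : Subgroup G} [N.Normal] (h : IsCarterSubgroup C) (hN : IsPGroup p N)
    (hQ : IsPiHallOf {p}ᶜ Q C) : C = (N ⊔ C) ⊓ Subgroup.normalizer (Q : Set G) := by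
  have := h.1
  exact h.eq_of_le (le_inf le_sup_right (hQ.le_normalizer_of_isNilpotent h.1))
    (isNilpotent_inf_normalizer_of_quotient hp hN
      (by rw [Carter.map_mk'_sup_left]; exact isNilpotent_map C _) (hQ.sup_of_isPGroup hp hN))

theorem Carter.map_of_conj [Finite G] {C N : Subgroup G} [N.Normal] (h : IsCarterSubgroup C)
    (hconj : N ⊔ C ≠ ⊤ → ∀ D : Subgroup ↥(N ⊔ C), IsCarterSubgroup D →
      ∃ g : ↥(N ⊔ C), MulAut.conj g • D = C.subgroupOf (N ⊔ C)) :
    IsCarterSubgroup (C.map (QuotientGroup.mk' N)) := by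
  have := h.1
  refine ⟨isNilpotent_map C _, le_antisymm (fun y hy => ?_) Subgroup.le_normalizer⟩
  obtain ⟨x, rfl⟩ := QuotientGroup.mk'_surjective N y
  rw [← Carter.map_mk'_sup_left]
  refine Subgroup.mem_map_of_mem _ ?_
  by_cases htop : N ⊔ C = ⊤
  · rw [htop]; trivial
  have h1 := HT.conj_smul_sup_eq_of_map _ (HT.conj_smul_eq_iff.mpr hy)
  rw [QuotientGroup.ker_mk'] at h1
  have h2 : MulAut.conj x • C ≤ N ⊔ C := h1 ▸ le_sup_right
  obtain ⟨g, hg⟩ := hconj htop _ ((h.conj_smul x).subgroupOf h2)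
  have h3 := HT.conj_smul_eq_of_subgroupOf h2 le_sup_right hg
  rw [HT.conj_smul_conj_smul, HT.conj_smul_eq_iff, h.2] at h3
  simpa using Subgroup.mul_mem _ (Subgroup.inv_mem _ g.2) ((le_sup_right : C ≤ N ⊔ C) h3)

theorem Carter.conj_aux (G : Type u) [Group G] [Finite G] : Group.IsSolvable G →
    ∀ C D : Subgroup G, IsCarterSubgroup C → IsCarterSubgroup D →
      ∃ g : G, MulAut.conj g • C = D := by
  induction hn : Nat.card G using Nat.strong_induction_on generalizing G with
  | _ n ih =>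
  subst hn
  intro hG C D hC hD
  rcases subsingleton_or_nontrivial G with hs | hs
  · exact ⟨1, Subsingleton.elim _ _⟩
  obtain ⟨p, hp, N, -, hNn, hN, -, hNp⟩ := HT.exists_normal_comm_pGroup_le (⊤ : Subgroup G)
    inferInstance top_ne_bot
  have hmap : ∀ C : Subgroup G, IsCarterSubgroup C →
      IsCarterSubgroup (C.map (QuotientGroup.mk' N)) := fun C hC =>
    Carter.map_of_conj hC fun htop D hD =>
      ih _ (card_lt_of_ne_top htop) _ rfl inferInstance D _ hD (hC.subgroupOf le_sup_right)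
  obtain ⟨y, hy⟩ := ih _ (card_quotient_lt hN) _ rfl inferInstance _ _ (hmap C hC) (hmap D hD)
  obtain ⟨x, rfl⟩ := QuotientGroup.mk'_surjective N y
  have h1 := HT.conj_smul_sup_eq_of_map _ hy
  rw [QuotientGroup.ker_mk'] at h1
  have hC' := hC.conj_smul x
  obtain ⟨Q, hQ⟩ := exists_isPiHallOf {p}ᶜ (M := MulAut.conj x • C) inferInstance
  obtain ⟨R, hR⟩ := exists_isPiHallOf {p}ᶜ (M := D) inferInstance
  obtain ⟨g, hg, hgQ⟩ := (h1 ▸ hQ.sup_of_isPGroup hp hNp).exists_conj_eq inferInstance
    (hR.sup_of_isPGroup hp hNp)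
  refine ⟨g * x, ?_⟩
  rw [← HT.conj_smul_conj_smul, hC'.eq_inf_normalizer hp hNp hQ, h1, Subgroup.smul_inf,
    ← HT.normalizer_conj_smul, hgQ, Subgroup.conj_smul_eq_self_of_mem hg]
  exact (hD.eq_inf_normalizer hp hNp hR).symm

/-- Carter subgroups of a solvable group are conjugate. -/
theorem _root_.Cfsg.IsCarterSubgroup.exists_conj_eq [Finite G] [Group.IsSolvable G]
    {C D : Subgroup G} (hC : IsCarterSubgroup C) (hD : IsCarterSubgroup D) :
    ∃ g : G, MulAut.conj g • C = D :=
  Carter.conj_aux G inferInstance C D hC hD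

/-- Carter subgroups of a solvable group map onto Carter subgroups of quotients. -/
theorem _root_.Cfsg.IsCarterSubgroup.map_mk' [Finite G] [Group.IsSolvable G] {C : Subgroup G}
    (hC : IsCarterSubgroup C) (N : Subgroup G) [N.Normal] :
    IsCarterSubgroup (C.map (QuotientGroup.mk' N)) :=
  Carter.map_of_conj hC fun _ _ hD => hD.exists_conj_eq (hC.subgroupOf le_sup_right)

/-- A solvable group has a Carter subgroup. -/
theorem exists_isCarterSubgroup (G : Type u) [Group G] [Finite G] [Group.IsSolvable G] :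
    ∃ C : Subgroup G, IsCarterSubgroup C := by
  refine solvable_induction (P := fun G _ _ _ => ∃ C : Subgroup G, IsCarterSubgroup C) ?_ ?_ G
  · intro G _ _ _ _
    exact ⟨⊤, inferInstance, Subsingleton.elim _ _⟩
  · rintro G _ _ _ N _ p hp hN hE ⟨K, hK⟩
    have hf := QuotientGroup.mk'_surjective N
    have hNp : IsPGroup p N := isPGroup_of_forall_pow_eq_one hE.2
    set E := K.comap (QuotientGroup.mk' N) with hE'
    have hEK : E.map (QuotientGroup.mk' N) = K := Subgroup.map_comap_eq_self_of_surjective hf K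
    obtain ⟨Q, hQ⟩ := exists_isPiHallOf {p}ᶜ (M := E) inferInstance
    have hnil := isNilpotent_inf_normalizer_of_quotient hp hNp (hEK ▸ hK.1) hQ
    set C := E ⊓ Subgroup.normalizer (Q : Set G) with hC
    have hQC : IsPiHallOf {p}ᶜ Q C := hQ.of_le (le_inf hQ.le Subgroup.le_normalizer) inf_le_left
    have hNE : N ≤ E := QuotientGroup.le_comap_mk' N K
    have hNC : N ⊔ C = E := by
      have h1 : E ≤ Subgroup.normalizer ((N ⊔ Q : Subgroup G) : Set G) := by
        have h2 := (hQ.map (QuotientGroup.mk' N)).le_normalizer_of_isNilpotent (hEK ▸ hK.1)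
        intro x hx
        have h3 := HT.conj_smul_sup_eq_of_map _ (HT.conj_smul_eq_iff.mpr (h2 ⟨x, hx, rfl⟩))
        rw [QuotientGroup.ker_mk'] at h3
        rw [← HT.conj_smul_eq_iff, Subgroup.smul_sup, Subgroup.Normal.conj_smul_eq_self, h3]
      have h4 := (hQ.of_le le_sup_right (sup_le hNE hQ.le)).sup_inf_normalizer inferInstance
        (sup_le hNE hQ.le) h1
      rwa [sup_assoc, sup_eq_right.mpr hQC.le] at h4
    refine ⟨C, hnil, le_antisymm (fun x hx => ⟨?_, ?_⟩) Subgroup.le_normalizer⟩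
    · have h1 := Subgroup.le_normalizer_map (QuotientGroup.mk' N) ⟨x, hx, rfl⟩
      rwa [← Carter.map_mk'_sup_left, hNC, hEK, hK.2] at h1
    · rw [hQC.eq_of_le (isPiHallOf_piCoreOf _ C).card (le_piCoreOf_of_isNilpotent hQC.le hQC.card)
        (isPiHallOf_piCoreOf _ C).le]
      exact normalizer_le_normalizer_piCoreOf C hx

/-- If a complement system reduces into a Carter subgroup, its normalizer lies in it. -/
theorem _root_.Cfsg.IsCarterSubgroup.systemNormalizer_le [Finite G] [Group.IsSolvable G]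
    {C : Subgroup G} (hC : IsCarterSubgroup C) {K : Nat.Primes → Subgroup G}
    (hK : IsComplementSystem K) (hred : ∀ p : Nat.Primes, IsPiHallOf {(p : ℕ)}ᶜ (K p ⊓ C) C) :
    systemNormalizer K ≤ C := by
  have key := chief_induction_down (W := ⊤) (P := fun V => systemNormalizer K ≤ V ⊔ C)
    (by simp) ?_ ⊥ bot_le
  · simpa using key
  intro U V hUV _ ih
  have := hUV.2.1
  have := hUV.2.2.1
  have hf := QuotientGroup.mk'_surjective V
  have := Subgroup.Normal.map ‹U.Normal› _ hf
  obtain ⟨p, hp, hUp, -⟩ := hUV.isMinNormal_map.exists_isPGroup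
  have hQ := (hred ⟨p, hp⟩).map (QuotientGroup.mk' V)
  have hQ' := hQ.sup_of_isPGroup hp hUp
  have hK' := (hK.isPiHall ⟨p, hp⟩).map_of_surjective hf
  rw [sup_comm, ← QuotientGroup.ker_mk' V, ← Subgroup.comap_map_eq, ← Subgroup.map_le_iff_le_comap,
    (hC.map_mk' V).eq_inf_normalizer hp hUp hQ]
  have h1 : (systemNormalizer K).map (QuotientGroup.mk' V) ≤
      U.map (QuotientGroup.mk' V) ⊔ C.map (QuotientGroup.mk' V) := by
    rw [← Subgroup.map_sup]; exact Subgroup.map_mono ih
  refine le_inf h1 ?_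
  rw [hQ'.eq_of_le (hK'.card.card_of_le inf_le_left)
    (le_inf (Subgroup.map_mono inf_le_left) hQ'.le) inf_le_right]
  intro x hx
  exact Subgroup.inf_normalizer_le_normalizer_inf
    ⟨((Subgroup.map_mono (systemNormalizer_le_normalizer K ⟨p, hp⟩)).trans
      (Subgroup.le_normalizer_map _)) hx, Subgroup.le_normalizer (h1 hx)⟩

end Cfsg.Agent.GT
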