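import Mathlib
import Cfsg.Agent.GT.CoprimeActThms

/-!
Frobenius groups of automorphisms whose kernel acts without fixed points: module lemmas.
-/

set_option autoImplicit false

namespace Cfsg.Agent.GT.FrobAut

open Subgroup CopAct
open scoped Pointwise

variable {A : Type*} [Group A]

/-- `H` acts without fixed points on the normal subgroup `F`. -/
structure Fr (F H : Subgroup A) : Prop where
  normal : F.Normal
  fpf : ∀ h ∈ H, h ≠ 1 → ∀ f ∈ F, h * f = f * h → f = 1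
  cop : (Nat.card H).Coprime (Nat.card F)

theorem Fr.mono {F F' H : Subgroup A} (h : Fr F H) (hn : F'.Normal) (hle : F' ≤ F) : Fr F' H :=
  ⟨hn, fun a ha a1 f hf => h.fpf a ha a1 f (hle hf), h.cop.coprime_dvd_right (card_dvd_of_le hle)⟩

theorem Fr.bij [Finite A] {F H : Subgroup A} (hF : Fr F H) {h : A} (hh : h ∈ H) (h1 : h ≠ 1)
    {E : Subgroup A} (hE : E ≤ F) (hn : ∀ e ∈ E, h * e * h⁻¹ ∈ E) :
    Function.Bijective fun e : E => (⟨e * (h * (e : A)⁻¹ * h⁻¹), mul_mem e.2 (hn _ (inv_mem e.2))⟩ : E) := by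
  refine Finite.injective_iff_bijective.1 fun a b e => ?_
  have e' : (a : A) * (h * (a : A)⁻¹ * h⁻¹) = b * (h * (b : A)⁻¹ * h⁻¹) := congrArg Subtype.val e
  have := hF.fpf h hh h1 ((b : A)⁻¹ * a) (hE (mul_mem (inv_mem b.2) a.2)) (by
    calc _ = (b : A)⁻¹ * (b * (h * (b : A)⁻¹ * h⁻¹)) * h * a := by group
      _ = _ := by rw [← e']; group)
  exact Subtype.ext (inv_mul_eq_one.1 this).symm

theorem exists_equivariant (H X : Type*) [Group H] [MulAction H X] :
    ∃ s : X → H, ∀ x, (∀ h : H, h • x = x → h = 1) → ∀ k : H, s (k • x) = k * s x := by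
  have h : ∀ x : X, ∃ h : H, h • (Quotient.mk (MulAction.orbitRel H X) x).out = x := fun x =>
    (MulAction.orbitRel H X).symm (Quotient.mk_out (s := MulAction.orbitRel H X) x)
  choose s hs using h
  refine ⟨s, fun x hx k => ?_⟩
  have e : Quotient.mk (MulAction.orbitRel H X) (k • x) = Quotient.mk _ x := Quotient.sound ⟨k, rfl⟩
  have h1 := hs (k • x)
  rw [e, ← smul_eq_iff_eq_inv_smul (s x) |>.1 (hs x) |>.symm, ← inv_smul_eq_iff, ← mul_smul,
    ← mul_smul] at h1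
  have := hx _ h1
  rw [mul_inv_eq_one, inv_mul_eq_iff_eq_mul] at this
  exact this

section Comm

variable {M : Type*} [CommGroup M] (φ : A →* MulAut M)

theorem norm_fixed (F : Subgroup A) [Fintype F] (m : M) {g : A} (hg : g ∈ F) :
    φ g (∏ f : F, φ f m) = ∏ f : F, φ f m := by
  rw [map_prod, ← Equiv.prod_comp (Equiv.mulLeft (⟨g, hg⟩ : F)) fun f : F => φ f m]
  exact Finset.prod_congr rfl fun x _ => by simp

variable [Finite A] {F H : Subgroup A} (hF : Fr F H) (hM : ∀ m, (∀ f ∈ F, φ f m = m) → m = 1)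
include hF hM

/-- The first cohomology of the complement vanishes. -/
theorem cocycle (δ : H → M) (hδ : ∀ h k, δ (h * k) = δ h * φ h (δ k)) :
    ∃ n, ∀ k, δ k = φ k n * n⁻¹ := by
  classical
  have := Fintype.ofFinite A
  have := hF.normal
  let _ : MulAction H A := MulAction.compHom A (MulAut.conj.comp H.subtype)
  obtain ⟨s, hs⟩ := exists_equivariant H A
  let S : Finset A := Finset.univ.filter fun f => f ∈ F ∧ f ≠ 1
  have hS : ∀ f, f ∈ S ↔ f ∈ F ∧ f ≠ 1 := fun f => by simp [S]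
  have h1 : ∀ m, ∏ f ∈ S, φ f m = m⁻¹ := fun m => by
    have h2 := hM _ fun g hg => norm_fixed φ F m hg
    rw [← Finset.prod_subtype (insert 1 S) (p := fun f => f ∈ F) (fun f => by
      rw [Finset.mem_insert, hS]
      exact ⟨fun a => a.elim (fun e => e ▸ one_mem _) And.left, fun a => by tauto⟩) fun f => φ f m,
      Finset.prod_insert (by simp [hS]), map_one, MulAut.one_apply] at h2
    exact eq_inv_of_mul_eq_one_right h2
  refine ⟨∏ f ∈ S, φ f (δ (s f)), fun k => ?_⟩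
  have h2 : ∀ g : A → M, ∏ f ∈ S, g (k * f * (k : A)⁻¹) = ∏ f ∈ S, g f := fun g =>
    Finset.prod_bijective (MulAut.conj (k : A)) (MulAut.conj (k : A)).bijective (fun f => by
      rw [hS, hS, MulAut.conj_apply, Ne, Ne, conj_eq_one_iff]
      exact and_congr_left' ⟨fun a => this.conj_mem _ a _, fun a => by
        simpa [mul_assoc] using this.conj_mem _ a (k : A)⁻¹⟩) fun _ _ => rfl
  rw [map_prod, eq_mul_inv_iff_mul_eq, ← inv_inv (δ k), ← h1 (δ k), ← h2 fun f => φ f (δ (s f)),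
    ← h2 fun f => φ f (δ k), ← Finset.prod_inv_distrib, ← Finset.prod_mul_distrib]
  refine Finset.prod_congr rfl fun f hf => ?_
  have h3 : s (k * f * (k : A)⁻¹) = k * s f := hs f (fun h e => by
    by_contra hne
    exact ((hS f).1 hf).2 (hF.fpf h h.2 (fun a => hne (Subtype.ext a)) f ((hS f).1 hf).1
      (mul_inv_eq_iff_eq_mul.1 e))) k
  rw [h3, hδ, map_mul (φ _), inv_mul_cancel_left, ← MulAut.mul_apply, ← map_mul, inv_mul_cancel_right,
    map_mul, MulAut.mul_apply]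

theorem prod_norm [Fintype F] [Fintype H] (x : M) :
    ∏ g : F, φ g (∏ h : H, φ h (φ (g : A)⁻¹ x)) = x ^ Nat.card F := by
  classical
  simp only [map_prod]
  rw [Finset.prod_comm, ← Finset.mul_prod_erase _ _ (Finset.mem_univ (1 : H)),
    Finset.prod_eq_one (s := Finset.univ.erase (1 : H)), mul_one]
  · simp
  · intro h hh
    rw [← hM _ fun g hg => norm_fixed φ F (φ h x) hg]
    refine Fintype.prod_bijective _ (hF.bij h.2 (fun a => Finset.ne_of_mem_erase hh (Subtype.ext a))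
      le_rfl fun e he => hF.normal.conj_mem e he h) _ _ fun g => ?_
    simp only [← MulAut.mul_apply, ← map_mul]
    congr 2; group

end Comm

/-- Fixed points of the complement lift modulo an invariant abelian normal subgroup. -/
theorem exists_fixed_lift [Finite A] {F H : Subgroup A} (hF : Fr F H) {G : Type*} [Group G]
    (φ : A →* MulAut G) {V : Subgroup G} (hab : IsMulCommutative V) (hV : ActInv φ V)
    (hM : ∀ m ∈ V, (∀ f ∈ F, φ f m = m) → m = 1) {g : G} (hg : ∀ h ∈ H, g⁻¹ * φ h g ∈ V) :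
    ∃ c, (∀ h ∈ H, φ h c = c) ∧ g⁻¹ * c ∈ V := by
  let _ : CommGroup V := { (inferInstance : Group V) with mul_comm := hab.is_comm.comm }
  obtain ⟨n, hn⟩ := cocycle (M := V) (subHom φ V hV) hF
    (fun m hm => Subtype.ext (hM m m.2 fun f hf => congrArg Subtype.val (hm f hf)))
    (fun h => ⟨g⁻¹ * φ h g, hg h h.2⟩) (fun h k => Subtype.ext (by
      change g⁻¹ * φ (h * k) g = g⁻¹ * φ h g * φ h (g⁻¹ * φ k g)
      rw [map_mul φ, MulAut.mul_apply, map_mul (φ h), map_inv]; group))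
  refine ⟨g * (n : G)⁻¹, fun h hh => ?_, by simp⟩
  have h1 := hn ⟨h, hh⟩
  rw [mul_comm] at h1
  have h2 : g⁻¹ * φ h g = (n : G)⁻¹ * φ h n := congrArg Subtype.val h1
  rw [map_mul, map_inv, inv_mul_eq_iff_eq_mul.1 h2]; group

section Module

variable {V Q : Type*} [CommGroup V] [CommGroup Q] (ψ : Q →* MulAut V)

/-- Fixed points of a subgroup. -/
def W (K : Subgroup Q) : Subgroup V := actFixed (ψ.comp K.subtype)

theorem mem_W {K : Subgroup Q} {v : V} : v ∈ W ψ K ↔ ∀ x ∈ K, ψ x v = v :=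
  ⟨fun h x hx => h ⟨x, hx⟩, fun h x => h x x.2⟩

/-- Maximal subgroups with nontrivial fixed points. -/
def Mx (K : Subgroup Q) : Prop := W ψ K ≠ ⊥ ∧ ∀ L, K ≤ L → W ψ L ≠ ⊥ → L ≤ K

/-- The endomorphism `v ↦ [x, v]`. -/
def cm (x : Q) : V →* V := (ψ x).toMonoidHom / MonoidHom.id V

theorem cm_apply (x : Q) (v : V) : cm ψ x v = ψ x v / v := rfl

theorem cm_mem {K : Subgroup Q} (x : Q) {v : V} (hv : v ∈ W ψ K) : cm ψ x v ∈ W ψ K :=
  div_mem ((mem_W ψ).2 fun y hy => by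
    change ψ y (ψ x v) = ψ x v
    rw [← MulAut.mul_apply, ← map_mul, mul_comm, map_mul, MulAut.mul_apply, (mem_W ψ).1 hv y hy]) hv

variable {ψ}

theorem Mx.mem {K : Subgroup Q} (hK : Mx ψ K) {v : V} (hv : v ∈ W ψ K) (h1 : v ≠ 1) {x : Q}
    (hx : cm ψ x v = 1) : x ∈ K := by
  let L : Subgroup Q :=
    { carrier := {y | ψ y v = v}
      one_mem' := by simp
      mul_mem' := fun {a b} ha hb => by
        change ψ (a * b) v = v
        rw [map_mul, MulAut.mul_apply, hb, ha]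
      inv_mem' := fun {a} ha => by
        change ψ a⁻¹ v = v
        rw [map_inv, MulAut.inv_apply, MulEquiv.symm_apply_eq, ha] }
  exact hK.2 L ((mem_W ψ).1 hv) (ne_bot_iff_exists_ne_one.2 ⟨⟨v, (mem_W ψ).2 fun _ h => h⟩,
    fun e => h1 (congrArg Subtype.val e)⟩) (div_eq_one.1 hx)

theorem Mx.indep {K : Subgroup Q} (hK : Mx ψ K) {ι : Type*} (L : ι → Subgroup Q) (s : Finset ι)
    (hL : ∀ i ∈ s, Mx ψ (L i) ∧ L i ≠ K) (w : ι → V) (hw : ∀ i ∈ s, w i ∈ W ψ (L i))
    (h : ∏ i ∈ s, w i ∈ W ψ K) : ∏ i ∈ s, w i = 1 := by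
  classical
  induction s using Finset.induction_on generalizing w with
  | empty => rfl
  | insert j s hj ih =>
    obtain ⟨h1, h2⟩ := hL j (Finset.mem_insert_self _ _)
    obtain ⟨x, hx, hxK⟩ : ∃ x ∈ L j, x ∉ K := by
      by_contra h0
      push Not at h0
      exact h2 (le_antisymm h0 (h1.2 K h0 hK.1))
    by_contra hne
    refine hxK (hK.mem h hne ?_)
    have e : cm ψ x (∏ i ∈ insert j s, w i) = ∏ i ∈ s, cm ψ x (w i) := by
      rw [Finset.prod_insert hj, map_mul, map_prod, cm_apply,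
        (mem_W ψ).1 (hw j (Finset.mem_insert_self _ _)) x hx, div_self', one_mul]
    rw [e]
    exact ih (fun i hi => hL i (Finset.mem_insert_of_mem hi)) _
      (fun i hi => cm_mem ψ x (hw i (Finset.mem_insert_of_mem hi))) (e ▸ cm_mem ψ x h)

variable {φ : A →* MulAut V} {χ : A →* MulAut Q}
  (hc : ∀ a x v, φ a (ψ x v) = ψ (χ a x) (φ a v))
include hc

theorem smul_mem_W {K : Subgroup Q} (a : A) {v : V} (hv : v ∈ W ψ K) : φ a v ∈ W ψ (χ a • K) :=
  (mem_W ψ).2 (by rintro _ ⟨x, hx, rfl⟩; exact (hc a x v).symm.trans (by rw [(mem_W ψ).1 hv x hx]))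

theorem W_smul_ne_bot {K : Subgroup Q} (a : A) (h : W ψ K ≠ ⊥) : W ψ (χ a • K) ≠ ⊥ := by
  obtain ⟨⟨v, hv⟩, h1⟩ := ne_bot_iff_exists_ne_one.1 h
  exact ne_bot_iff_exists_ne_one.2 ⟨⟨_, smul_mem_W hc a hv⟩, fun e => h1 (Subtype.ext
    ((φ a).map_eq_one_iff.1 (congrArg Subtype.val e)))⟩

theorem Mx.smul {K : Subgroup Q} (hK : Mx ψ K) (a : A) : Mx ψ (χ a • K) :=
  ⟨W_smul_ne_bot hc a hK.1, fun L h1 h2 => by
    rw [subset_pointwise_smul_iff, ← map_inv]
    refine hK.2 _ ?_ (W_smul_ne_bot hc _ h2)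
    rwa [map_inv, ← pointwise_smul_subset_iff]⟩

theorem Mx.mem_of_free [Finite A] {H : Subgroup A} {K : Subgroup Q} (hK : Mx ψ K)
    (hfree : ∀ h ∈ H, χ h • K = K → h = 1) {c : Q} (h1 : ∀ v, (∀ h ∈ H, φ h v = v) → ψ c v = v) :
    c ∈ K := by
  classical
  have := Fintype.ofFinite H
  obtain ⟨⟨w, hw⟩, w1⟩ := ne_bot_iff_exists_ne_one.1 hK.1
  refine hK.mem hw (fun e => w1 (Subtype.ext e)) ?_
  have h2 : cm ψ c (∏ h : H, φ h w) = 1 := div_eq_one.2 (h1 _ fun g hg => norm_fixed φ H w hg)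
  rw [map_prod, ← Finset.mul_prod_erase _ _ (Finset.mem_univ (1 : H)), OneMemClass.coe_one, map_one,
    MulAut.one_apply] at h2
  rw [eq_inv_of_mul_eq_one_left h2, inv_eq_one]
  exact hK.indep (fun h : H => χ h • K) _ (fun h hh => ⟨hK.smul hc h, fun e =>
    Finset.ne_of_mem_erase hh (Subtype.ext (hfree h h.2 e))⟩) _
    (fun h _ => cm_mem ψ c (smul_mem_W hc h hw))
    (by rw [eq_inv_of_mul_eq_one_right h2]; exact inv_mem (cm_mem ψ c hw))

/-- The module lemma. -/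
theorem exists_fixed [Finite A] [Finite V] [Finite Q] [Nontrivial V] {F H : Subgroup A} (hF : Fr F H)
    (hsol : Group.IsSolvable F) (hQV : (Nat.card Q).Coprime (Nat.card V))
    (hFQ : (Nat.card Q).Coprime (Nat.card F)) (hQ : ∀ x, (∀ f ∈ F, χ f x = x) → x = 1)
    (h1 : ∀ c, (∀ h ∈ H, χ h c = c) → ∀ v, (∀ h ∈ H, φ h v = v) → ψ c v = v) :
    ∃ v, v ≠ 1 ∧ ∀ x, ψ x v = v := by
  classical
  have := Fintype.ofFinite F
  have := Fintype.ofFinite H
  have := hF.normal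
  obtain ⟨B, ⟨b, hb⟩, hB⟩ : ∃ B : Subgroup Q, (∃ a, B ⊔ zpowers a = ⊤) ∧ W ψ B ≠ ⊥ := by
    by_contra h0
    push Not at h0
    exact top_ne_bot (le_bot_iff.1 (act_le_of_cocyclic (φ := ψ) inferInstance (actInv_top ψ)
      (by rwa [card_top]) fun B hB u _ hu => h0 B hB ▸ (mem_W ψ).2 hu))
  obtain ⟨K, hBK, hK, hK'⟩ := Finite.exists_le_maximal (p := fun K : Subgroup Q => W ψ K ≠ ⊥) hB
  have hK1 : Mx ψ K := ⟨hK, fun L a b => hK' b a⟩
  let _ : MulAction A (Subgroup Q) := MulAction.compHom _ χ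
  have hs : ∀ (a : A) (L : Subgroup Q), a • L = χ a • L := fun _ _ => rfl
  obtain ⟨k, hk, hfix⟩ := glauberman_exists_fixed (A := H ⊓ (F ⊔ MulAction.stabilizer A K)) (K := F)
    (le_normalizer_of_normal) (hF.cop.coprime_dvd_left (card_dvd_of_le inf_le_left)) (Or.inr hsol)
    (ω := K) (by
      rintro a ⟨-, ha⟩
      obtain ⟨f, hf, s, hs, rfl⟩ := mem_sup_of_normal_left.1 ha
      exact ⟨f, hf, by rw [mul_smul, hs]⟩)
  have hO : ∀ h ∈ H, ∀ g ∈ F, h • g • k • K = g • k • K → h • k • K = k • K := fun h hh g hg e =>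
    hfix h ⟨hh, by
      rw [show h = h * (g * k)⁻¹ * h⁻¹ * (g * k) * ((g * k)⁻¹ * h * (g * k)) by group]
      refine mul_mem (mem_sup_left (mul_mem (this.conj_mem _ (inv_mem (mul_mem hg hk)) h)
        (mul_mem hg hk))) (mem_sup_right ?_)
      rw [MulAction.mem_stabilizer_iff, mul_smul, mul_smul, mul_smul g, e, ← mul_smul g, inv_smul_smul]⟩
  have hK0 : Mx ψ (k • K) := hK1.smul hc k
  have hcyc : ∃ a, k • K ⊔ zpowers a = ⊤ := ⟨χ k b, by
    have e : K ⊔ zpowers b = ⊤ := top_le_iff.1 (hb ▸ sup_le_sup_right hBK _)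
    have := congrArg (map (χ k).toMonoidHom) e
    rwa [Subgroup.map_sup, MonoidHom.map_zpowers, map_top_of_surjective _ (χ k).surjective] at this⟩
  generalize k • K = L at hO hK0 hcyc
  have hroot : ∀ n, n ∣ Nat.card F → ∀ x : Q, x ^ n ∈ L → x ∈ L := fun n hn x hx =>
    (QuotientGroup.eq_one_iff _).1 (eq_one_of_pow_eq_one_of_coprime (n := n)
      ((hFQ.coprime_dvd_right hn).coprime_dvd_left (card_quotient_dvd_card L)).symm
      ((QuotientGroup.eq_one_iff (x ^ n)).2 hx))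
  have hE : ∀ h, h • L = L → ∀ x ∈ F ⊓ MulAction.stabilizer A L,
      h * x * h⁻¹ ∈ F ⊓ MulAction.stabilizer A L := fun h h2 x hx =>
    have h3 : h ∈ MulAction.stabilizer A L := h2
    mem_inf.2 ⟨this.conj_mem _ hx.1 _, mul_mem (mul_mem h3 (mem_inf.1 hx).2) (inv_mem h3)⟩
  have hmem : ∀ g c, c ∈ g⁻¹ • L → χ g c ∈ L := fun g c h => by
    rwa [hs, map_inv, mem_inv_pointwise_smul_iff] at h
  have hU : ∀ h ∈ H, h ≠ 1 → ∀ g ∈ F, h • g • L = g • L → g • L = L := fun h hh h0 g hg e => by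
    have h2 := hO h hh g hg e
    obtain ⟨y, hy⟩ := (hF.bij hh h0 inf_le_left (hE h h2)).2
      ⟨g⁻¹ * (h * g * h⁻¹), mem_inf.2 ⟨mul_mem (inv_mem hg) (this.conj_mem _ hg _), by
        rw [MulAction.mem_stabilizer_iff, mul_smul, mul_smul, mul_smul, inv_smul_eq_iff.2 h2.symm, e,
          inv_smul_smul]⟩⟩
    have h3 := (hF.bij hh h0 le_rfl fun x hx => this.conj_mem _ hx _).1 (a₁ := ⟨y, y.2.1⟩)
      (a₂ := ⟨g⁻¹, inv_mem hg⟩) (Subtype.ext (by simpa using congrArg Subtype.val hy))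
    have h4 : g⁻¹ ∈ MulAction.stabilizer A L := (show y.1 = g⁻¹ from congrArg Subtype.val h3) ▸ y.2.2
    exact inv_mem_iff.1 h4
  have hC : ∀ c, (∀ h ∈ H, χ h c = c) → ∀ g ∈ F, χ g c ∈ L := by
    intro c hc' g hg
    by_cases hA : ∀ h ∈ H, h • L = L → h = 1
    · exact hmem g c ((hK0.smul hc _).mem_of_free hc (fun h hh e => hA h hh (hO h hh _ (inv_mem hg) e))
        (h1 c hc'))
    push Not at hA
    obtain ⟨h, hh, h2, h0⟩ := hA
    have h3 : ∀ g ∈ F, g • L ≠ L → χ g c ∈ L := fun g hg hne =>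
      hmem g c ((hK0.smul hc _).mem_of_free hc (fun h hh e => by_contra fun h0 =>
        hne (inv_smul_eq_iff.1 (hU h hh h0 _ (inv_mem hg) e)).symm) (h1 c hc'))
    have hinv : ActInv (χ.comp (MulAction.stabilizer A L).subtype) L := fun a x hx =>
      (show (a : A) • L = L from a.2).le (smul_mem_pointwise_smul _ _ _ hx)
    have : IsCyclic (Q ⧸ L) := by
      obtain ⟨a, ha⟩ := hcyc
      refine isCyclic_iff_exists_zpowers_eq_top.2 ⟨a, ?_⟩
      have := congrArg (map (QuotientGroup.mk' L)) ha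
      rwa [Subgroup.map_sup, MonoidHom.map_zpowers, map_top_of_surjective _ QuotientGroup.mk_surjective,
        (map_eq_bot_iff L).2 (QuotientGroup.ker_mk' L).ge, bot_sup_eq] at this
    have h4 : ∀ g ∈ F, g • L = L → ∀ y, ((χ g y : Q) : Q ⧸ L) = y := fun g hg e y => by
      obtain ⟨x, hx⟩ := (hF.bij hh h0 inf_le_left (hE h h2)).2 ⟨g, hg, e⟩
      have h5 : (⟨g, e⟩ : MulAction.stabilizer A L) = ⟨x, x.2.2⟩ * (⟨h, h2⟩ * ⟨x, x.2.2⟩⁻¹ * ⟨h, h2⟩⁻¹) :=
        Subtype.ext (congrArg Subtype.val hx).symm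
      have h6 : quotHom _ L hinv ⟨g, e⟩ = 1 := by
        rw [h5]
        refine (IsCyclic.mulAutMulEquiv (Q ⧸ L)).injective ?_
        simp
      exact DFunLike.congr_fun h6 (y : Q ⧸ L)
    by_cases h5 : g • L = L
    · rw [← QuotientGroup.eq_one_iff, h4 g hg h5, QuotientGroup.eq_one_iff]
      refine hroot _ (card_subgroup_dvd_card ((MulAction.stabilizer A L).subgroupOf F)) c ?_
      have h6 := congrArg (QuotientGroup.mk' L) (hQ _ fun g hg => norm_fixed χ F c hg)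
      rw [map_prod, map_one, Finset.prod_congr rfl (g := fun f : F =>
        if f ∈ (MulAction.stabilizer A L).subgroupOf F then (c : Q ⧸ L) else 1) (fun f _ => by
          split_ifs with a
          exacts [h4 f f.2 a c, (QuotientGroup.eq_one_iff _).2 (h3 f f.2 a)]),
        Finset.prod_ite, Finset.prod_const_one, mul_one, Finset.prod_const] at h6
      rwa [← QuotientGroup.eq_one_iff, Nat.card_eq_fintype_card, Fintype.card_subtype]
    · exact h3 g hg h5
  obtain ⟨⟨v, hv⟩, v1⟩ := ne_bot_iff_exists_ne_one.1 hK0.1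
  refine ⟨v, fun e => v1 (Subtype.ext e), fun x => (mem_W ψ).1 hv x (hroot _ dvd_rfl x ?_)⟩
  rw [← prod_norm χ hF hQ x]
  exact prod_mem fun g _ => hC _ (fun h hh => norm_fixed χ H _ hh) g g.2

end Module

end Cfsg.Agent.GT.FrobAut
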