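import Mathlib
import Cfsg.Agent.GT.FrobAut
import Cfsg.Agent.GT.Fitting
import Cfsg.Agent.GT.MinNormal
import Cfsg.Agent.GT.Thompson
import Cfsg.Agent.GT.TransferFrobenius
import Cfsg.Agent.S0108

/-!
A Frobenius group of automorphisms with fixed-point-free kernel: if the fixed points of the complement
form a nilpotent group, the group is nilpotent.
-/

set_option autoImplicit false

namespace Cfsg.Agent.GT.FrobAut

open Subgroup CopAct
open scoped Pointwise

universe u

variable {A : Type*} [Group A] {G : Type u} [Group G]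

/-- Fixed points of a subgroup of the operator group. -/
abbrev Cx (φ : A →* MulAut G) (F : Subgroup A) : Subgroup G := actFixed (φ.comp F.subtype)

theorem mem_Cx {φ : A →* MulAut G} {F : Subgroup A} {g : G} : g ∈ Cx φ F ↔ ∀ f ∈ F, φ f g = g :=
  ⟨fun h x hx => h ⟨x, hx⟩, fun h x => h x x.2⟩

theorem actInv_Cx (φ : A →* MulAut G) (F : Subgroup A) [hF : F.Normal] : ActInv φ (Cx φ F) :=
  fun a g hg => mem_Cx.2 fun f hf => by
    rw [← MulAut.mul_apply, ← map_mul, show f * a = a * (a⁻¹ * f * a⁻¹⁻¹) by group, map_mul,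
      MulAut.mul_apply, mem_Cx.1 hg _ (hF.conj_mem f hf _)]

theorem actInv_map {φ : A →* MulAut G} {U : Subgroup G} (hU : ActInv φ U) (C : Subgroup U)
    [C.Characteristic] : ActInv φ (C.map U.subtype) := by
  rintro a _ ⟨x, hx, rfl⟩
  exact ⟨_, actInv_of_characteristic (subHom φ U hU) C a x hx, rfl⟩

theorem dvd_card_Cx [Finite G] (φ : A →* MulAut G) {p : ℕ} [Fact p.Prime] {P : Subgroup A}
    (hP : IsPGroup p P) (h : p ∣ Nat.card G) : p ∣ Nat.card (Cx φ P) := by
  let _ : MulAction P G := MulAction.compHom G (φ.comp P.subtype)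
  exact (Nat.modEq_zero_iff_dvd.1 ((hP.card_modEq_card_fixedPoints G).symm.trans
    (Nat.modEq_zero_iff_dvd.2 h)) :)

theorem isNilpotent_of_injective {K L : Type*} [Group K] [Group L] [Group.IsNilpotent L] (f : K →* L)
    (hf : Function.Injective f) : Group.IsNilpotent K :=
  Group.nilpotent_of_mulEquiv (MonoidHom.ofInjective hf).symm

/-- The hypotheses. -/
structure Hy (φ : A →* MulAut G) (F H : Subgroup A) : Prop where
  fr : Fr F H
  nil : Group.IsNilpotent F
  fix : ∀ g, (∀ f ∈ F, φ f g = g) → g = 1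
  cen : Group.IsNilpotent (Cx φ H)

namespace Hy

variable {φ : A →* MulAut G} {F H : Subgroup A} (h : Hy φ F H)
include h

theorem sub {U : Subgroup G} (hU : ActInv φ U) : Hy (subHom φ U hU) F H where
  fr := h.fr
  nil := h.nil
  fix g hg := Subtype.ext (h.fix g fun f hf => congrArg Subtype.val (hg f hf))
  cen := by
    have := h.cen
    exact isNilpotent_of_injective ((U.subtype.comp (Subgroup.subtype _)).codRestrict (Cx φ H)
      fun x a => congrArg Subtype.val (x.2 a)) fun x y e =>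
        Subtype.ext (Subtype.ext (congrArg (fun z : Cx φ H => z.1) e))

variable [Finite A] [Finite G]

theorem not_dvd (p : ℕ) [hp : Fact p.Prime] : ¬ p ∣ Nat.card (Cx φ (pPrimeCoreOf p F)) := by
  intro hd
  have := h.fr.normal
  have := h.nil
  have h1 := dvd_card_Cx (subHom φ _ (actInv_Cx φ (pPrimeCoreOf p F))) (isPGroup_pCoreOf p F) hd
  have h2 : Cx (subHom φ _ (actInv_Cx φ (pPrimeCoreOf p F))) (pCoreOf p F) = ⊥ := by
    refine eq_bot_iff.2 fun x hx => Subtype.ext (h.fix _ fun f hf => ?_)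
    rw [← pCoreOf_sup_pPrimeCoreOf p F] at hf
    obtain ⟨a, ha, b, hb, rfl⟩ := mem_sup_of_normal_left.1 hf
    rw [map_mul, MulAut.mul_apply, mem_Cx.1 x.2 b hb]
    exact congrArg Subtype.val (mem_Cx.1 hx a ha)
  rw [h2, card_bot] at h1
  exact hp.out.one_lt.ne' (Nat.dvd_one.1 h1)

theorem eq_one {p : ℕ} [Fact p.Prime] {V : Subgroup G} (hV : IsPGroup p V) {v : G} (hv : v ∈ V)
    (h1 : ∀ f ∈ pPrimeCoreOf p F, φ f v = v) : v = 1 := by
  obtain ⟨k, hk⟩ := IsPGroup.iff_orderOf.1 hV ⟨v, hv⟩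
  rw [← Subgroup.orderOf_coe] at hk
  rcases k with _ | k
  · exact orderOf_eq_one_iff.1 hk
  · exact absurd ((dvd_pow_self p k.succ_ne_zero).trans (hk ▸ orderOf_dvd_natCard _ (mem_Cx.2 h1)))
      (h.not_dvd p)

omit [Finite A] [Finite G] in
theorem shrink {F' : Subgroup A} [hn : F'.Normal] (hle : F' ≤ F) (h1 : Cx φ F' = ⊥) : Hy φ F' H where
  fr := h.fr.mono hn hle
  nil := have := h.nil; isNilpotent_of_injective (inclusion hle) (inclusion_injective hle)
  fix _ hg := mem_bot.1 (h1 ▸ mem_Cx.2 hg)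
  cen := h.cen

theorem quot {p : ℕ} [Fact p.Prime] {V : Subgroup G} [V.Normal] (hab : IsMulCommutative V)
    (hp : IsPGroup p V) (hV : ActInv φ V) : Hy (quotHom φ V hV) F H where
  fr := h.fr
  nil := h.nil
  fix g hg := by
    have := h.fr.normal
    obtain ⟨g, rfl⟩ := QuotientGroup.mk_surjective g
    obtain ⟨c, hc, h1⟩ := act_exists_fixed_inv_mul_mem (φ := φ.comp (pPrimeCoreOf p F).subtype)
      (fun a => hV a) (by
        obtain ⟨k, hk⟩ := hp.exists_card_eq
        rw [hk]; exact (coprime_card_pPrimeCoreOf p F).pow_right k)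
      (Or.inr (isSolvable_of_isPGroup hp)) (g := g)
      fun a => QuotientGroup.eq.1 (hg a (pPrimeCoreOf_le F a.2)).symm
    rw [QuotientGroup.eq.2 h1] at hg ⊢
    rw [h.fix c fun f hf => ?_, QuotientGroup.mk_one]
    exact (inv_mul_eq_one.1 (h.eq_one hp (QuotientGroup.eq.1 (hg f hf).symm)
      (mem_Cx.1 (mul_mem (inv_mem hc) (actInv_Cx φ _ f c hc))))).symm
  cen := by
    have := h.cen
    refine Group.nilpotent_of_surjective (((QuotientGroup.mk' V).comp (Cx φ H).subtype).codRestrict _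
      fun x a => congrArg (QuotientGroup.mk (s := V)) (x.2 a)) ?_
    rintro ⟨g, hg⟩
    obtain ⟨g, rfl⟩ := QuotientGroup.mk_surjective g
    obtain ⟨c, hc, h1⟩ := exists_fixed_lift h.fr φ hab hV (fun m _ => h.fix m) (g := g)
      fun a ha => QuotientGroup.eq.1 (mem_Cx.1 hg a ha).symm
    exact ⟨⟨c, mem_Cx.2 hc⟩, Subtype.ext (QuotientGroup.eq.2 h1).symm⟩

end Hy

theorem exists_min [Finite G] (φ : A →* MulAut G) {N : Subgroup G} [hn : N.Normal] (hN : ActInv φ N)
    (h0 : N ≠ ⊥) (hnil : Group.IsNilpotent N) : ∃ V ≤ N, V ≠ ⊥ ∧ V.Normal ∧ ActInv φ V ∧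
      IsMulCommutative V ∧ (∃ r, r.Prime ∧ IsPGroup r V) ∧
        ∀ U ≤ V, U ≠ ⊥ → U.Normal → ActInv φ U → V ≤ U := by
  obtain ⟨V, hVN, ⟨a1, a2, a3⟩, hm⟩ := Finite.exists_le_minimal
    (p := fun V : Subgroup G => V ≠ ⊥ ∧ V.Normal ∧ ActInv φ V) ⟨h0, hn, hN⟩
  have := isNilpotent_of_injective (inclusion hVN) (inclusion_injective hVN)
  have := (nontrivial_iff_ne_bot V).2 a1
  have key : ∀ C : Subgroup V, C.Characteristic → C ≠ ⊥ → C = ⊤ := fun C _ hC =>
    map_injective V.subtype_injective (le_antisymm (map_mono le_top) ((map_subtype_le _).trans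
      (hm ⟨fun e => hC ((map_eq_bot_iff_of_injective _ V.subtype_injective).1 e), inferInstance,
        actInv_map a3 C⟩ (map_subtype_le C))))
  obtain ⟨r, hr, h1⟩ := exists_pCore_ne_bot V
  exact ⟨V, hVN, a1, a2, a3, ⟨⟨fun x y => mem_center_iff.1
    (key _ inferInstance (Group.IsNilpotent.center_ne_bot V) ▸ mem_top y) x⟩⟩,
    ⟨r, hr, pCore_eq_top_iff.1 (key _ inferInstance h1)⟩, fun U b1 b2 b3 b4 => hm ⟨b2, b3, b4⟩ b1⟩

variable [Finite A] [Finite G] {φ : A →* MulAut G} {F H : Subgroup A}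

/-- The case where there is a nontrivial invariant nilpotent normal subgroup. -/
theorem step_local (h : Hy φ F H) (hsub : ∀ U, ActInv φ U → U ≠ ⊤ → Group.IsNilpotent U)
    (hquot : ∀ (V : Subgroup G) [V.Normal], ActInv φ V → V ≠ ⊥ → IsMulCommutative V →
      (∃ r, r.Prime ∧ IsPGroup r V) → Group.IsNilpotent (G ⧸ V))
    {N : Subgroup G} [N.Normal] (hN : ActInv φ N) (h0 : N ≠ ⊥) (hnil : Group.IsNilpotent N) :
    Group.IsNilpotent G := by
  by_contra hG
  obtain ⟨V, -, v0, vn, vi, va, ⟨r, hr, vp⟩, vm⟩ := exists_min φ hN h0 hnil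
  have := Fact.mk hr
  have := hquot V vi v0 va ⟨r, hr, vp⟩
  have hK : ∀ M : Subgroup G, M.Normal → ActInv φ M → M ≠ ⊤ → IsPGroup r M := fun M _ mi mt => by
    have := hsub M mi mt
    by_cases h1 : pPrimeCoreOf r M = ⊥
    · rw [← pCoreOf_eq_self_iff, ← sup_bot_eq (pCoreOf r M), ← h1, pCoreOf_sup_pPrimeCoreOf]
    obtain ⟨U, u1, u0, un, ui, ua, up, -⟩ := exists_min φ (N := pPrimeCoreOf r M) (actInv_map mi _) h1
      (isNilpotent_of_injective _ (inclusion_injective (pPrimeCoreOf_le M)))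
    have := hquot U ui u0 ua up
    refine absurd (isNilpotent_of_injective ((QuotientGroup.mk' U).prod (QuotientGroup.mk' V)) ?_) hG
    rw [← MonoidHom.ker_eq_bot_iff, MonoidHom.ker_prod, QuotientGroup.ker_mk', QuotientGroup.ker_mk']
    exact disjoint_iff.1 (disjoint_of_coprime_natCard (coprime_of_isPGroup_right
      ((coprime_card_pPrimeCoreOf r M).coprime_dvd_left (card_dvd_of_le u1)) vp))
  have h1 : pPrimeCore r (G ⧸ V) ≠ ⊥ := fun e => by
    have h2 := pCore_sup_pPrimeCore (G := G ⧸ V) r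
    rw [e, sup_bot_eq, pCore_eq_top_iff] at h2
    exact hG ((h2.to_subgroup ⊤).comap_of_ker_isPGroup (QuotientGroup.mk' V)
      ((QuotientGroup.ker_mk' V).symm ▸ vp) |>.of_equiv topEquiv).isNilpotent
  obtain ⟨M, m1, m0, mn, mi, ma, ⟨q, hq, mp⟩, -⟩ := exists_min (quotHom φ V vi)
    (actInv_of_characteristic _ _) h1 inferInstance
  have m2 := (coprime_card_pPrimeCore (G := G ⧸ V) r).coprime_dvd_left (card_dvd_of_le m1)
  have m3 : M = ⊤ := by
    by_contra mt
    have h2 := (hK _ (mn.comap _) (actInv_comap_mk' mi) fun e => mt (by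
      rw [← map_comap_eq_self_of_surjective (QuotientGroup.mk'_surjective V) M, e,
        map_top_of_surjective _ (QuotientGroup.mk'_surjective V)])).map (QuotientGroup.mk' V)
    rw [map_comap_eq_self_of_surjective (QuotientGroup.mk'_surjective V)] at h2
    exact m0 (card_eq_one.1 ((Nat.coprime_self _).1 (coprime_of_isPGroup_right m2 h2)))
  subst m3
  have := Fact.mk hq
  rw [card_top] at m2
  have mp' : IsPGroup q (G ⧸ V) := mp.of_equiv topEquiv
  have hcop : (Nat.card (G ⧸ V)).Coprime (Nat.card V) := by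
    obtain ⟨k, hk⟩ := vp.exists_card_eq
    rw [hk]; exact m2.pow_right k
  let _ : CommGroup V := { (inferInstance : Group V) with mul_comm := va.is_comm.comm }
  let _ : CommGroup (G ⧸ V) := { (inferInstance : Group (G ⧸ V)) with
    mul_comm := fun x y => setLike_mul_comm (mem_top x) (mem_top y) }
  let ψ : G ⧸ V →* MulAut V := QuotientGroup.lift V MulAut.conjNormal fun x hx =>
    MulEquiv.ext fun y => Subtype.ext (by
      change x * y * x⁻¹ = y
      rw [setLike_mul_comm hx y.2, mul_inv_cancel_right])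
  have := (nontrivial_iff_ne_bot V).2 v0
  have := h.fr.normal
  have := h.nil
  have := h.cen
  obtain ⟨v, v1, hv⟩ := exists_fixed (ψ := ψ) (φ := subHom φ V vi) (χ := quotHom φ V vi)
    (fun a x v => by
      obtain ⟨x, rfl⟩ := QuotientGroup.mk_surjective x
      refine Subtype.ext ?_
      change φ a (x * v * x⁻¹) = φ a x * φ a v * (φ a x)⁻¹
      rw [map_mul, map_mul, map_inv])
    (h.fr.mono inferInstance (pPrimeCoreOf_le (p := q) F))
    (have := isNilpotent_of_injective _ (inclusion_injective (pPrimeCoreOf_le (p := q) F));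
      inferInstance) hcop (by
      obtain ⟨k, hk⟩ := mp'.exists_card_eq
      rw [hk]; exact (coprime_card_pPrimeCoreOf q F).symm.pow_left k)
    (fun x hx => (h.quot va vp vi).eq_one mp (mem_top x) hx) (fun c hc v hv => by
      obtain ⟨g, rfl⟩ := QuotientGroup.mk_surjective c
      obtain ⟨c, hc, h1⟩ := exists_fixed_lift h.fr φ va vi (fun m _ => h.fix m) (g := g)
        fun a ha => QuotientGroup.eq.1 (hc a ha).symm
      rw [QuotientGroup.eq.2 h1]
      have h2 : Commute (c ^ Nat.card V) v := commute_of_coprime_of_isNilpotent (H := Cx φ H)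
        (pow_mem (mem_Cx.2 hc) _) (mem_Cx.2 fun a ha => congrArg Subtype.val (hv a ha))
        ((hcop.coprime_dvd_right (orderOf_dvd_natCard _ v.2)).coprime_dvd_left
          (orderOf_dvd_of_pow_eq_one (by
            have h3 : c ^ Nat.card (G ⧸ V) ∈ V := (QuotientGroup.eq_one_iff _).1 (by
              rw [QuotientGroup.mk_pow, pow_card_eq_one'])
            rw [← pow_mul, mul_comm, pow_mul]
            exact congrArg Subtype.val (pow_card_eq_one' (x := (⟨_, h3⟩ : V))))))
      obtain ⟨k, hk⟩ := exists_pow_eq_self_of_coprime (x := (c : G ⧸ V))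
        (hcop.symm.coprime_dvd_right (orderOf_dvd_natCard _))
      rw [← hk, ← QuotientGroup.mk_pow, ← QuotientGroup.mk_pow]
      exact Subtype.ext (mul_inv_eq_iff_eq_mul.2 (h2.pow_left k)))
  refine hG (Subgroup.isNilpotent_of_ker_le_center (QuotientGroup.mk' V) ?_)
  rw [QuotientGroup.ker_mk']
  exact (vm (V ⊓ center G) inf_le_left (ne_bot_iff_exists_ne_one.2 ⟨⟨v, v.2, mem_center_iff.2 fun g =>
    mul_inv_eq_iff_eq_mul.1 (congrArg Subtype.val (hv g))⟩, fun e => v1 (Subtype.ext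
      (congrArg (fun z : ↥(V ⊓ center G) => z.1) e))⟩) inferInstance (vi.inf (actInv_of_characteristic _ _))).trans
    inf_le_right

section Simple

omit [Finite A]

variable (hsub : ∀ U, ActInv φ U → U ≠ ⊤ → Group.IsNilpotent U)
  (hno : ∀ N : Subgroup G, N.Normal → ActInv φ N → Group.IsNilpotent N → N = ⊥)
include hsub hno

theorem exists_sylow {p : ℕ} [Fact p.Prime] {U : Subgroup G} (hU : ActInv φ U) (ht : U ≠ ⊤)
    (hd : p ∣ Nat.card U) : ∃ P : Sylow p G, ActInv φ P := by
  have := hsub U hU ht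
  have h1 : pCoreOf p U ≠ ⊥ := fun e => by
    have h2 := pCoreOf_sup_pPrimeCoreOf p U
    rw [e, bot_sup_eq] at h2
    have h3 := coprime_card_pPrimeCoreOf p U
    rw [h2] at h3
    exact (Fact.out : p.Prime).one_lt.ne' (Nat.eq_one_of_dvd_coprimes h3 hd dvd_rfl)
  obtain ⟨P, hP, ⟨a1, a2⟩, hm⟩ := Finite.exists_le_maximal
    (p := fun P : Subgroup G => IsPGroup p P ∧ ActInv φ P) ⟨isPGroup_pCoreOf p U, actInv_map hU _⟩
  have := hsub _ a2.normalizer fun e =>
    h1 (le_bot_iff.1 (hno P (normalizer_eq_top_iff.1 e) a2 a1.isNilpotent ▸ hP))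
  have h2 := hm ⟨isPGroup_pCoreOf p _, actInv_map a2.normalizer _⟩
    (le_pCoreOf_of_isNilpotent le_normalizer a1)
  obtain ⟨S, hS⟩ := a1.exists_le_sylow
  refine ⟨S, (hS.eq_or_lt.resolve_right fun hlt => ?_) ▸ a2⟩
  exact (lt_inf_normalizer_of_isNilpotent S.isPGroup'.isNilpotent hlt).not_ge
    ((le_pCoreOf_of_isNilpotent inf_le_right (S.isPGroup'.to_inf_left)).trans h2)

theorem step_sylow {p : ℕ} [hp : Fact p.Prime] (h2 : p ≠ 2) (hd : p ∣ Nat.card G) (P : Sylow p G)
    (hP : ActInv φ P) : Group.IsNilpotent G := by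
  have h0 : (P : Subgroup G) ≠ ⊥ := P.ne_bot_of_dvd_card hd
  have key : ∀ C : Subgroup P, C.Characteristic → C.map (P : Subgroup G).subtype ≠ ⊥ →
      Group.IsNilpotent (normalizer (C.map (P : Subgroup G).subtype : Set G)) := fun C _ hC =>
    hsub _ (actInv_map hP C).normalizer fun e => hC (hno _ (normalizer_eq_top_iff.1 e)
      (actInv_map hP C) ((P.isPGroup'.to_subgroup C).map _).isNilpotent)
  have e : (P : Subgroup G) ⊓ centralizer (P : Set G) = (center P).map (P : Subgroup G).subtype := by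
    ext x
    exact ⟨fun hx => ⟨⟨x, hx.1⟩, mem_center_iff.2 fun y => Subtype.ext (hx.2 y y.2), rfl⟩, by
      rintro ⟨y, hy, rfl⟩
      exact ⟨y.2, fun z hz => congrArg Subtype.val (mem_center_iff.1 hy ⟨z, hz⟩)⟩⟩
  obtain ⟨Q, N, hN, hc⟩ := (S0108.result h2 P).2 ⟨by
    rw [thompsonSubgroupOf_eq, ← thJ_top_map]
    exact Tr.hasNormalPComplement_of_isNilpotent (key _ (thJ_characteristic _ _)
      (by rw [thJ_top_map]; exact thJ_ne_bot dvd_rfl P.isPGroup' h0)), by
    have := P.isPGroup'.isNilpotent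
    have := (nontrivial_iff_ne_bot _).2 h0
    have := key _ inferInstance fun e => Group.IsNilpotent.center_ne_bot P
      ((map_eq_bot_iff_of_injective _ (Subgroup.subtype_injective _)).1 e)
    rw [← e] at this
    exact Tr.hasNormalPComplement_of_isNilpotent (isNilpotent_of_injective _
      (inclusion_injective (centralizer_le_normalizer _)))⟩
  have h3 : pPrimeCore p G = ⊥ := hno _ inferInstance (actInv_of_characteristic _ _)
    (hsub _ (actInv_of_characteristic _ _) fun e => not_dvd_card_pPrimeCore hp.out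
      (by rw [e, card_top]; exact hd))
  have h4 : N = ⊥ := le_bot_iff.1 (h3 ▸ le_pPrimeCore_of_not_dvd hp.out (by
    rw [← hc.index_eq_card]; exact Q.not_dvd_index))
  subst h4
  have h5 := Q.isPGroup'
  rw [isComplement'_bot_left.1 hc] at h5
  exact (h5.of_equiv topEquiv).isNilpotent

end Simple

omit [Finite G] [Group G] in
theorem main_aux (H : Subgroup A) (n : ℕ) : ∀ (G : Type u) [Group G] [Finite G] (φ : A →* MulAut G)
    (F : Subgroup A), Nat.card G + Nat.card F = n → Hy φ F H → Group.IsNilpotent G := by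
  induction n using Nat.strong_induction_on with | _ n ih => ?_
  intro G _ _ φ F hn h
  have := h.fr.normal
  have := h.nil
  have hsub : ∀ U, ActInv φ U → U ≠ ⊤ → Group.IsNilpotent U := fun U hU ht =>
    ih _ (hn ▸ Nat.add_lt_add_right (card_lt_of_ne_top ht) _) U _ F rfl (h.sub hU)
  by_cases hno : ∀ N : Subgroup G, N.Normal → ActInv φ N → Group.IsNilpotent N → N = ⊥
  swap
  · push Not at hno
    obtain ⟨N, _, a, b, c⟩ := hno
    refine step_local h hsub (fun V _ vi v0 va ⟨r, hr, vp⟩ => ?_) a c b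
    have := Fact.mk hr
    refine ih _ (hn ▸ Nat.add_lt_add_right ?_ _) _ _ F rfl (h.quot va vp vi)
    rw [card_eq_card_quotient_mul_card_subgroup V]
    exact lt_mul_of_one_lt_right Nat.card_pos ((one_lt_card_iff_ne_bot V).2 v0)
  by_cases hcop : (Nat.card F).Coprime (Nat.card G)
  · rcases Nat.eq_two_pow_or_exists_odd_prime_and_dvd (Nat.card G) with ⟨k, hk⟩ | ⟨p, hp, hd, ho⟩
    · exact (IsPGroup.of_card hk).isNilpotent
    have := Fact.mk hp
    obtain ⟨P, hP⟩ := act_exists_invariant_sylow (φ.comp F.subtype) hcop (Or.inl inferInstance) p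
    refine step_sylow hsub hno (by rintro rfl; exact absurd ho (by decide)) hd P fun a x hx => ?_
    obtain ⟨c, hc, e⟩ := act_invariant_sylow_conj hcop (Or.inl inferInstance) (φ a • P) P (by
      rintro f _ ⟨y, hy, rfl⟩
      refine ⟨_, hP ⟨a⁻¹ * f * a⁻¹⁻¹, h.fr.normal.conj_mem _ f.2 _⟩ y hy, ?_⟩
      change φ a (φ _ y) = φ f (φ a y)
      rw [← MulAut.mul_apply, ← MulAut.mul_apply, ← map_mul, ← map_mul]
      congr 2; simp [mul_assoc]) hP
    rw [h.fix c (mem_Cx.1 hc), one_smul] at e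
    rw [← e]
    exact ⟨x, hx, rfl⟩
  obtain ⟨r, hr, r1, r2⟩ := Nat.Prime.not_coprime_iff_dvd.1 hcop
  have := Fact.mk hr
  by_cases h2 : Cx φ (pPrimeCoreOf r F) = ⊥
  · refine ih _ (hn ▸ Nat.add_lt_add_left (card_lt_of_lt ((pPrimeCoreOf_le F).lt_of_ne
      fun e => ?_)) _) G φ _ rfl (h.shrink (pPrimeCoreOf_le F) h2)
    have h3 := coprime_card_pPrimeCoreOf r F
    rw [e] at h3
    exact hr.one_lt.ne' (Nat.eq_one_of_dvd_coprimes h3 r1 dvd_rfl)
  by_cases h3 : r = 2
  · obtain ⟨p, hp, hd⟩ := Nat.exists_prime_and_dvd ((one_lt_card_iff_ne_bot _).2 h2).ne'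
    have := Fact.mk hp
    obtain ⟨P, hP⟩ := exists_sylow hsub hno (actInv_Cx φ _)
      (fun e => h.not_dvd r (by rw [e, card_top]; exact r2)) hd
    exact step_sylow hsub hno (fun e => h.not_dvd r (by rw [h3] at hd ⊢; exact e ▸ hd))
      (hd.trans (card_subgroup_dvd_card _)) P hP
  · obtain ⟨P, hP⟩ := exists_sylow hsub hno (actInv_Cx φ (pCoreOf r F)) (fun e => h2 (eq_bot_iff.2
      fun x hx => h.fix x fun f hf => by
        rw [← pCoreOf_sup_pPrimeCoreOf r F] at hf
        obtain ⟨a, ha, b, hb, rfl⟩ := mem_sup_of_normal_left.1 hf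
        rw [map_mul, MulAut.mul_apply, mem_Cx.1 hx b hb]
        exact mem_Cx.1 (e ▸ mem_top x) a ha)) (dvd_card_Cx φ (isPGroup_pCoreOf r F) r2)
    exact step_sylow hsub hno h3 r2 P hP

theorem Hy.isNilpotent (h : Hy φ F H) : Group.IsNilpotent G := main_aux H _ G φ F rfl h

end Cfsg.Agent.GT.FrobAut
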