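import Mathlib
import Cfsg.Agent.GT.PGroupExtraspecial

/-!
# The Heisenberg group `p ^ (1 + 2 n)` and its unitriangular representation
-/

open scoped commutatorElement

namespace Cfsg.Agent.GT.PG

open Subgroup Matrix

/-- The Heisenberg group of triples `(a, b, c)`. -/
@[ext] structure Heis (n : ℕ) (R : Type*) where
  /-- column part -/
  a : Fin n → R
  /-- row part -/
  b : Fin n → R
  /-- central part -/
  c : R

namespace Heis

variable {n : ℕ} {R : Type*} [CommRing R]

instance : Mul (Heis n R) := ⟨fun x y => ⟨x.a + y.a, x.b + y.b, x.c + y.c + x.b ⬝ᵥ y.a⟩⟩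
instance : One (Heis n R) := ⟨⟨0, 0, 0⟩⟩
instance : Inv (Heis n R) := ⟨fun x => ⟨-x.a, -x.b, -x.c + x.b ⬝ᵥ x.a⟩⟩

theorem mul_def (x y : Heis n R) : x * y = ⟨x.a + y.a, x.b + y.b, x.c + y.c + x.b ⬝ᵥ y.a⟩ := rfl
theorem one_def : (1 : Heis n R) = ⟨0, 0, 0⟩ := rfl
theorem inv_def (x : Heis n R) : x⁻¹ = ⟨-x.a, -x.b, -x.c + x.b ⬝ᵥ x.a⟩ := rfl

instance : Group (Heis n R) := Group.ofLeftAxioms
  (fun x y z => by
    simp only [mul_def, add_dotProduct, dotProduct_add, Heis.mk.injEq]
    exact ⟨add_assoc _ _ _, add_assoc _ _ _, by ring⟩)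
  (fun x => by simp [mul_def, one_def])
  (fun x => by simp [mul_def, one_def, inv_def])

/-- The underlying set. -/
def equivProd : Heis n R ≃ (Fin n → R) × (Fin n → R) × R where
  toFun x := (x.a, x.b, x.c)
  invFun x := ⟨x.1, x.2.1, x.2.2⟩
  left_inv _ := rfl
  right_inv _ := rfl

omit [CommRing R] in
theorem card_eq : Nat.card (Heis n R) = Nat.card R ^ (2 * n + 1) := by
  rw [Nat.card_congr equivProd, Nat.card_prod, Nat.card_prod, Nat.card_fun]
  simp only [Nat.card_eq_fintype_card, Fintype.card_fin]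
  ring

instance [Finite R] : Finite (Heis n R) := Finite.of_equiv _ equivProd.symm

theorem pow_def (x : Heis n R) (k : ℕ) :
    x ^ k = ⟨k • x.a, k • x.b, k • x.c + k.choose 2 • (x.b ⬝ᵥ x.a)⟩ := by
  induction k with
  | zero => simp [one_def]
  | succ k ih =>
    rw [pow_succ, ih, mul_def, Nat.choose_succ_succ' k 1, Nat.choose_one_right]
    simp only [succ_nsmul, smul_dotProduct, add_nsmul, Heis.mk.injEq, true_and]
    ring

theorem mul_comm_iff (x y : Heis n R) : x * y = y * x ↔ x.b ⬝ᵥ y.a = y.b ⬝ᵥ x.a := by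
  simp [mul_def, add_comm]

theorem mem_center_iff' {x : Heis n R} : x ∈ center (Heis n R) ↔ x.a = 0 ∧ x.b = 0 := by
  rw [mem_center_iff]
  refine ⟨fun h => ⟨funext fun i => ?_, funext fun i => ?_⟩, fun h y => ?_⟩
  · simpa using (mul_comm_iff _ _).1 (h ⟨0, Pi.single i 1, 0⟩)
  · simpa using ((mul_comm_iff _ _).1 (h ⟨Pi.single i 1, 0, 0⟩)).symm
  · simp [mul_comm_iff, h.1, h.2]

theorem card_center : Nat.card (center (Heis n R)) = Nat.card R :=
  Nat.card_congr
    { toFun := fun x => x.1.c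
      invFun := fun c => ⟨⟨0, 0, c⟩, mem_center_iff'.2 ⟨rfl, rfl⟩⟩
      left_inv := fun x => Subtype.ext (Heis.ext (mem_center_iff'.1 x.2).1.symm
        (mem_center_iff'.1 x.2).2.symm rfl)
      right_inv := fun _ => rfl }

theorem commutator_le_center : _root_.commutator (Heis n R) ≤ center (Heis n R) :=
  commutator_le.2 fun x _ y _ => mem_center_iff'.2 (by
    simp [commutatorElement_def, mul_def, inv_def])

theorem not_isMulCommutative [Nontrivial R] (hn : 1 ≤ n) : ¬ IsMulCommutative (Heis n R) := fun h => by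
  have := (mul_comm_iff _ _).1
    (h.is_comm.comm (⟨0, Pi.single ⟨0, hn⟩ 1, 0⟩ : Heis n R) ⟨Pi.single ⟨0, hn⟩ 1, 0, 0⟩)
  simp at this

theorem isExtraspecial {p : ℕ} [Fact p.Prime] (hn : 1 ≤ n) : IsExtraspecial p (Heis n (ZMod p)) :=
  isExtraspecial_of_card_center (by rw [card_center, Nat.card_zmod]) (not_isMulCommutative hn)
    commutator_le_center

theorem pow_eq_one {p : ℕ} (hp : Odd p) (x : Heis n (ZMod p)) : x ^ p = 1 := by
  obtain ⟨k, hk⟩ := choose_two_dvd_of_odd hp
  rw [pow_def, hk, one_def]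
  simp [← Nat.cast_smul_eq_nsmul (ZMod p)]

/-- row vector `(0, b, 0)` -/
def rowv (b : Fin n → R) : Fin (n + 2) → R := Fin.cons 0 (Fin.snoc b 0)

/-- column vector `(c, a, 0)` -/
def colv (a : Fin n → R) (c : R) : Fin (n + 2) → R := Fin.cons c (Fin.snoc a 0)

theorem rowv_add (b b' : Fin n → R) : rowv (b + b') = rowv b + rowv b' := by
  ext i
  refine Fin.cases ?_ (fun i => Fin.lastCases ?_ (fun i => ?_) i) i <;> simp [rowv]

theorem colv_add (a a' : Fin n → R) (c c' t : R) :
    colv (a + a') (c + c' + t) = colv a c + colv a' c' + t • Pi.single 0 1 := by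
  ext i
  refine Fin.cases ?_ (fun i => Fin.lastCases ?_ (fun i => ?_) i) i <;> simp [colv]

theorem rowv_dot_colv (a b : Fin n → R) (c : R) : rowv b ⬝ᵥ colv a c = b ⬝ᵥ a := by
  rw [dotProduct, Fin.sum_univ_succ, Fin.sum_univ_castSucc]
  simp [rowv, colv, dotProduct]

/-- The unitriangular representation of the Heisenberg group. -/
def toMatrix : Heis n R →* Matrix (Fin (n + 2)) (Fin (n + 2)) R where
  toFun x := 1 + vecMulVec (Pi.single 0 1) (rowv x.b) +
    vecMulVec (colv x.a x.c) (Pi.single (Fin.last (n + 1)) 1)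
  map_one' := by
    have h1 : rowv (0 : Fin n → R) = 0 := by
      ext i
      refine Fin.cases ?_ (fun i => Fin.lastCases ?_ (fun i => ?_) i) i <;> simp [rowv]
    have h2 : colv (0 : Fin n → R) 0 = 0 := h1
    simp [one_def, h1, h2]
  map_mul' x y := by
    have h1 : rowv x.b ⬝ᵥ Pi.single 0 1 = 0 := by simp [rowv]
    have h2 : (Pi.single (Fin.last (n + 1)) 1 : Fin (n + 2) → R) ⬝ᵥ Pi.single 0 1 = 0 := by
      simp
    have h3 : (Pi.single (Fin.last (n + 1)) 1 : Fin (n + 2) → R) ⬝ᵥ colv y.a y.c = 0 := by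
      rw [single_one_dotProduct, ← Fin.succ_last]
      simp [colv]
    simp only [mul_def, rowv_add, colv_add, add_mul, mul_add, one_mul, mul_one,
      vecMulVec_mul_vecMulVec, h1, h2, h3, rowv_dot_colv, zero_smul, vecMulVec_zero, add_zero,
      vecMulVec_add, add_vecMulVec, smul_vecMulVec, vecMulVec_smul]
    abel

theorem toMatrix_injective : Function.Injective (toMatrix : Heis n R →* _) := by
  rw [injective_iff_map_eq_one]
  intro x h
  have h1 : vecMulVec (Pi.single 0 1) (rowv x.b) +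
      vecMulVec (colv x.a x.c) (Pi.single (Fin.last (n + 1)) 1) = 0 := by
    rw [← add_eq_left (a := (1 : Matrix _ _ R)), ← add_assoc]
    exact h
  refine Heis.ext (funext fun i => ?_) (funext fun i => ?_) ?_
  · simpa [vecMulVec_apply, colv, one_def] using congrFun (congrFun h1 i.castSucc.succ) (Fin.last _)
  · have := congrFun (congrFun h1 0) i.castSucc.succ
    rw [← Fin.succ_last] at this
    simpa [vecMulVec_apply, rowv, Pi.single_apply, Fin.castSucc_ne_last, one_def] using this
  · have := congrFun (congrFun h1 0) (Fin.last _)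
    rw [← Fin.succ_last] at this
    simpa [vecMulVec_apply, rowv, colv, one_def] using this

end Heis

end Cfsg.Agent.GT.PG
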