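import Mathlib
import Cfsg.Prelude.Def_DStar
import Cfsg.Agent.GT.ThompsonOffender
import Cfsg.Agent.GT.ThompsonFactor
import Cfsg.Agent.Loc.CFKseq

/-!
# The subgroup `D*(S)` of Glauberman and Solomon, and Thompson's commutator lemma
-/

set_option autoImplicit false

namespace Cfsg.Agent.GT

open Subgroup
open scoped commutatorElement

variable {G : Type*} [Group G] {A B P : Subgroup G}

theorem th_class_two_sup (hA : IsMulCommutative A) (hB : IsMulCommutative B)
    (h1 : ⁅A, B⁆ ≤ centralizer (A : Set G)) (h2 : ⁅A, B⁆ ≤ centralizer (B : Set G)) :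
    ⁅⁅A ⊔ B, A ⊔ B⁆, A ⊔ B⁆ = ⊥ := by
  have hn : A ⊔ B ≤ normalizer ((centralizer ((A ⊔ B : Subgroup G) : Set G) : Subgroup G) : Set G) :=
    CopAct.le_normalizer_centralizer le_normalizer
  have h3 : ⁅A, B⁆ ≤ centralizer ((A ⊔ B : Subgroup G) : Set G) := by
    rw [centralizer_sup]; exact le_inf h1 h2
  rw [commutator_eq_bot_iff_le_centralizer]
  refine commutator_sup_le hn ?_ ?_ <;> rw [commutator_comm] <;> refine commutator_sup_le hn ?_ ?_
  · exact (commutator_self_eq_bot_iff.2 hA).le.trans bot_le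
  · rwa [commutator_comm]
  · exact h3
  · exact (commutator_self_eq_bot_iff.2 hB).le.trans bot_le

/-- The family behind `D*(P)`, inside `G`. -/
def dsFam (P : Subgroup G) : Set (Subgroup G) :=
  {A | A ≤ P ∧ IsMulCommutative A ∧ ∀ x ∈ P,
    ⁅⁅A ⊔ zpowers x, A ⊔ zpowers x⁆, A ⊔ zpowers x⁆ = ⊥ → x ∈ centralizer (A : Set G)}

/-- `D*(P)` inside `G`. -/
def dsOf (P : Subgroup G) : Subgroup G := sSup (dsFam P)

theorem dsFam_top : dsFam (⊤ : Subgroup G) = dStarFamily G := by
  ext A
  simp only [dsFam, dStarFamily, le_top, mem_top, true_and, forall_true_left, Set.mem_ofPred_eq]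
  rfl

theorem dsOf_top : dsOf (⊤ : Subgroup G) = dStar G := by rw [dsOf, dsFam_top]; rfl

theorem le_dsOf (h : A ∈ dsFam P) : A ≤ dsOf P := le_sSup h

theorem dsOf_le (P : Subgroup G) : dsOf P ≤ P := sSup_le fun _ h => h.1

theorem mem_dsFam_of_le (h : A ∈ dsFam P) {Q : Subgroup G} (h1 : A ≤ Q) (h2 : Q ≤ P) :
    A ∈ dsFam Q := ⟨h1, h.2.1, fun x hx => h.2.2 x (h2 hx)⟩

theorem map_mem_dsFam_iff {H : Type*} [Group H] {f : G →* H} (hf : Function.Injective f) :
    A.map f ∈ dsFam (P.map f) ↔ A ∈ dsFam P := by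
  have key : ∀ x : G, (⁅⁅A.map f ⊔ zpowers (f x), A.map f ⊔ zpowers (f x)⁆, A.map f ⊔ zpowers (f x)⁆
      = ⊥ → f x ∈ centralizer (A.map f : Set H)) ↔
      (⁅⁅A ⊔ zpowers x, A ⊔ zpowers x⁆, A ⊔ zpowers x⁆ = ⊥ → x ∈ centralizer (A : Set G)) := by
    intro x
    rw [← MonoidHom.map_zpowers, ← Subgroup.map_sup, ← map_commutator, ← map_commutator,
      map_eq_bot_iff_of_injective _ hf]
    refine imp_congr_right fun _ => ⟨fun h a ha => hf ?_, ?_⟩
    · simpa using h _ (mem_map_of_mem f ha)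
    · rintro h _ ⟨a, ha, rfl⟩
      rw [← map_mul, h a ha, map_mul]
  refine and_congr (map_le_map_iff_of_injective hf) (and_congr
    ⟨th_comm_of_map f (th_inf_ker_of_injective f hf A) le_rfl, th_comm_map f⟩
    ⟨fun h x hx => (key x).1 (h _ (mem_map_of_mem f hx)), ?_⟩)
  rintro h _ ⟨x, hx, rfl⟩
  exact (key x).2 (h x hx)

theorem dsOf_map {H : Type*} [Group H] {f : G →* H} (hf : Function.Injective f) (P : Subgroup G) :
    dsOf (P.map f) = (dsOf P).map f := by
  refine le_antisymm (sSup_le fun A hA => ?_) (map_le_iff_le_comap.2 (sSup_le fun A hA =>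
    map_le_iff_le_comap.1 (le_dsOf ((map_mem_dsFam_iff hf).2 hA))))
  obtain ⟨A, rfl⟩ : ∃ A₀ : Subgroup G, A₀.map f = A :=
    ⟨_, map_comap_eq_self (hA.1.trans (map_le_range f P))⟩
  exact map_mono (le_dsOf ((map_mem_dsFam_iff hf).1 hA))

theorem dStarOf_eq (P : Subgroup G) : dStarOf P = dsOf P := by
  rw [dStarOf, ← dsOf_top, ← dsOf_map P.subtype_injective, th_map_top_subtype]

theorem center_mem_dsFam (P : Subgroup G) : P ⊓ centralizer (P : Set G) ∈ dsFam P :=
  ⟨inf_le_left, th_center_comm P, fun x hx _ _ ha => (ha.2 x hx).symm⟩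

theorem normalizer_le_normalizer_dsOf (P : Subgroup G) :
    normalizer (P : Set G) ≤ normalizer (dsOf P : Set G) := fun g hg => by
  rw [mem_normalizer_iff_map_conj_eq] at hg ⊢
  exact (dsOf_map (MulAut.conj g).injective P).symm.trans (congrArg dsOf hg)

/-- A quadratic element on an abelian member of the family centralizes it. -/
theorem mem_centralizer_of_mem_dsFam (h : A ∈ dsFam P) {x : G} (hx : x ∈ P)
    (h1 : ⁅A, zpowers x⁆ ≤ centralizer (A : Set G))
    (h2 : ⁅A, zpowers x⁆ ≤ centralizer (zpowers x : Set G)) : x ∈ centralizer (A : Set G) :=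
  h.2.2 x hx (th_class_two_sup h.2.1 inferInstance h1 h2)

variable [Finite G] {p : ℕ} [hp : Fact p.Prime]

/-- Members of the family centralize the abelian subgroups they normalize. -/
theorem le_centralizer_of_mem_dsFam (hP : IsPGroup p P) (h : A ∈ dsFam P) {M : Subgroup G}
    (hM : M ≤ P) (hc : IsMulCommutative M) (hn : A ≤ normalizer (M : Set G)) :
    M ≤ centralizer (A : Set G) := by
  by_contra hne
  obtain ⟨n, h1⟩ := PG.exists_iterCommutator_eq_bot_of_isPGroup (hP.to_le hM) (hP.to_le h.1) hn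
  obtain ⟨x, hx, h2, h3⟩ := PG.exists_notMem_commutator_mem_of_iterCommutator h1 hn hne
  have h4 : ⁅zpowers x, A⁆ ≤ M ⊓ centralizer (A : Set G) := by
    refine Loc.CF.commutator_zpowers_le (CopAct.le_normalizer_of_isMulCommutative hc
      (zpowers_le.2 hx) inf_le_left (mem_zpowers x)) fun a ha => ⟨?_, h3 a ha⟩
    exact CopAct.commutator_le_of_le_normalizer hn (commutator_mem_commutator hx ha)
  refine h2 (mem_centralizer_of_mem_dsFam h (hM hx) ?_ ?_) <;> rw [commutator_comm]
  · exact h4.trans inf_le_right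
  · exact (h4.trans inf_le_left).trans ((le_centralizer_iff_isMulCommutative.2 hc).trans
      (centralizer_le (zpowers_le.2 hx)))

theorem dsOf_le_centralizer (hP : IsPGroup p P) {M : Subgroup G} (hM : M ≤ P)
    (hc : IsMulCommutative M) (hn : P ≤ normalizer (M : Set G)) :
    dsOf P ≤ centralizer (M : Set G) :=
  sSup_le fun _ h => le_centralizer_iff.1 (le_centralizer_of_mem_dsFam hP h hM hc (h.1.trans hn))

theorem dsOf_comm (hP : IsPGroup p P) : IsMulCommutative (dsOf P) := by
  have := hP.isNilpotent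
  obtain ⟨N, -, hN, h1⟩ := PG.exists_self_centralizing_normal (⊥ : Subgroup P) inferInstance
  have hc : IsMulCommutative N := le_centralizer_iff_isMulCommutative.1 h1.ge
  have h2 := dsOf_le_centralizer hP (map_subtype_le N) (th_comm_map _ hc)
    (CopAct.le_normalizer_map_subtype_of_normal N)
  refine th_comm_mono (th_comm_map P.subtype hc) ?_
  rw [← h1, map_centralizer_subtype_eq]
  exact le_inf (dsOf_le P) h2

theorem dsOf_mem (hP : IsPGroup p P) : dsOf P ∈ dsFam P := by
  refine ⟨dsOf_le P, dsOf_comm hP, fun x hx h => zpowers_le.1 (le_centralizer_iff.1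
    (sSup_le fun A hA => le_centralizer_iff.1 (zpowers_le.2 (hA.2.2 x hx (eq_bot_iff.2 ?_)))))⟩
  have h1 : A ⊔ zpowers x ≤ dsOf P ⊔ zpowers x := sup_le_sup_right (le_dsOf hA) _
  exact (commutator_mono (commutator_mono h1 h1) h1).trans h.le

theorem dsOf_le_thZ (hP : IsPGroup p P) : dsOf P ≤ thZ 0 P := by
  rw [thZ_zero_eq]
  refine le_inf (dsOf_le P) (le_centralizer_iff.1 (thJ_le_iff.2 fun A hA => ?_))
  by_contra hne
  have hn : P ≤ normalizer (dsOf P : Set G) := le_normalizer.trans (normalizer_le_normalizer_dsOf P)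
  obtain ⟨A', hA', -, h1, h2⟩ := abFam_exists_normalized (Or.inl rfl) hP le_rfl (dsOf_le P) hn
    ((dsOf_le P).trans le_normalizer) (fun _ => dsOf_comm hP) hA
    ((commutator_self_eq_bot_iff.2 (dsOf_comm hP)).le.trans bot_le)
    (fun h => hne (le_centralizer_iff.1 (h.trans
      (le_centralizer_iff_isMulCommutative.2 (abFam_comm hA)))))
  refine h1 (le_of_abFam_of_centralizer hA' (dsOf_le P) ?_ (by simp))
  exact le_centralizer_iff.1 (le_centralizer_of_mem_dsFam hP (dsOf_mem hP) (abFam_le hA')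
    (abFam_comm hA') h2)

/-- The `D*`-theorem. -/
theorem dsOf_normal (S : Sylow p G) (hc : centralizer (pCore p G : Set G) ≤ pCore p G)
    (hst : ThStable p (S : Subgroup G)) : (dsOf (S : Subgroup G)).Normal := by
  set D := dsOf (S : Subgroup G) with hD
  have hDm : D ∈ dsFam (S : Subgroup G) := dsOf_mem S.2
  have hn : (S : Subgroup G) ≤ normalizer (D : Set G) :=
    le_normalizer.trans (normalizer_le_normalizer_dsOf _)
  have hDQ : D ≤ pCore p G := hst.le_pCore hc hDm.1 hDm.2.1 ((pCore_le_sylow S).trans hn)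
  have hEn : (dsOf (pCore p G)).Normal :=
    normalizer_eq_top_iff.1 (eq_top_iff.2 (th_le_norm.trans (normalizer_le_normalizer_dsOf _)))
  set W := normalClosure (D : Set G) with hW
  have hWE : W ≤ dsOf (pCore p G) :=
    normalClosure_le_normal (le_dsOf (mem_dsFam_of_le hDm hDQ (pCore_le_sylow S)))
  have hWS : W ≤ S := hWE.trans ((dsOf_le _).trans (pCore_le_sylow S))
  set R := (S : Subgroup G) ⊓ thOp p W with hR
  have hDR : D ∈ dsFam R := mem_dsFam_of_le hDm
    (le_inf hDm.1 (hDQ.trans (pCore_le_thOp W))) inf_le_left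
  have hWm : W ∈ dsFam (S : Subgroup G) := by
    refine ⟨hWS, th_comm_mono (dsOf_comm (isPGroup_pCore p)) hWE, fun x hx h => ?_⟩
    have hxR : x ∈ R := ⟨hx, hst W hWS x hx (eq_bot_iff.2 ((commutator_mono
      (commutator_mono le_sup_left le_sup_right) le_sup_right).trans h.le))⟩
    refine zpowers_le.1 (le_centralizer_iff.1 ?_)
    rw [hW, normalClosure_eq_iSup_map_conj]
    refine iSup_le fun g => ?_
    obtain ⟨m, hm, k, hk, hg⟩ := Tr.frattini_sylowIn (M := thOp p W) (T := R)
      (S.2.to_le inf_le_left) inf_le_right (Tr.not_dvd_relIndex_sylow_inf_normal S _)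
      (n := g) (th_le_norm (mem_top g))
    obtain ⟨c, hc, t, ht, rfl⟩ := th_exists_centralizer_mul (B := W) inf_le_right
      (Tr.not_dvd_relIndex_sylow_inf_normal S (thOp p W)) (fun y hy hyo => by
        obtain ⟨j, hj⟩ := exists_pow_mem_of_mem_thOp hy
        exact Tr.mem_of_pow_mem_of_coprime hj (hyo.pow_right j)) hm
    have h1 : t * k ∈ normalizer (R : Set G) := mul_mem (le_normalizer ht) hk
    have h2 : D.map (MulAut.conj (t * k)).toMonoidHom ∈ dsFam R := by
      rw [← Tr.map_conj_eq_of_mem h1]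
      exact (map_mem_dsFam_iff (MulAut.conj (t * k)).injective).2 hDR
    have h3 : D.map (MulAut.conj (t * k)).toMonoidHom ≤ W :=
      map_conj_le_of_normal le_normalClosure _
    have h4 : D.map (MulAut.conj g).toMonoidHom = D.map (MulAut.conj (t * k)).toMonoidHom := by
      rw [hg, mul_assoc, ← Tr.map_conj_map_conj]
      exact Tr.map_conj_eq_of_mem (centralizer_le_normalizer _ (centralizer_le h3 hc.2))
    rw [h4]
    refine le_centralizer_iff.1 (zpowers_le.2 (h2.2.2 x hxR (eq_bot_iff.2 ?_)))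
    have h5 := sup_le_sup_right h3 (zpowers x)
    exact (commutator_mono (commutator_mono h5 h5) h5).trans h.le
  rw [le_antisymm (le_normalClosure : D ≤ W) (le_dsOf hWm)]
  infer_instance

omit hp in
/-- Thompson's lemma: if `M = [b, A]` is abelian then so is `M C_A(M)`, of order at least `|A|`. -/
theorem thompson_commElt (hA : IsMulCommutative A) {b : G}
    (hM : IsMulCommutative (thCommElt b A)) :
    IsMulCommutative ↥(thCommElt b A ⊔ (A ⊓ centralizer (thCommElt b A : Set G))) ∧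
      Nat.card A ≤ Nat.card ↥(thCommElt b A ⊔ (A ⊓ centralizer (thCommElt b A : Set G))) := by
  set M := thCommElt b A with hMdef
  set C := A ⊓ centralizer (M : Set G) with hC
  set Y := M ⊓ centralizer (A : Set G) with hY
  refine ⟨th_comm_sup hM (th_comm_mono hA inf_le_left) inf_le_right, ?_⟩
  have hcA := th_comm_iff.1 hA
  have hcM := th_comm_iff.1 hM
  let g : G → G := fun a => b⁻¹ * a * b * a⁻¹
  have hg : ∀ a ∈ A, g a ∈ M := fun a ha => mem_thCommElt ha
  have e1 : ∀ a ∈ A, ∀ c ∈ A, c * g a * c⁻¹ = (g c)⁻¹ * g (c * a) := fun a ha c hc => by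
    simp only [g]
    rw [show (c * a)⁻¹ = (a * c)⁻¹ by rw [hcA a ha c hc]]
    rw [mul_inv_rev a c, ← hcA _ (inv_mem ha) _ (inv_mem hc)]
    group
  have key : ∀ d ∈ A, g d ∈ centralizer (A : Set G) → d ∈ C := fun d hd h => by
    refine ⟨hd, ?_⟩
    rw [hMdef, thCommElt, SetLike.mem_coe, centralizer_closure]
    rintro _ ⟨a, ha, rfl⟩
    have h1 := e1 d hd a ha
    have h2 := e1 a ha d hd
    rw [h a ha, mul_inv_cancel_right, eq_inv_mul_iff_mul_eq] at h1
    rw [hcA d hd a ha, ← h1, hcM _ (hg a ha) _ (hg d hd), inv_mul_cancel_left,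
      mul_inv_eq_iff_eq_mul] at h2
    exact h2.symm
  have h1 : C.relIndex A ≤ Y.relIndex M := by
    let f : A ⧸ C.subgroupOf A → M ⧸ Y.subgroupOf M := fun q =>
      QuotientGroup.mk ⟨g q.out, hg _ q.out.2⟩
    refine Nat.card_le_card_of_injective f fun q r h => ?_
    rw [← q.out_eq, ← r.out_eq]
    apply QuotientGroup.eq.2
    have h2 : (g q.out)⁻¹ * g r.out ∈ Y := mem_subgroupOf.1 (QuotientGroup.eq.1 h)
    have ha : (q.out : G)⁻¹ * r.out ∈ A := A.mul_mem (A.inv_mem q.out.2) r.out.2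
    refine key ((q.out : G)⁻¹ * r.out) ha ?_
    have h3 := e1 _ ha _ q.out.2
    rw [mul_inv_cancel_left] at h3
    rw [show g ((q.out : G)⁻¹ * r.out) = (q.out : G)⁻¹ * ((g q.out)⁻¹ * g r.out) * q.out by
      rw [← h3]; group, h2.2 _ (A.inv_mem q.out.2), inv_mul_cancel_right]
    exact h2.2
  have h2 := PG.relIndex_mul_card (inf_le_left : C ≤ A)
  have h3 := PG.relIndex_mul_card (inf_le_left : Y ≤ M)
  have h4 := card_sup_mul_card_inf_of_le_normalizer (H := M) (N := C)
    (CopAct.le_normalizer_of_le_centralizer (le_centralizer_iff.1 inf_le_right))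
  have h5 : Nat.card ↥(M ⊓ C) ≤ Nat.card Y := card_le_of_le (inf_le_inf_left _
    (inf_le_left.trans (le_centralizer_iff_isMulCommutative.2 hA)))
  refine Nat.le_of_mul_le_mul_right (c := Nat.card Y) ?_ Nat.card_pos
  calc Nat.card A * Nat.card Y ≤ Y.relIndex M * Nat.card C * Nat.card Y := by
        rw [← h2]; gcongr
    _ = Nat.card ↥(M ⊔ C) * Nat.card ↥(M ⊓ C) := by rw [h4, ← h3]; ring
    _ ≤ _ := by gcongr

end Cfsg.Agent.GT
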