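import Mathlib
import Cfsg.Agent.GT.ThompsonZJ
import Cfsg.Agent.GT.CoprimeAbelian
import Cfsg.Agent.GT.CoprimeProd
import Cfsg.Agent.GT.TransferSylow
import Cfsg.Agent.GT.TransferEval
import Cfsg.Agent.GT.Zipper
import Cfsg.Agent.GT.PStable
import Cfsg.Agent.Loc.CFSection
import Cfsg.Agent.Inv.SmallTwo
import Cfsg.Agent.Inv.Classes

/-!
# Sections isomorphic to the symmetric group of degree four
-/

set_option autoImplicit false

namespace Cfsg.Agent.GT

open Subgroup
open scoped commutatorElement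

variable {G : Type*} [Group G]

theorem th_isPGroup_zpowers {p k : ℕ} {x : G} (h : x ^ p ^ k = 1) : IsPGroup p (zpowers x) := by
  rintro ⟨_, n, rfl⟩
  exact ⟨k, Subtype.ext (by
    rw [coe_pow, ← zpow_natCast, ← zpow_mul, mul_comm, zpow_mul, zpow_natCast, h, one_zpow]; rfl)⟩

theorem th_commutator_sup_centralizer (V A : Subgroup G) [V.Normal] :
    ⁅V, A ⊔ centralizer (V : Set G)⁆ = ⁅V, A⁆ := by
  refine le_antisymm (commutator_le.2 fun v hv y hy => ?_) (commutator_mono le_rfl le_sup_left)
  obtain ⟨a, ha, c, hc, rfl⟩ := mem_sup_of_normal_right.1 hy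
  have : ⁅v, a * c⁆ = ⁅v, a⁆ := by
    simp only [commutatorElement_def, mul_inv_rev]
    have h1 := hc v⁻¹ (inv_mem hv)
    rw [show v * (a * c) * v⁻¹ * (c⁻¹ * a⁻¹) = v * a * (c * v⁻¹) * c⁻¹ * a⁻¹ by group, ← h1]
    group
  exact this ▸ commutator_mem_commutator hv ha

variable [Finite G]

/-- A normal four-group with a complement inducing a group of order six on it. -/
theorem involves_perm_four_of_compl {W K : Subgroup G} [W.Normal] (hW : Nat.card W = 4)
    (hd : W ⊓ K = ⊥) (hs : W ⊔ K = ⊤) (h6 : 6 ∣ (centralizer (W : Set G)).relIndex K) :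
    Involves (Equiv.Perm (Fin 4)) G := by
  classical
  have hc : W.IsComplement' K := isComplement'_iff_of_normal.2 ⟨hd, hs⟩
  have hi : K.index = 4 := hc.index_eq_card.trans hW
  have hq : Nat.card (G ⧸ K) = Nat.card (Fin 4) := by rw [Nat.card_fin]; exact hi
  obtain ⟨e⟩ := Finite.card_eq.1 hq
  let φ := MulAction.toPermHom G (G ⧸ K)
  have hker : φ.ker ≤ centralizer (W : Set G) ⊓ K := by
    rw [← normalCore_eq_ker]
    refine le_inf (fun k hk w hw => ?_) (normalCore_le K)
    have h1 : ⁅w, k⁆ ∈ W ⊓ K :=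
      ⟨commutator_le_left W ⊤ (commutator_mem_commutator hw (mem_top k)),
        normalCore_le K (commutator_le_right ⊤ _ (commutator_mem_commutator (mem_top w) hk))⟩
    rw [hd, mem_bot, commutatorElement_eq_one_iff_mul_comm] at h1
    exact h1
  have h1 : 24 ∣ Nat.card φ.range := by
    rw [← index_ker]
    refine Dvd.dvd.trans ?_ (index_dvd_of_le hker)
    rw [← relIndex_mul_index (inf_le_right : centralizer (W : Set G) ⊓ K ≤ K), inf_relIndex_right,
      hi]
    exact Nat.mul_dvd_mul_right h6 4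
  have h2 : Nat.card (Equiv.Perm (G ⧸ K)) = 24 := by
    rw [Nat.card_perm, hq, Nat.card_fin]; rfl
  have h3 : φ.range = ⊤ :=
    eq_top_of_le_card _ (h2 ▸ Nat.le_of_dvd Nat.card_pos h1)
  exact Loc.CF.involves_of_surjective ((e.permCongrHom : _ →* _).comp φ)
    (e.permCongrHom.surjective.comp (MonoidHom.range_eq_top.1 h3))

/-- A normal four-group on which the group induces a group of order six. -/
theorem involves_perm_four_of_normal {W : Subgroup G} [W.Normal] (hW : Nat.card W = 4)
    (h6 : (centralizer (W : Set G)).index = 6) : Involves (Equiv.Perm (Fin 4)) G := by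
  have : Fact (Nat.Prime 3) := ⟨Nat.prime_three⟩
  obtain ⟨P⟩ : Nonempty (Sylow 3 G) := inferInstance
  set C := centralizer (W : Set G) with hC
  have h1 : ((P : Subgroup G) ⊔ C).index ∣ 2 := by
    have h2 : ((P : Subgroup G) ⊔ C).index ∣ 3 * 2 :=
      (index_dvd_of_le le_sup_right).trans (by rw [h6])
    refine Nat.Coprime.dvd_of_dvd_mul_left ?_ h2
    exact ((Nat.prime_three.coprime_iff_not_dvd).2 fun h =>
      P.not_dvd_index (h.trans (index_dvd_of_le le_sup_left))).symm
  have hT : ((P : Subgroup G) ⊔ C).Normal := by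
    rcases (Nat.dvd_prime Nat.prime_two).1 h1 with h | h
    · rw [index_eq_one.1 h]; infer_instance
    · exact normal_of_index_eq_two h
  set K := normalizer ((P : Subgroup G) : Set G) with hK
  have hKC : K ⊔ C = ⊤ := eq_top_iff.2 fun g _ => by
    obtain ⟨m, hm, k, hk, rfl⟩ := Tr.frattini_sylowIn (M := (P : Subgroup G) ⊔ C) P.2 le_sup_left
      (fun h => P.not_dvd_index (h.trans (relIndex_dvd_index_of_le le_sup_left)))
      (le_normalizer_of_normal (mem_top g))
    exact mul_mem (sup_le_sup_right le_normalizer C hm) (mem_sup_left hk)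
  have hPC : ¬ (P : Subgroup G) ≤ C := fun h => by
    rw [sup_eq_right.2 h, h6] at h1
    exact absurd h1 (by decide)
  have hd : W ⊓ K = ⊥ := by
    have hcop : (Nat.card (P : Subgroup G)).Coprime (Nat.card W) := by
      refine CopAct.coprime_of_isPGroup_left P.2 ?_
      rw [hW]; decide
    rw [hK, CopAct.inf_normalizer_eq_inf_centralizer le_normalizer_of_normal
      (CopAct.inf_eq_bot_of_coprime hcop)]
    have h2 := card_modEq_card_inf_centralizer (L := W) P.2 le_normalizer_of_normal
    have h3 : Nat.card ↥(W ⊓ centralizer ((P : Subgroup G) : Set G)) ∣ 2 ^ 2 :=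
      (card_dvd_of_le inf_le_left).trans (by rw [hW]; rfl)
    obtain ⟨i, hi, h4⟩ := (Nat.dvd_prime_pow Nat.prime_two).1 h3
    rw [hW, h4] at h2
    interval_cases i
    · exact card_eq_one.1 h4
    · exact absurd h2 (by decide)
    · refine absurd (le_centralizer_iff.1 (inf_eq_left.1 ?_)) hPC
      exact eq_of_le_of_card_ge inf_le_left (by rw [hW, h4]; rfl)
  have hn : (W.subgroupOf (W ⊔ K)).Normal := inferInstance
  refine Loc.CF.involves_trans (involves_perm_four_of_compl (W := W.subgroupOf (W ⊔ K))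
    (K := K.subgroupOf (W ⊔ K)) ?_ ?_ ?_ ?_) (Loc.CF.involves_subgroup (W ⊔ K))
  · rw [← hW]
    exact Nat.card_congr (subgroupOfEquivOfLe le_sup_left).toEquiv
  · rw [subgroupOf, subgroupOf, ← comap_inf, hd]
    exact bot_subgroupOf _
  · rw [← subgroupOf_sup le_sup_left le_sup_right, subgroupOf_self]
  · rw [centralizer_subgroupOf_of_le le_sup_left, relIndex_subgroupOf le_sup_right,
      ← relIndex_sup_left K C, sup_comm, hKC, relIndex_top_right, h6]

/-- A four-group normalized by an element of odd order acting nontrivially and an element of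
order two modulo the centralizer. -/
theorem involves_perm_four_of_klein {W : Subgroup G} (hW : IsKleinFour W) {w b : G}
    (hw : w ∈ normalizer (W : Set G)) (hb : b ∈ normalizer (W : Set G))
    (hwo : (orderOf w).Coprime 2) (hwc : w ∉ centralizer (W : Set G))
    (hb2 : b ^ 2 ∈ centralizer (W : Set G)) (hbc : b ∉ centralizer (W : Set G)) :
    Involves (Equiv.Perm (Fin 4)) G := by
  set N := normalizer (W : Set G) with hN
  have hn : (W.subgroupOf N).Normal := normal_in_normalizer
  refine Loc.CF.involves_trans (involves_perm_four_of_normal (W := W.subgroupOf N) ?_ ?_)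
    (Loc.CF.involves_subgroup N)
  · rw [← hW.card_four]
    exact Nat.card_congr (subgroupOfEquivOfLe le_normalizer).toEquiv
  have h6 : (centralizer (W.subgroupOf N : Set N)).index ∣ 6 := by
    rw [centralizer_subgroupOf_of_le le_normalizer]
    exact Inv.Fz.klein_relIndex_dvd hW
  set C := centralizer (W.subgroupOf N : Set N) with hC
  have hmem : ∀ x : N, (x : N ⧸ C) = 1 ↔ (x : G) ∈ centralizer (W : Set G) := fun x => by
    rw [QuotientGroup.eq_one_iff, hC, centralizer_subgroupOf_of_le le_normalizer, mem_subgroupOf]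
  refine Nat.dvd_antisymm h6 (Nat.Coprime.mul_dvd_of_dvd_of_dvd (m := 2) (n := 3) (by decide) ?_ ?_)
  · have : orderOf ((⟨b, hb⟩ : N) : N ⧸ C) = 2 :=
      orderOf_eq_prime ((hmem ((⟨b, hb⟩ : N) ^ 2)).2 hb2) fun h => hbc ((hmem _).1 h)
    exact this ▸ orderOf_dvd_natCard _
  · have h1 : orderOf ((⟨w, hw⟩ : N) : N ⧸ C) ∣ C.index := orderOf_dvd_natCard _
    have h2 : orderOf ((⟨w, hw⟩ : N) : N ⧸ C) ∣ orderOf w := by
      rw [← Subgroup.orderOf_mk w hw]
      exact orderOf_map_dvd (QuotientGroup.mk' C) _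
    have h3 : orderOf ((⟨w, hw⟩ : N) : N ⧸ C) ∣ 2 * 3 := h1.trans h6
    rcases (Nat.dvd_prime Nat.prime_three).1
      ((hwo.coprime_dvd_left h2).dvd_of_dvd_mul_left h3) with h | h
    · exact absurd ((hmem _).1 (orderOf_eq_one_iff.1 h)) hwc
    · exact h ▸ h1

/-- A transvection on an abelian normal `2`-subgroup outside `O_2(G mod C(V))` forces a section
`S₄`. -/
theorem involves_perm_four_of_transvection {V : Subgroup G} [V.Normal] (hV : IsPGroup 2 V)
    (hVc : IsMulCommutative V) {b : G} (hb2 : b ^ 2 ∈ centralizer (V : Set G))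
    (hb : Nat.card V ≤ 2 * Nat.card ↥(V ⊓ centralizer (zpowers b : Set G))) (hna : b ∉ thOp 2 V) :
    Involves (Equiv.Perm (Fin 4)) G := by
  set C := centralizer (V : Set G) with hC
  obtain ⟨g, hg⟩ := not_forall.1 fun h => hna (mem_thOp_iff.2 (baer_suzuki_elem h))
  obtain ⟨g, rfl⟩ := QuotientGroup.mk_surjective g
  set c := g * b * g⁻¹ with hc
  have hb2' : (b : G ⧸ C) * b = 1 := by
    rw [← QuotientGroup.mk_mul, ← sq]; exact (QuotientGroup.eq_one_iff _).2 hb2
  have hc2' : (c : G ⧸ C) * c = 1 := by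
    simp only [hc, QuotientGroup.mk_mul, QuotientGroup.mk_inv]
    rw [conj_mul, hb2', mul_one, mul_inv_cancel]
  have hinv : (b : G ⧸ C) * ((b * c : G) : G ⧸ C) * (b : G ⧸ C)⁻¹ = ((b * c : G) : G ⧸ C)⁻¹ := by
    rw [QuotientGroup.mk_mul, ← mul_assoc, hb2', one_mul, mul_inv_rev,
      inv_eq_of_mul_eq_one_left hc2']
  obtain ⟨k, hk⟩ := exists_pow_coprime_orderOf (p := 2) (b * c)
  set w := (b * c) ^ 2 ^ k with hw
  have hwinv : (b : G ⧸ C) * (w : G ⧸ C) * (b : G ⧸ C)⁻¹ = (w : G ⧸ C)⁻¹ := by
    rw [hw, QuotientGroup.mk_pow, ← conj_pow, hinv, inv_pow]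
  have hwc : w ∉ C := fun h => by
    apply hg
    have h1 : IsPGroup 2 (zpowers ((b * c : G) : G ⧸ C)) :=
      th_isPGroup_zpowers (k := k) ((QuotientGroup.eq_one_iff w).2 h)
    have h2 : IsPGroup 2 (zpowers (b : G ⧸ C)) :=
      th_isPGroup_zpowers (k := 1) (by rw [pow_one, sq, hb2'])
    refine (h1.to_sup_of_normal_left' h2 (zpowers_le.2 (mem_normalizer_of_map_conj_le ?_))).to_le ?_
    · rw [map_conj_zpowers, hinv, zpowers_inv]
    · rw [closure_le]
      rintro _ (rfl | rfl)
      · exact mem_sup_right (mem_zpowers _)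
      · have : (g : G ⧸ C) * b * (g : G ⧸ C)⁻¹ = (b : G ⧸ C)⁻¹ * ((b * c : G) : G ⧸ C) := by
          simp [hc]
        rw [this]
        exact mul_mem (mem_sup_right (inv_mem (mem_zpowers _))) (mem_sup_left (mem_zpowers _))
  have hwb : b * w * b⁻¹ * w ∈ C := by
    rw [← QuotientGroup.eq_one_iff]
    simp only [QuotientGroup.mk_mul, QuotientGroup.mk_inv, hwinv, inv_mul_cancel]
  have hcop : (Nat.card (zpowers w)).Coprime (Nat.card V) :=
    CopAct.coprime_of_isPGroup_right (by rwa [Nat.card_zpowers]) hV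
  set W := ⁅V, zpowers w⁆ with hW
  have hWV : W ≤ V := commutator_le_left _ _
  have h1 := CopAct.card_eq_card_commutator_mul_card_centralizer hVc le_normalizer_of_normal hcop
  have h2 := CopAct.commutator_inf_centralizer_eq_bot hVc le_normalizer_of_normal hcop
  have h3 : Nat.card W ≤ 4 := by
    have h4 : Nat.card ↥(V ⊓ centralizer (zpowers c : Set G)) =
        Nat.card ↥(V ⊓ centralizer (zpowers b : Set G)) := by
      rw [hc, ← map_conj_zpowers, centralizer_map_conj,
        ← card_map_conj (V ⊓ centralizer (zpowers b : Set G)) g, map_conj_inf,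
        map_conj_eq_of_normal V]
    have h5 := CopAct.card_mul_card_le_of_le (K := V)
      (inf_le_left : V ⊓ centralizer (zpowers b : Set G) ≤ V)
      (inf_le_left : V ⊓ centralizer (zpowers c : Set G) ≤ V)
    have h6 : Nat.card ↥((V ⊓ centralizer (zpowers b : Set G)) ⊓ (V ⊓ centralizer (zpowers c : Set G)))
        ≤ Nat.card ↥(V ⊓ centralizer (zpowers w : Set G)) := by
      refine card_le_of_le (le_inf (inf_le_left.trans inf_le_left) (le_centralizer_iff.1
        (zpowers_le.2 (pow_mem (mul_mem ?_ ?_) _))))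
      · exact fun v hv => (hv.1.2 b (mem_zpowers b)).symm
      · exact fun v hv => (hv.2.2 c (mem_zpowers c)).symm
    rw [h4] at h5
    have h7 : 0 < Nat.card ↥(V ⊓ centralizer (zpowers w : Set G)) := Nat.card_pos
    have h8 : 0 < Nat.card V := Nat.card_pos
    generalize Nat.card ↥((V ⊓ centralizer (zpowers b : Set G)) ⊓
      (V ⊓ centralizer (zpowers c : Set G))) = d at h5 h6
    generalize Nat.card ↥(V ⊓ centralizer (zpowers b : Set G)) = m at h5 hb
    generalize Nat.card ↥(V ⊓ centralizer (zpowers w : Set G)) = n at h1 h6 h7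
    have h9 : Nat.card V * Nat.card V ≤ Nat.card V * (4 * n) := by nlinarith
    have h10 := Nat.le_of_mul_le_mul_left h9 h8
    rw [h1] at h10
    exact Nat.le_of_mul_le_mul_right h10 h7
  have hWb : W ≠ ⊥ := fun h => hwc (CopAct.commutator_eq_bot_iff.1 h (mem_zpowers w))
  have hwN : w ∈ normalizer (W : Set G) :=
    CopAct.le_normalizer_commutator le_normalizer_of_normal le_normalizer (mem_zpowers w)
  obtain ⟨t, ht, -, ht1, ht2⟩ := th_exists_center_order (hV.to_le hWV) hWb
  have hot : orderOf t = 2 := orderOf_eq_prime ht2 ht1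
  have htw : t ≠ w * t * w⁻¹ := fun h => ht1 <| by
    have : t ∈ W ⊓ centralizer (zpowers w : Set G) := ⟨ht, by
      rw [centralizer_zpowers]
      exact mem_centralizer_singleton_iff.2 (mul_inv_eq_iff_eq_mul.1 h.symm).symm⟩
    rwa [h2, mem_bot] at this
  have ht' : w * t * w⁻¹ ∈ W := conj_mem_of_mem_normalizer hwN ht
  have hK := Inv.isKleinFour_closure_pair hot ((orderOf_conj t w).trans hot) htw
    (th_comm_iff.1 hVc _ (hWV ht) _ (hWV ht'))
  have hle : closure {t, w * t * w⁻¹} ≤ W := by
    rw [closure_le]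
    rintro _ (rfl | rfl)
    exacts [ht, ht']
  rw [eq_of_le_of_card_ge hle (hK.card_four ▸ h3)] at hK
  have hCW : C ≤ centralizer (W : Set G) := centralizer_le hWV
  have hwW : w ∉ centralizer (W : Set G) := fun h =>
    htw (by rw [← h t ht, mul_inv_cancel_right])
  refine involves_perm_four_of_klein hK hwN (mem_normalizer_of_map_conj_le ?_) hk hwW (hCW hb2)
    fun h => hwW ?_
  · rw [hW, map_conj_commutator, map_conj_eq_of_normal, map_conj_zpowers,
      ← th_commutator_sup_centralizer V (zpowers w)]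
    refine commutator_mono le_rfl (zpowers_le.2 ?_)
    rw [show b * w * b⁻¹ = b * w * b⁻¹ * w * w⁻¹ by group]
    exact mul_mem (mem_sup_right hwb) (mem_sup_left (inv_mem (mem_zpowers w)))
  · refine Tr.mem_of_pow_mem_of_coprime (n := 2) ?_ hk
    rw [show w ^ 2 = b⁻¹ * (b * w * b⁻¹ * w) * (w⁻¹ * b * w) by simp [sq, mul_assoc]]
    exact mul_mem (mul_mem (inv_mem h) (hCW hwb)) (conj_mem_of_mem_normalizer'
      (th_normalizer_le_normalizer_centralizer W hwN) h)

end Cfsg.Agent.GT
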