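import Mathlib
import Cfsg.Agent.GT.ThompsonS4
import Cfsg.Agent.GT.ThompsonFactor
import Cfsg.Agent.GT.ThompsonOffender
import Cfsg.Agent.GT.PGroupMaxClass
import Cfsg.Agent.GT.PGroupFrattini
import Cfsg.Agent.GT.Frattini
import Cfsg.Agent.Loc.CFWeak

/-!
# Glauberman's theorem on weakly closed elements and the Thompson subgroup
-/

set_option autoImplicit false

namespace Cfsg.Agent.GT

open Subgroup Loc.CF
open scoped commutatorElement

section Orbit

variable {P : Type*} [Group P] [Finite P] {p : ℕ} [Fact p.Prime] {Ω : Type*} [MulAction P Ω]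
  {A : Type*} [CommMonoid A]

/-- The product over a nontrivial orbit of a `p`-group, via subgroups of index `p`. -/
theorem th_prod_orbit_eq_one (hP : IsPGroup p P) (f : Ω → A) {ω₀ : Ω}
    (hf : ∀ M : Subgroup P, M.index = p → MulAction.stabilizer P ω₀ ≤ M → ∃ u ∉ M,
      ∀ s : Finset Ω, (∀ m ∈ M, ∀ ω ∈ s, m • ω ∈ s) →
        ∏ i ∈ Finset.range p, ∏ ω ∈ s, f (u ^ i • ω) = 1)
    (hω : MulAction.stabilizer P ω₀ ≠ ⊤) {s : Finset Ω}
    (hs : ∀ ω, ω ∈ s ↔ ω ∈ MulAction.orbit P ω₀) : ∏ ω ∈ s, f ω = 1 := by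
  classical
  obtain ⟨M, hM1, hM2⟩ := PG.exists_index_eq_prime_of_ne_top hP hω
  have := PG.normal_of_index_prime hP hM2
  obtain ⟨u, hu2, hu1⟩ := hf M hM2 hM1
  have hc : Nat.card (P ⧸ M) = p := hM2
  have hu3 : (u : P ⧸ M) ≠ 1 := fun h => hu2 ((QuotientGroup.eq_one_iff u).1 h)
  have hu4 : orderOf (u : P ⧸ M) = p := orderOf_eq_prime (hc ▸ pow_card_eq_one') hu3
  let s₀ := s.filter fun ω => ∃ a ∈ M, a • ω₀ = ω
  have key : ∏ ω ∈ s, f ω = ∏ x ∈ s₀ ×ˢ Finset.range p, f (u ^ x.2 • x.1) := by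
    refine (Finset.prod_bij (fun x _ => u ^ x.2 • x.1) ?_ ?_ ?_ fun _ _ => rfl).symm
    · intro x hx
      obtain ⟨a, -, ha⟩ := (Finset.mem_filter.1 (Finset.mem_product.1 hx).1).2
      rw [hs, ← ha, ← mul_smul]
      exact MulAction.mem_orbit _ _
    · rintro ⟨x, i⟩ hx ⟨y, j⟩ hy h
      obtain ⟨h1, hi⟩ := Finset.mem_product.1 hx
      obtain ⟨h2, hj⟩ := Finset.mem_product.1 hy
      obtain ⟨a, ha, rfl⟩ := (Finset.mem_filter.1 h1).2
      obtain ⟨b, hb, rfl⟩ := (Finset.mem_filter.1 h2).2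
      have h3 : (u ^ j * b)⁻¹ * (u ^ i * a) ∈ M := by
        refine hM1 ?_
        rw [MulAction.mem_stabilizer_iff, mul_smul, inv_smul_eq_iff, mul_smul, mul_smul]
        exact h
      have h4 : ((u : P ⧸ M)) ^ j = (u : P ⧸ M) ^ i := by
        rw [← QuotientGroup.mk_pow, ← QuotientGroup.mk_pow, ← QuotientGroup.mk_mul_of_mem _ hb,
          ← QuotientGroup.mk_mul_of_mem (u ^ i) ha]
        exact QuotientGroup.eq.2 h3
      have h5 : j = i := pow_injOn_Iio_orderOf (by simpa [hu4] using hj) (by simpa [hu4] using hi) h4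
      subst h5
      exact Prod.ext (MulAction.injective _ h) rfl
    · intro ω hω
      obtain ⟨g, rfl⟩ := (hs ω).1 hω
      have h1 : (g : P ⧸ M) ∈ zpowers (u : P ⧸ M) := mem_zpowers_of_prime_card hc hu3
      rw [mem_zpowers_iff_mem_range_orderOf, hu4, Finset.mem_image] at h1
      obtain ⟨i, hi, h2⟩ := h1
      rw [← QuotientGroup.mk_pow, QuotientGroup.eq] at h2
      refine ⟨(((u ^ i)⁻¹ * g) • ω₀, i), Finset.mem_product.2 ⟨Finset.mem_filter.2
        ⟨(hs _).2 (MulAction.mem_orbit _ _), _, h2, rfl⟩, hi⟩, ?_⟩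
      simp only [← mul_smul, mul_inv_cancel_left]
  rw [key, Finset.prod_product_right]
  refine hu1 s₀ fun m hm ω hω => ?_
  obtain ⟨a, ha, rfl⟩ := (Finset.mem_filter.1 hω).2
  exact Finset.mem_filter.2 ⟨(hs _).2 (by rw [← mul_smul]; exact MulAction.mem_orbit _ _),
    m * a, mul_mem hm ha, mul_smul _ _ _⟩

theorem th_prod_eq_of_unique_fixed [Fintype Ω] (hP : IsPGroup p P) (f : Ω → A)
    (hf : ∀ (ω₀ : Ω) (M : Subgroup P), M.index = p → MulAction.stabilizer P ω₀ ≤ M → ∃ u ∉ M,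
      ∀ s : Finset Ω, (∀ m ∈ M, ∀ ω ∈ s, m • ω ∈ s) →
        ∏ i ∈ Finset.range p, ∏ ω ∈ s, f (u ^ i • ω) = 1) {ω₀ : Ω}
    (h0 : MulAction.stabilizer P ω₀ = ⊤) (h1 : ∀ ω, MulAction.stabilizer P ω = ⊤ → ω = ω₀) :
    ∏ ω, f ω = f ω₀ := by
  classical
  have := Fintype.ofFinite (MulAction.orbitRel.Quotient P Ω)
  rw [← Finset.prod_fiberwise (g := fun ω => (Quotient.mk'' ω : MulAction.orbitRel.Quotient P Ω)),
    Finset.prod_eq_single (Quotient.mk'' ω₀ : MulAction.orbitRel.Quotient P Ω)]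
  · refine Finset.prod_eq_single_of_mem ω₀ (by simp) fun ω hω hne => absurd ?_ hne
    obtain ⟨g, rfl⟩ : ω ∈ MulAction.orbit P ω₀ := Quotient.exact' (Finset.mem_filter.1 hω).2
    exact (h0 ▸ mem_top g : g ∈ MulAction.stabilizer P ω₀)
  · intro q _ hq
    induction q using Quotient.inductionOn' with
    | h ω =>
    refine th_prod_orbit_eq_one hP f (ω₀ := ω) (hf ω) (fun h => hq (by rw [h1 ω h])) fun ω' => ?_
    rw [Finset.mem_filter, Quotient.eq'']
    exact ⟨fun h => h.2, fun h => ⟨Finset.mem_univ _, h⟩⟩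
  · simp

end Orbit

variable {G : Type*} [Group G] {p : ℕ}

/-- Subgroups of index `p` of `B` over `C_B(V)` have the same fixed points on `V` as `B`. -/
def TrGood (p : ℕ) (V B : Subgroup G) : Prop :=
  ∀ B₀ ≤ B, B ⊓ centralizer (V : Set G) ≤ B₀ → B₀.relIndex B = p →
    V ⊓ centralizer (B₀ : Set G) ≤ centralizer (B : Set G)

theorem TrGood.conj {V B : Subgroup G} [V.Normal] (h : TrGood p V B) (g : G) :
    TrGood p V (B.map (MulAut.conj g).toMonoidHom) := by
  intro B₀ h1 h2 h3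
  obtain ⟨B₁, rfl⟩ : ∃ B₁ : Subgroup G, B₁.map (MulAut.conj g).toMonoidHom = B₀ :=
    ⟨B₀.map (MulAut.conj g⁻¹).toMonoidHom, map_conj_eq_iff.2 rfl⟩
  rw [← map_conj_eq_of_normal (centralizer (V : Set G)) g, ← map_conj_inf,
    map_conj_le_map_conj_iff] at h2
  rw [← map_conj_eq_of_normal V g, centralizer_map_conj, centralizer_map_conj, ← map_conj_inf,
    map_conj_le_map_conj_iff]
  exact h B₁ (map_conj_le_map_conj_iff.1 h1) h2 (relIndex_map_conj B₁ B g ▸ h3)

variable [Finite G] [hp : Fact p.Prime]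

/-- A best offender contains a transvection or a subgroup suitable for the trace argument. -/
theorem exists_trGood_or_transvection {V A : Subgroup G} (hV : IsPGroup p V)
    (hA : IsMulCommutative A) (hAV : ¬ A ≤ centralizer (V : Set G))
    (hoff : offM V (A ⊓ centralizer (V : Set G)) ≤ offM V A) :
    (∃ B ≤ A, TrGood p V B ∧ ¬ B ≤ centralizer (V : Set G)) ∨
      ∃ b ∈ A, b ∉ centralizer (V : Set G) ∧ b ^ p ∈ centralizer (V : Set G) ∧
        Nat.card V ≤ p * Nat.card ↥(V ⊓ centralizer (zpowers b : Set G)) := by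
  set C := centralizer (V : Set G) with hC
  obtain ⟨B, ⟨h1, h2, h3, h4⟩, hmin⟩ := (wellFounded_lt (α := Subgroup G)).has_min
    {B | B ≤ A ∧ A ⊓ C ≤ B ∧ ¬ B ≤ C ∧ offM V (A ⊓ C) ≤ offM V B} ⟨A, le_rfl, inf_le_left, hAV, hoff⟩
  by_cases hg : TrGood p V B
  · exact Or.inl ⟨B, h1, hg, h3⟩
  right
  simp only [TrGood, not_forall] at hg
  obtain ⟨B₀, h5, h6, h7, h8⟩ := hg
  have h9 : V ⊓ centralizer (B : Set G) < V ⊓ centralizer (B₀ : Set G) :=
    lt_of_le_not_ge (inf_le_inf_left _ (centralizer_le h5)) fun h => h8 (h.trans inf_le_right)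
  have h10 := PG.mul_card_le_of_lt (hV.to_inf_left) h9
  have h11 : Nat.card B₀ * p = Nat.card B := by
    rw [← h7, ← card_inf_mul_relIndex B₀ B, inf_eq_left.2 h5]
  have h12 : A ⊓ C ≤ B₀ := (le_inf h2 inf_le_right).trans h6
  have h13 : B₀ ≤ C := by_contra fun h => hmin B₀ ⟨h5.trans h1, h12, h, h4.trans (by
    rw [offM, offM, ← h11, mul_assoc]
    exact Nat.mul_le_mul_left _ h10)⟩ (lt_of_le_of_ne h5 fun h' => hp.out.one_lt.ne' (by
      rw [← h7, h', relIndex_self]))
  obtain ⟨b, hb, hbC⟩ := SetLike.not_le_iff_exists.1 h3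
  refine ⟨b, h1 hb, hbC, h13 ?_, ?_⟩
  · have hBc : IsMulCommutative B := th_comm_mono hA h1
    have : (B₀.subgroupOf B).Normal := ⟨fun x hx y => by
      rwa [hBc.1.1 y x, mul_inv_cancel_right]⟩
    exact h7 ▸ (B₀.subgroupOf B).pow_index_mem ⟨b, hb⟩
  · rw [offM, offM, le_antisymm h12 (le_inf (h5.trans h1) h13),
      inf_eq_left.2 (le_centralizer_iff.1 h13), ← h11, mul_assoc] at h4
    refine (Nat.le_of_mul_le_mul_left h4 Nat.card_pos).trans (Nat.mul_le_mul_left _ ?_)
    exact card_le_of_le (inf_le_inf_left _ (centralizer_le (zpowers_le.2 hb)))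

open scoped IsMulCommutative in
/-- The trace argument. -/
theorem central_of_trGood (S : Sylow p G) {x : G} (hS : (S : Subgroup G) ≤ normalizer {x})
    (h : ∀ H : Subgroup G, (S : Subgroup G) ≤ H → H ≠ ⊤ → H ≤ normalizer {x})
    (hVc : IsMulCommutative (normalClosure {x})) (hVp : IsPGroup p (normalClosure {x}))
    {B : Subgroup G} (hBS : B ≤ S) (hB : TrGood p (normalClosure {x}) B) (hBQ : ¬ B ≤ pCore p G)
    (t : G) : t * x * t⁻¹ = x := by
  classical
  set V := normalClosure {x} with hV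
  set M := normalizer ({x} : Set G) with hM
  have hx : x ∈ V := subset_normalClosure rfl
  have hCM : ∀ g : G, ∀ c ∈ centralizer (V : Set G), g⁻¹ * c * g ∈ M := fun g c hc =>
    mem_normalizer_singleton.2 (by
      rw [← (Normal.conj_mem' inferInstance c hc g) x hx, mul_inv_cancel_right])
  set W := ⨆ D ∈ {D : Subgroup G | D ≤ S ∧ TrGood p V D}, D with hW
  have hle : ∀ D : Subgroup G, D ≤ S → TrGood p V D → D ≤ W := fun D h1 h2 =>
    le_biSup (f := fun D : Subgroup G => D) (s := {D : Subgroup G | D ≤ S ∧ TrGood p V D}) ⟨h1, h2⟩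
  have hP : W ≤ S := iSup₂_le fun D hD => hD.1
  have hN : ∀ g : G, (∀ v ∈ W, g * v * g⁻¹ ∈ (S : Subgroup G)) → g ∈ normalizer (W : Set G) := by
    intro g hg
    refine mem_normalizer_of_map_conj_le (map_le_iff_le_comap.2 (iSup₂_le fun D hD => ?_))
    exact map_le_iff_le_comap.1 (hle _ (Tr.map_conj_le_iff.2 fun v hv => hg v (hle D hD.1 hD.2 hv))
      (hD.2.conj g))
  have hNM : normalizer (W : Set G) ≤ M :=
    h _ (fun s hs => hN s fun v hv => mul_mem (mul_mem hs (hP hv)) (inv_mem hs))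
      (normalizer_ne_top_of_not_le (S.2.to_le hP) fun h1 => hBQ ((hle B hBS hB).trans h1))
  have hst : ∀ (g : G) (v : W), v ∈ MulAction.stabilizer W (g : G ⧸ M) ↔ g⁻¹ * v * g ∈ M :=
    fun g v => by
      rw [MulAction.mem_stabilizer_iff, eq_comm]
      change (g : G ⧸ M) = (((v : G) * g : G) : G ⧸ M) ↔ _
      rw [QuotientGroup.eq, mul_assoc]
  have := Fintype.ofFinite (G ⧸ M)
  let F : G ⧸ M → V := fun q => ⟨q.out * x * q.out⁻¹, Normal.conj_mem inferInstance x hx _⟩
  have hF : ∀ g : G, (F (g : G ⧸ M) : G) = g * x * g⁻¹ := fun g => by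
    obtain ⟨m, hm⟩ := QuotientGroup.mk_out_eq_mul M g
    change (g : G ⧸ M).out * x * ((g : G ⧸ M).out)⁻¹ = _
    rw [hm, ← congrArg (fun y => g * y * g⁻¹) (mem_normalizer_singleton.1 m.2)]
    group
  have hF' : ∀ (s : G) (q : G ⧸ M), F (s • q) = MulAut.conjNormal s (F q) := fun s q => by
    obtain ⟨g, rfl⟩ := QuotientGroup.mk_surjective q
    refine Subtype.ext ?_
    rw [MulAction.Quotient.smul_mk, hF, MulAut.conjNormal_apply, hF, smul_eq_mul]
    group
  have h1 : ∀ s : G, MulAut.conjNormal s (∏ q, F q) = ∏ q, F q := fun s => by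
    rw [map_prod, ← Equiv.prod_comp (MulAction.toPerm s) F]
    exact Finset.prod_congr rfl fun q _ => (hF' s q).symm
  let U : Subgroup V := (powMonoidHom p : V →* V).range
  let π := QuotientGroup.mk' U
  have h2 : π (∏ q, F q) = π (F ((1 : G) : G ⧸ M)) := by
    rw [map_prod]
    refine th_prod_eq_of_unique_fixed (P := W) (S.2.to_le hP) (fun q => π (F q))
      (fun ω₀ K hK1 hK2 => ?_) (eq_top_iff.2 fun v _ => (hst 1 v).2 (by simpa using hS (hP v.2)))
      fun ω hω => ?_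
    · have := PG.normal_of_index_prime (S.2.to_le hP) hK1
      obtain ⟨D, ⟨hD1, hD2⟩, hD3⟩ : ∃ D ∈ {D : Subgroup G | D ≤ S ∧ TrGood p V D},
          ¬ D ≤ K.map W.subtype := by
        by_contra h3
        push Not at h3
        have h4 : K = ⊤ := eq_top_iff.2 fun v _ => by
          obtain ⟨w, hw, h5⟩ := (iSup₂_le h3 : W ≤ K.map W.subtype) v.2
          exact (Subtype.ext h5 : w = v) ▸ hw
        rw [h4, index_top] at hK1
        exact hp.out.one_lt.ne hK1
      have hDW := hle D hD1 hD2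
      obtain ⟨u, hu1, hu2⟩ := SetLike.not_le_iff_exists.1 hD3
      refine ⟨⟨u, hDW hu1⟩, fun h3 => hu2 ⟨_, h3, rfl⟩, fun s hs => ?_⟩
      have h3 : (D ⊓ K.map W.subtype).relIndex D = p := by
        rw [inf_relIndex_left, ← relIndex_subgroupOf hDW, subgroupOf,
          comap_map_eq_self_of_injective W.subtype_injective]
        refine ((Nat.dvd_prime hp.out).1
          (hK1 ▸ relIndex_dvd_index_of_normal K (D.subgroupOf W))).resolve_left fun h3 => ?_
        exact hu2 ⟨_, relIndex_eq_one.1 h3 (show (⟨u, hDW hu1⟩ : W) ∈ D.subgroupOf W from hu1), rfl⟩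
      have h4 := hD2 (D ⊓ K.map W.subtype) inf_le_left (fun c hc => ⟨hc.1, ⟨c, hDW hc.1⟩, hK2 (by
        obtain ⟨g, rfl⟩ := QuotientGroup.mk_surjective ω₀
        exact (hst g _).2 (hCM g c hc.2)), rfl⟩) h3
      have h5 : ((∏ ω ∈ s, F ω : V) : G) ∈ centralizer (D : Set G) := by
        refine h4 ⟨(∏ ω ∈ s, F ω : V).2, ?_⟩
        rintro _ ⟨-, m, hm, rfl⟩
        have h6 : MulAut.conjNormal (m : G) (∏ ω ∈ s, F ω) = ∏ ω ∈ s, F ω := by
          rw [map_prod]
          refine Finset.prod_bij (fun ω _ => m • ω) (fun ω hω => hs m hm ω hω)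
            (fun _ _ _ _ h => MulAction.injective m h)
            (fun ω hω => ⟨m⁻¹ • ω, hs _ (inv_mem hm) ω hω, smul_inv_smul _ _⟩)
            fun ω _ => (hF' m ω).symm
        exact mul_inv_eq_iff_eq_mul.1 (congrArg Subtype.val h6)
      have h6 : ∀ i : ℕ, ∏ ω ∈ s, π (F ((⟨u, hDW hu1⟩ : W) ^ i • ω)) = π (∏ ω ∈ s, F ω) := fun i => by
        rw [← map_prod]
        congr 1
        refine (Finset.prod_congr rfl fun ω _ => hF' (u ^ i) ω).trans ?_
        rw [← map_prod]
        exact Subtype.ext (mul_inv_eq_iff_eq_mul.2 (h5 _ (pow_mem hu1 i)))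
      rw [Finset.prod_congr rfl fun i _ => h6 i, Finset.prod_const, Finset.card_range, ← map_pow]
      exact (QuotientGroup.eq_one_iff _).2 ⟨_, rfl⟩
    · obtain ⟨g, rfl⟩ := QuotientGroup.mk_surjective ω
      obtain ⟨m, hm1, hm2⟩ := Tr.exists_conj_le_sylowIn S.2 (sylIn_of_le S hS).not_dvd
        (Tr.isPGroup_map_conj (S.2.to_le hP) g⁻¹)
        (Tr.map_conj_le_iff.2 fun v hv => by
          simpa using (hst g ⟨v, hv⟩).1 (hω ▸ mem_top _))
      have h1 := hNM (hN (m * g⁻¹) fun v hv => by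
        simpa only [mul_assoc, mul_inv_rev] using hm2 _ (Tr.conj_mem_map_conj.2 hv))
      rw [QuotientGroup.eq, mul_one]
      simpa using mul_mem (inv_mem hm1) h1
  generalize (∏ q, F q : V) = y at h1 h2
  have h3 : zpowers y ⊔ U = ⊤ := by
    have hn : ((zpowers y ⊔ U).map V.subtype).Normal := ⟨by
      rintro _ ⟨v, hv, rfl⟩ g
      obtain ⟨_, ⟨n, rfl⟩, _, ⟨w, rfl⟩, rfl⟩ := mem_sup.1 hv
      refine ⟨MulAut.conjNormal g (y ^ n * w ^ p), ?_, rfl⟩
      rw [map_mul, map_zpow, h1, map_pow]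
      exact mul_mem (mem_sup_left ⟨n, rfl⟩) (mem_sup_right ⟨_, rfl⟩)⟩
    have h4 : V ≤ (zpowers y ⊔ U).map V.subtype := normalClosure_le_normal (by
      rintro _ rfl
      refine ⟨F ((1 : G) : G ⧸ M), ?_, (hF 1).trans (by simp)⟩
      rw [← mul_inv_cancel_left y (F _)]
      exact mul_mem (mem_sup_left (mem_zpowers y)) (mem_sup_right (QuotientGroup.eq.1 h2)))
    exact eq_top_iff.2 fun v _ => by
      obtain ⟨w, hw, h5⟩ := h4 v.2
      exact (Subtype.ext h5 : w = v) ▸ hw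
  have h4 := eq_top_of_sup_of_le_frattini (by
    rintro _ ⟨w, rfl⟩
    exact PG.pow_mem_frattini hVp w) h3
  obtain ⟨n, hn⟩ : (⟨x, hx⟩ : V) ∈ zpowers y := h4 ▸ mem_top _
  have h5 : MulAut.conjNormal t (⟨x, hx⟩ : V) = ⟨x, hx⟩ := by
    rw [← hn, map_zpow, h1]
  exact congrArg Subtype.val h5

theorem isConjugacyFunctor_thJ {e : ℕ} (he : p ∣ e) :
    IsConjugacyFunctor p (thJ e : Subgroup G → Subgroup G) := fun P hP =>
  ⟨thJ_le e P, thJ_ne_bot he hP, fun g => thJ_map_equiv (MulAut.conj g)⟩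

theorem isConjugacyFunctor_thZ {e : ℕ} (he : p ∣ e) :
    IsConjugacyFunctor p (thZ e : Subgroup G → Subgroup G) := fun P hP =>
  ⟨thZ_le e P, thZ_ne_bot he hP, fun g => thZ_map_equiv (MulAut.conj g)⟩

omit hp in
theorem exists_abFam_not_le_pCore {e : ℕ} (S : Sylow p G) (h : ¬ (thJ e (S : Subgroup G)).Normal) :
    ∃ A ∈ abFam e (S : Subgroup G), ¬ A ≤ pCore p G := by
  by_contra h2
  push Not at h2
  exact h (thJ_eq_of_le (thJ_le_iff.2 h2) (pCore_le_sylow S) ▸ thJ_normal e _)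

theorem exists_quadratic_of_not_normal (S : Sylow p G) (h : ¬ (thJ 0 (S : Subgroup G)).Normal) :
    ∃ u ∈ (S : Subgroup G), u ∉ pCore p G ∧ ⁅⁅zc (pCore p G), zpowers u⁆, zpowers u⁆ = ⊥ := by
  have hQ : pCore p G ≤ S := pCore_le_sylow S
  obtain ⟨U, hU, hUQ⟩ := exists_abFam_not_le_pCore S h
  have hBc : IsMulCommutative (zc (pCore p G)) := th_center_comm _
  obtain ⟨A, hA, hAQ, hBA⟩ : ∃ A ∈ abFam 0 (S : Subgroup G), ¬ A ≤ pCore p G ∧
      zc (pCore p G) ≤ normalizer (A : Set G) := by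
    by_cases hBU : zc (pCore p G) ≤ U
    · exact ⟨U, hU, hUQ, hBU.trans le_normalizer⟩
    · obtain ⟨A, hA, -, h2, h3⟩ := abFam_exists_normalized (Or.inl rfl) S.isPGroup' le_rfl
        (inf_le_left.trans hQ) th_le_norm ((inf_le_left.trans hQ).trans le_normalizer)
        (fun _ => hBc) hU ((commutator_self_eq_bot_iff.2 hBc).le.trans bot_le) hBU
      refine ⟨A, hA, fun h4 => h2 ?_, h3⟩
      rw [← abFam_zero_inf_centralizer hA]
      exact le_inf (inf_le_left.trans hQ) (inf_le_right.trans (centralizer_le h4))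
  obtain ⟨a, ha, haQ⟩ := SetLike.not_le_iff_exists.1 hAQ
  refine ⟨a, abFam_le hA ha, haQ, eq_bot_iff.2 ?_⟩
  rw [← commutator_self_eq_bot_iff.2 (abFam_comm hA)]
  exact commutator_mono ((commutator_mono le_rfl (zpowers_le.2 ha)).trans
    (le_normalizer_iff_commutator_le_right.1 hBA)) (zpowers_le.2 ha)

/-- The minimal configuration: either `x` is central or there is a transvection. -/
theorem central_or_transvection (S : Sylow p G) (hJ : ¬ (thJ 0 (S : Subgroup G)).Normal) {x : G}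
    (hx : x ∈ zc (S : Subgroup G)) (hxO : x ∈ pCore p G)
    (h : ∀ H : Subgroup G, (S : Subgroup G) ≤ H → H ≠ ⊤ → H ≤ normalizer {x}) :
    normalizer {x} = ⊤ ∨ ∃ b ∈ (S : Subgroup G), b ∉ thOp p (normalClosure {x}) ∧
      b ^ p ∈ centralizer (normalClosure {x} : Set G) ∧ Nat.card (normalClosure {x}) ≤
        p * Nat.card ↥(normalClosure {x} ⊓ centralizer (zpowers b : Set G)) := by
  refine or_iff_not_imp_left.2 fun hM => ?_
  set V := normalClosure {x} with hV
  have hQ : pCore p G ≤ S := pCore_le_sylow S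
  have hVZ : V ≤ zc (pCore p G) := normalClosure_le_normal (by
    rintro _ rfl
    exact ⟨hxO, centralizer_le hQ hx.2⟩)
  have hVc : IsMulCommutative V := th_comm_mono (th_center_comm _) hVZ
  have hVp : IsPGroup p V := (isPGroup_pCore p).to_le (hVZ.trans inf_le_left)
  have hxV : x ∈ V := subset_normalClosure rfl
  have hS : (S : Subgroup G) ≤ normalizer {x} := fun s hs =>
    mem_normalizer_singleton.2 (by rw [hx.2 s hs, mul_inv_cancel_right])
  have hC : (S : Subgroup G) ⊓ centralizer (V : Set G) ≤ pCore p G :=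
    inf_le_pCore_of_le S hM h fun c hc =>
      mem_normalizer_singleton.2 (by rw [← hc x hxV, mul_inv_cancel_right])
  obtain ⟨A, hA, hAQ⟩ := exists_abFam_not_le_pCore S hJ
  rcases exists_trGood_or_transvection hVp (abFam_comm hA)
    (fun h1 => hAQ ((le_inf (abFam_le hA) h1).trans hC))
    (offM_le_of_abFam hA ((hVZ.trans inf_le_left).trans hQ) hVc (by simp) inf_le_left) with
    ⟨B, h1, h2, h3⟩ | ⟨b, h1, h2, h3⟩
  · exact absurd (eq_top_iff.2 fun t _ => mem_normalizer_singleton.2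
      (central_of_trGood S hS h hVc hVp (h1.trans (abFam_le hA)) h2
        (fun h4 => h3 (h4.trans (le_centralizer_iff.1 (hVZ.trans inf_le_right)))) t)) hM
  · refine ⟨b, abFam_le hA h1, fun h4 => h2 (thOp_le_centralizer_of_le_iSup ?_ h4), h3⟩
    refine (closure_le _).2 fun y hy => ?_
    obtain ⟨z, hz, hy'⟩ := Group.mem_conjugatesOfSet_iff.1 hy
    rw [Set.mem_singleton_iff.1 hz] at hy'
    obtain ⟨g, rfl⟩ := isConj_iff.1 hy'
    refine le_iSup (fun S : Sylow p G => V ⊓ centralizer ((S : Subgroup G) : Set G)) (g • S)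
      ⟨Normal.conj_mem inferInstance _ hxV g, ?_⟩
    rw [Tr.coe_smul_sylow, centralizer_map_conj]
    exact Tr.conj_mem_map_conj.2 hx.2

/-- Glauberman: the abelian Thompson subgroup controls weak closure of elements. -/
theorem weaklyClosed_of_thJ (S : Sylow p G) {x : G} (hxS : x ∈ (S : Subgroup G))
    (hxZ : x ∈ centralizer (normalizer (thJ 0 (S : Subgroup G) : Set G) : Set G))
    (h : p ≠ 2 ∨ x ∈ mhoZ p (S : Subgroup G) ∨ ¬ Involves (Equiv.Perm (Fin 4)) G) (g : G)
    (hg : g * x * g⁻¹ ∈ (S : Subgroup G)) : g * x * g⁻¹ = x := by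
  have hW : IsConjugacyFunctor p (thJ 0 : Subgroup G → Subgroup G) :=
    isConjugacyFunctor_thJ (dvd_zero p)
  have hWZ : ∀ P : Subgroup G, IsPGroup p P → zc P ≤ thJ 0 P := fun P _ =>
    (center_le_thZ_zero P).trans (thZ_le_thJ 0 P)
  have hn : ∀ (H : Subgroup G) (T : Sylow p H),
      ¬ H ≤ normalizer (thJ 0 ((T : Subgroup H).map H.subtype) : Set G) →
      ¬ (thJ 0 (T : Subgroup H)).Normal := fun H T h1 h2 => h1 (by
    rw [thJ_map_of_injective _ H.subtype_injective]
    exact (normal_iff_le_normalizer_map_subtype _).1 h2)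
  by_cases hm : x ∈ mhoZ p (S : Subgroup G)
  · exact (weaklyClosed_of_wc_mhoZ (wc_mhoZ_of_criterion hW hWZ
      (fun H T h1 => exists_quadratic_of_not_normal T (hn H T h1)) ⊤) S).1 x ⟨hm, hxZ⟩ g hg
  have key := wc_induction (𝓡 := fun _ A => ∃ x, A = {x}) hW hWZ (fun _ _ _ _ _ => id)
    (fun H T A h1 ⟨x, hx⟩ h2 h3 h4 h5 => by
      obtain ⟨y, rfl⟩ : ∃ y, A = {y} := by
        obtain ⟨y, hy, h9⟩ : x ∈ H.subtype '' A := hx ▸ rfl
        exact ⟨y, Set.image_injective.2 H.subtype_injective (by rw [hx, Set.image_singleton, h9])⟩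
      have hy : y ∈ zc (pCore p H) :=
        ⟨h2 rfl, centralizer_le (SetLike.coe_subset_coe.2 (pCore_le_sylow T)) (h1 rfl).2⟩
      by_cases hp2 : p = 2
      · subst hp2
        refine (central_or_transvection T (hn H T h3) (h1 rfl) (h2 rfl) h5).resolve_right ?_
        rintro ⟨b, -, h6, h7, h8⟩
        have hVZ : normalClosure {y} ≤ zc (pCore 2 H) := normalClosure_le_normal (by
          rintro _ rfl
          exact hy)
        exact ((h.resolve_left (by simp)).resolve_left hm) (involves_trans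
          (involves_perm_four_of_transvection ((isPGroup_pCore 2).to_le (hVZ.trans inf_le_left))
            (th_comm_mono (th_center_comm _) hVZ) h7 h8 h6) (involves_subgroup H))
      obtain ⟨u, h6, h7, h8⟩ := exists_quadratic_of_not_normal T (hn H T h3)
      refine eq_top_iff.2 fun t _ => mem_normalizer_singleton.2
        (central_of_centralized T h4 h5 h6 h7 (fun U V _ hU => ?_) hy
          (fun m hm => mem_normalizer_singleton.1 hm) t)
      obtain ⟨k, hk⟩ : ∃ k, p - 1 = k + 2 := ⟨p - 3, by have := hp.out.two_le; omega⟩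
      rw [hk]
      clear hk
      induction k with
      | zero => exact (th_quad_mono h8 hU).le.trans bot_le
      | succ k ih =>
        have := ‹IsChiefFactor U V›.2.2.1
        exact (commutator_mono ih le_rfl).trans (commutator_le_left _ _)) ⊤
  refine mem_normalizer_singleton.1 (key S (sylIn_top S) {x} ?_ ⟨x, rfl⟩
    (fun n hn => mem_normalizer_singleton.2 ?_) g trivial (by simpa [cj]))
  · rintro _ rfl
    exact ⟨hxS, centralizer_le (SetLike.coe_subset_coe.2 (le_normalizer_thJ 0 _)) hxZ⟩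
  · rw [hxZ n hn.2, mul_inv_cancel_right]

end Cfsg.Agent.GT
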