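import Mathlib

/-!
# Pseudo-reflections of order four in a 2-group acting on a group of odd order

The group-theoretic step in the bound of the 2-length by the exponent of a Sylow 2-subgroup.
-/

set_option autoImplicit false

namespace Cfsg.Agent.GT.TL

variable {Γ W : Type*} [Group Γ] [CommGroup W] [MulDistribMulAction Γ W]

/-- `x` has order dividing four, acts trivially on the fixed points of its square `t`, and the
only involutions on the part inverted by `t` are the identity and the inversion. -/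
structure Exc (W : Type*) [CommGroup W] [MulDistribMulAction Γ W] (x : Γ) : Prop where
  sq : x * x * (x * x) = 1
  fix : ∀ w : W, (x * x) • w = w → x • w = w
  pm : ∀ γ : Γ, (∀ w : W, (x * x) • w = w⁻¹ → (x * x) • γ • w = (γ • w)⁻¹) →
    (∀ w : W, (x * x) • w = w⁻¹ → γ • γ • w = w) →
    (∀ w : W, (x * x) • w = w⁻¹ → γ • w = w) ∨ (∀ w : W, (x * x) • w = w⁻¹ → γ • w = w⁻¹)

/-- Squaring is a bijection. -/
structure OddGrp (W : Type*) [CommGroup W] : Prop where
  sqrt : ∀ w : W, ∃ u, u * u = w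
  inj : ∀ w : W, w * w = 1 → w = 1

theorem OddGrp.eq_one (hW : OddGrp W) {w : W} (h : w = w⁻¹) : w = 1 :=
  hW.inj w (by nth_rw 2 [h]; exact mul_inv_cancel w)

theorem OddGrp.exists_mul (hW : OddGrp W) {t : Γ} (ht : t * t = 1) (w : W) :
    ∃ a b : W, t • a = a⁻¹ ∧ t • b = b ∧ w = a * b := by
  obtain ⟨u, rfl⟩ := hW.sqrt w
  refine ⟨u * (t • u)⁻¹, u * t • u, ?_, ?_, ?_⟩
  · rw [smul_mul', smul_inv', ← mul_smul, ht, one_smul, mul_inv, inv_inv, mul_comm]
  · rw [smul_mul', ← mul_smul, ht, one_smul, mul_comm]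
  · rw [mul_mul_mul_comm, inv_mul_cancel, mul_one]

theorem neg_smul_of_commute {t γ : Γ} (h : Commute t γ) {w : W} (hw : t • w = w⁻¹) :
    t • γ • w = (γ • w)⁻¹ := by
  rw [← mul_smul, h.eq, mul_smul, hw, smul_inv']

theorem pos_smul_of_commute {t γ : Γ} (h : Commute t γ) {w : W} (hw : t • w = w) :
    t • γ • w = γ • w := by
  rw [← mul_smul, h.eq, mul_smul, hw]

theorem Exc.conj {x : Γ} (h : Exc W x) (g : Γ) : Exc W (g * x * g⁻¹) := by
  have e : g * x * g⁻¹ * (g * x * g⁻¹) = g * (x * x) * g⁻¹ := by group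
  have e1 : ∀ w : W, (g * (x * x) * g⁻¹) • w = w⁻¹ ↔ (x * x) • g⁻¹ • w = (g⁻¹ • w)⁻¹ := fun w => by
    rw [mul_smul, mul_smul, smul_eq_iff_eq_inv_smul, smul_inv']
  refine ⟨?_, fun w hw => ?_, fun γ h1 h2 => ?_⟩
  · rw [e, show g * (x * x) * g⁻¹ * (g * (x * x) * g⁻¹) = g * (x * x * (x * x)) * g⁻¹ by group,
      h.sq]
    group
  · rw [e, mul_smul, mul_smul, smul_eq_iff_eq_inv_smul] at hw
    rw [mul_smul, mul_smul, h.fix _ hw, smul_inv_smul]
  · simp only [e, e1] at h1 h2 ⊢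
    rcases h.pm (g⁻¹ * γ * g) (fun w hw => by
      simpa only [mul_smul] using h1 (g • w) (by rwa [inv_smul_smul])) (fun w hw => by
      simp only [mul_smul, smul_inv_smul]
      rw [h2 (g • w) (by rwa [inv_smul_smul]), inv_smul_smul]) with h3 | h3
    · refine Or.inl fun w hw => ?_
      have := h3 _ hw
      rwa [mul_smul, mul_smul, smul_inv_smul, smul_left_cancel_iff] at this
    · refine Or.inr fun w hw => ?_
      have := h3 _ hw
      rwa [mul_smul, mul_smul, smul_inv_smul, ← smul_inv', smul_left_cancel_iff] at this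

variable [FaithfulSMul Γ W] (hW : OddGrp W)
include hW

theorem OddGrp.ext {t γ δ : Γ} (ht : t * t = 1) (h1 : ∀ w : W, t • w = w⁻¹ → γ • w = δ • w)
    (h2 : ∀ w : W, t • w = w → γ • w = δ • w) : γ = δ := by
  refine eq_of_smul_eq_smul (α := W) fun w => ?_
  obtain ⟨a, b, ha, hb, rfl⟩ := hW.exists_mul ht w
  rw [smul_mul', smul_mul', h1 a ha, h2 b hb]

theorem OddGrp.exists_neg {t : Γ} (ht : t * t = 1) (h1 : t ≠ 1) :
    ∃ w : W, t • w = w⁻¹ ∧ w ≠ 1 := by
  by_contra h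
  push Not at h
  exact h1 (hW.ext ht (fun w hw => by rw [h w hw, smul_one, smul_one])
    fun w hw => by rw [hw, one_smul])

theorem Exc.commute_of {x γ : Γ} (h : Exc W x) (hc : Commute (x * x) γ)
    (h1 : ∀ w : W, (x * x) • w = w⁻¹ → γ • x • w = x • γ • w) : Commute γ x := by
  refine hW.ext h.sq (fun w hw => by rw [mul_smul, mul_smul, h1 w hw]) fun w hw => ?_
  rw [mul_smul, mul_smul, h.fix w hw, h.fix _ (pos_smul_of_commute hc hw)]

theorem Exc.commute {x γ : Γ} (h : Exc W x) (hc : Commute (x * x) γ)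
    (h1 : ∀ w : W, (x * x) • w = w⁻¹ → γ • γ • w = w) : Commute γ x := by
  have hx : Commute (x * x) x := (Commute.refl x).mul_left (Commute.refl x)
  refine h.commute_of hW hc fun w hw => ?_
  rcases h.pm γ (fun w hw => neg_smul_of_commute hc hw) h1 with h2 | h2
  · rw [h2 w hw, h2 _ (neg_smul_of_commute hx hw)]
  · rw [h2 w hw, h2 _ (neg_smul_of_commute hx hw), smul_inv']

theorem Exc.sq_eq {x y : Γ} (hy : Exc W y) (hx : x * x * (x * x) = 1) (h1 : x * x ≠ 1)
    (hc : Commute (y * y) (x * x)) (h2 : ∀ w : W, (x * x) • w = w⁻¹ → (y * y) • w = w⁻¹) :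
    y * y = x * x := by
  obtain ⟨w₀, hw₀, hw₁⟩ := hW.exists_neg hx h1
  have h3 : ∀ w : W, (y * y) • w = w⁻¹ → (x * x) • w = w⁻¹ := by
    refine (hy.pm (x * x) (fun w hw => neg_smul_of_commute hc hw)
      fun w _ => by rw [← mul_smul, hx, one_smul]).resolve_left fun h => hw₁ ?_
    exact hW.eq_one ((h w₀ (h2 w₀ hw₀)).symm.trans hw₀)
  refine hW.ext hx (fun w hw => by rw [hw, h2 w hw]) fun w hw => ?_
  have h4 : (y * y) • (w * ((y * y) • w)⁻¹) = (w * ((y * y) • w)⁻¹)⁻¹ := by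
    rw [smul_mul', smul_inv', ← mul_smul, hy.sq, one_smul, mul_inv, inv_inv, mul_comm]
  have h5 : (x * x) • (w * ((y * y) • w)⁻¹) = w * ((y * y) • w)⁻¹ := by
    rw [smul_mul', smul_inv', hw, pos_smul_of_commute hc.symm hw]
  rw [hw, eq_comm, ← mul_inv_eq_one]
  exact hW.eq_one (h5.symm.trans (h3 _ h4))

/-- Two commuting conjugates of `t` coincide or invert independent parts. -/
theorem Exc.conj_eq_or {x g : Γ} (h : Exc W x) (h1 : x * x ≠ 1)
    (hc : Commute (x * x) (g * (x * x) * g⁻¹)) :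
    Commute g (x * x) ∨ ∀ w : W, (x * x) • w = w⁻¹ → (x * x) • g⁻¹ • w = g⁻¹ • w := by
  have e : g * x * g⁻¹ * (g * x * g⁻¹) = g * (x * x) * g⁻¹ := by group
  rcases h.pm _ (fun w hw => neg_smul_of_commute hc hw) (fun w _ => by
    rw [← mul_smul, ← e, (h.conj g).sq, one_smul]) with h2 | h2
  · refine Or.inr fun w hw => ?_
    have := h2 w hw
    rwa [mul_smul, mul_smul, smul_eq_iff_eq_inv_smul] at this
  · have := (h.conj g).sq_eq hW h.sq h1 (e ▸ hc.symm) (e ▸ h2)
    rw [e, mul_inv_eq_iff_eq_mul] at this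
    exact Or.inl this

section Main

variable {A : Subgroup Γ} (hA4 : ∀ a ∈ A, a * a * (a * a) = 1)
  (hAz : ∀ a ∈ A, ∀ b ∈ A, Commute (a * a) b) {x : Γ} (hxA : ∀ a ∈ A, x * a * x⁻¹ ∈ A)
  (h : Exc W x) (h1 : x * x ≠ 1)
include hA4 hAz hxA h h1

theorem Exc.sq_commute {a : Γ} (ha : a ∈ A) : Commute (a * a) x := by
  have ht := h.sq
  have hti : (x * x)⁻¹ = x * x := inv_eq_of_mul_eq_one_right ht
  have hf := hA4 a ha
  have hfi : (a * a)⁻¹ = a * a := inv_eq_of_mul_eq_one_right hf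
  have hc : Commute (x * x) (a * a * (x * x) * (a * a)⁻¹) := by
    have h2 := hxA _ (hxA a ha)
    have h3 := hA4 _ h2
    have h4 := (hAz a ha _ (A.mul_mem h2 h2)).eq
    have e : x * (x * a * x⁻¹) * x⁻¹ * (x * (x * a * x⁻¹) * x⁻¹) =
        x * x * (a * a) * (x * x)⁻¹ := by group
    rw [e, hti] at h3 h4
    rw [hfi]
    generalize a * a = f at *
    generalize x * x = t at *
    calc t * (f * t * f) = t * f * t * f := by group
      _ = f * (t * f * t) := h4.symm
      _ = f * t * f * t := by group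
  rcases h.conj_eq_or hW h1 hc with h2 | h2
  · exact h.commute hW h2.symm fun w _ => by rw [← mul_smul, hf, one_smul]
  · exfalso
    obtain ⟨w, hw, hw1⟩ := hW.exists_neg ht h1
    have hx : Commute (x * x) x⁻¹ := ((Commute.refl x).mul_left (Commute.refl x)).inv_right
    have h3 : ∀ w : W, (x * x) • w = w⁻¹ → (a * a * (x * (a * a) * x⁻¹)) • w = x⁻¹ • w :=
      fun w hw => by
        have := h.fix _ (h2 _ (neg_smul_of_commute hx hw))
        rw [hfi] at this
        rw [mul_smul (a * a), mul_smul (x * (a * a)), mul_smul x, this, ← mul_smul, hf, one_smul]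
    have h4 : a * a * (x * (a * a) * x⁻¹) * (a * a * (x * (a * a) * x⁻¹)) = 1 := by
      have h5 := hxA a ha
      have e : x * a * x⁻¹ * (x * a * x⁻¹) = x * (a * a) * x⁻¹ := by group
      have h6 := hA4 _ h5
      have h7 := hAz a ha _ (A.mul_mem h5 h5)
      rw [e] at h6 h7
      rw [h7.symm.mul_mul_mul_comm, hf, h6, one_mul]
    have h5 := h3 _ (neg_smul_of_commute hx hw)
    rw [← h3 w hw, ← mul_smul, h4, one_smul, h3 w hw, ← mul_smul, ← mul_inv_rev, hti, hw] at h5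
    exact hw1 (hW.eq_one h5)

theorem Exc.exists_central {a b : Γ} (ha : a ∈ A) (hb : b ∈ A) :
    ∃ e : Γ, e * e = 1 ∧ (∀ c ∈ A, Commute e c) ∧ Commute e x ∧ a * b = e * (b * a) := by
  have key : ∀ c ∈ A, (∀ d ∈ A, Commute (c * c) d) ∧ Commute (c * c) x := fun c hc =>
    ⟨hAz c hc, h.sq_commute hW hA4 hAz hxA h1 hc⟩
  have h2 := A.mul_mem (A.inv_mem ha) hb
  have h3 := A.inv_mem hb
  have hcA : ∀ c ∈ A, Commute (a * a * (a⁻¹ * b * (a⁻¹ * b)) * (b⁻¹ * b⁻¹)) c := fun c hc =>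
    (((key a ha).1 c hc).mul_left ((key _ h2).1 c hc)).mul_left ((key _ h3).1 c hc)
  refine ⟨a * a * (a⁻¹ * b * (a⁻¹ * b)) * (b⁻¹ * b⁻¹), ?_, hcA,
    ((key a ha).2.mul_left (key _ h2).2).mul_left (key _ h3).2, by group⟩
  have c1 := (key a ha).1 _ (A.mul_mem h2 h2)
  have c2 := ((key a ha).1 _ (A.mul_mem h3 h3)).mul_left ((key _ h2).1 _ (A.mul_mem h3 h3))
  rw [c2.symm.mul_mul_mul_comm, c1.symm.mul_mul_mul_comm, hA4 a ha, hA4 _ h2, hA4 _ h3, one_mul,
    one_mul]

theorem Exc.commute_conj {n : Γ} (hn : n ∈ A) :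
    Commute (x * x) (n * (x * x) * n⁻¹) := by
  have ht := h.sq
  have hti : (x * x)⁻¹ = x * x := inv_eq_of_mul_eq_one_right ht
  obtain ⟨c, hc⟩ : ∃ c, c = n * (x * (x * n⁻¹ * x⁻¹) * x⁻¹) := ⟨_, rfl⟩
  have hcA : c ∈ A := hc ▸ A.mul_mem hn (hxA _ (hxA _ (A.inv_mem hn)))
  have hc1 : n * (x * x) * n⁻¹ = c * (x * x) := by rw [hc]; group
  have hc2 : c * (x * x) * (c * (x * x)) = 1 := by
    rw [← hc1, show n * (x * x) * n⁻¹ * (n * (x * x) * n⁻¹) = n * (x * x * (x * x)) * n⁻¹ by group,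
      ht]
    group
  have hz := hA4 c hcA
  have hzA := hAz c hcA
  have hzx := h.sq_commute hW hA4 hAz hxA h1 hcA
  have hc3 : x * (x * c * x⁻¹) * x⁻¹ = c * c * c := by
    rw [show x * (x * c * x⁻¹) * x⁻¹ = c⁻¹ * (c * (x * x) * (c * (x * x))) * (x * x * (x * x))⁻¹
      by group, hc2, ht, mul_one, inv_one, mul_one, inv_eq_iff_mul_eq_one, ← hz]
    group
  have hc' := hxA c hcA
  obtain ⟨c', hc'd⟩ : ∃ c', c' = x * c * x⁻¹ := ⟨_, rfl⟩
  rw [← hc'd] at hc' hc3
  obtain ⟨e, he1, he2, he3, he4⟩ := h.exists_central hW hA4 hAz hxA h1 hc' hcA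
  have hy := A.mul_mem hcA hc'
  have hn' := A.mul_mem hn (hxA _ (A.inv_mem hn))
  obtain ⟨f, hf1, hf2, hf3, hf4⟩ := h.exists_central hW hA4 hAz hxA h1 hn' hy
  obtain ⟨z, hzd⟩ : ∃ z, z = c * c := ⟨_, rfl⟩
  rw [← hzd] at hz hzA hzx hc3
  have hzm : z ∈ A := hzd ▸ A.mul_mem hcA hcA
  obtain ⟨y, hyd⟩ : ∃ y, y = c * c' := ⟨_, rfl⟩
  rw [← hyd] at hy hf4 he4
  have k1 : x * y * x⁻¹ = z * e * y := by
    rw [hyd, show x * (c * c') * x⁻¹ = x * c * x⁻¹ * (x * c' * x⁻¹) by group, ← hc'd, hc3,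
      ← mul_assoc, ← (hzA c' hc').eq, mul_assoc, he4, hyd, mul_assoc]
  have hze : Commute z e := (he2 z hzm).symm
  have two : ∀ u s : Γ, u * y * u⁻¹ = s * y → Commute s u → s * s = 1 →
      u * u * y * (u * u)⁻¹ = y := fun u s k hs hs1 => by
    rw [show u * u * y * (u * u)⁻¹ = u * (u * y * u⁻¹) * u⁻¹ by group, k, ← mul_assoc, ← hs.eq,
      mul_assoc s, mul_assoc s, k, ← mul_assoc, hs1, one_mul]
  have k2 := two x _ k1 (hzx.mul_left he3) (by rw [hze.symm.mul_mul_mul_comm, hz, he1, one_mul])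
  have k3 : n * x * n⁻¹ * y * (n * x * n⁻¹)⁻¹ = z * e * f * y := by
    obtain ⟨n', hn'd⟩ : ∃ n', n' = n * (x * n⁻¹ * x⁻¹) := ⟨_, rfl⟩
    rw [← hn'd] at hn' hf4
    rw [show n * x * n⁻¹ = n' * x by rw [hn'd]; group,
      show n' * x * y * (n' * x)⁻¹ = n' * (x * y * x⁻¹) * n'⁻¹ by group, k1, ← mul_assoc,
      ← ((hzA n' hn').mul_left (he2 n' hn')).eq, mul_assoc (z * e), hf4]
    group
  have cn : ∀ s : Γ, (∀ c ∈ A, Commute s c) → Commute s x → Commute s (n * x * n⁻¹) :=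
    fun s hs hs' => ((hs n hn).mul_right hs').mul_right (hs n hn).inv_right
  have hzf : Commute (z * e) f := (hf2 z hzm).symm.mul_left (by
    have : e = c' * c * y⁻¹ := by rw [he4]; group
    exact (hf2 e (this ▸ A.mul_mem (A.mul_mem hc' hcA) (A.inv_mem hy))).symm)
  have k4 := two _ _ k3 (((cn z hzA hzx).mul_left (cn e he2 he3)).mul_left (cn f hf2 hf3))
    (by rw [hzf.symm.mul_mul_mul_comm, hze.symm.mul_mul_mul_comm, hz, he1, hf1, one_mul, one_mul])
  rw [show n * x * n⁻¹ * (n * x * n⁻¹) = n * (x * x) * n⁻¹ by group, hc1,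
    show c * (x * x) * y * (c * (x * x))⁻¹ = c * (x * x * y * (x * x)⁻¹) * c⁻¹ by group, k2,
    mul_inv_eq_iff_eq_mul] at k4
  have he : e = 1 := by
    rw [hyd, mul_assoc, mul_right_inj, he4, ← hyd] at k4
    exact (mul_right_cancel (k4.symm.trans (one_mul y).symm))
  rw [he, one_mul] at he4
  rw [he, mul_one] at k1
  have hy2 : y * y = 1 := by
    have e1 : c' * c' = z := by
      rw [hc'd, show x * c * x⁻¹ * (x * c * x⁻¹) = x * (c * c) * x⁻¹ by group, ← hzd, ← hzx.eq,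
        mul_inv_cancel_right]
    calc y * y = c * (c' * c) * c' := by rw [hyd]; group
      _ = c * c * (c' * c') := by rw [he4, hyd]; group
      _ = 1 := by rw [← hzd, e1, hz]
  have k5 := h.commute hW (γ := y) (mul_inv_eq_iff_eq_mul.1 k2)
    fun w _ => by rw [← mul_smul, hy2, one_smul]
  rw [← k5.eq, mul_inv_cancel_right] at k1
  have hz1 : z = 1 := mul_right_cancel (k1.symm.trans (one_mul y).symm)
  rw [hz1, one_mul] at hc3
  rw [hc1]
  have : Commute (x * x) c := by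
    rw [hc'd, show x * (x * c * x⁻¹) * x⁻¹ = x * x * c * (x * x)⁻¹ by group,
      mul_inv_eq_iff_eq_mul] at hc3
    exact hc3
  exact this.mul_right (Commute.refl _)

theorem Exc.sq_eq_or_commute {n : Γ} (hn : n ∈ A)
    (h4 : n * x * (n * x) * (n * x * (n * x)) = 1) (hy : n * x * (n * x) ≠ 1 → Exc W (n * x)) :
    n * x * (n * x) = x * x ∨ Commute n x := by
  have ht := h.sq
  have hx : Commute (x * x) x := (Commute.refl x).mul_left (Commute.refl x)
  obtain ⟨w₀, hw₀, hw₁⟩ := hW.exists_neg ht h1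
  rcases h.conj_eq_or hW h1 (h.commute_conj hW hA4 hAz hxA h1 hn) with h2 | h2
  · have hc : Commute (x * x) (n * x) := h2.symm.mul_right hx
    rcases h.pm (n * x * (n * x)) (fun w hw => neg_smul_of_commute (hc.mul_right hc) hw)
      (fun w _ => by rw [← mul_smul, h4, one_smul]) with h3 | h3
    · refine Or.inr (h.commute_of hW h2.symm fun w hw => ?_)
      have hn' := neg_smul_of_commute hx.inv_right hw
      rcases h.pm (n * x) (fun w hw => neg_smul_of_commute hc hw)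
        (fun w hw => by rw [← mul_smul, h3 w hw]) with h5 | h5
      · have := h5 _ hn'
        rw [mul_smul, smul_inv_smul] at this
        rw [← mul_smul, h5 w hw, this, smul_inv_smul]
      · have := h5 _ hn'
        rw [mul_smul, smul_inv_smul] at this
        rw [← mul_smul, h5 w hw, this, smul_inv', smul_inv_smul]
    · refine Or.inl ((hy fun h5 => hw₁ (hW.eq_one ?_)).sq_eq hW ht h1
        (hc.mul_right hc).symm h3)
      rw [← h3 w₀ hw₀, h5, one_smul]
  · exfalso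
    have hn2 := h.sq_commute hW hA4 hAz hxA h1 hn
    have hc : Commute (x * x) (n * n) := (hn2.mul_right hn2).symm
    have key : ∀ w : W, (x * x) • w = w⁻¹ → (n * x * (n * x)) • w = (n * n) • x • w :=
      fun w hw => by
        have h5 := h.fix _ (h2 _ (neg_smul_of_commute hc (neg_smul_of_commute hx hw)))
        rw [mul_smul n n, inv_smul_smul] at h5
        simp only [mul_smul, h5]
    have h5 := key _ (neg_smul_of_commute hc (neg_smul_of_commute hx hw₀))
    nth_rw 1 [← key w₀ hw₀] at h5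
    rw [← mul_smul, h4, one_smul, ← mul_smul x, ← hn2.eq, mul_smul (n * n), ← mul_smul (n * n),
      hA4 n hn, one_smul, ← mul_smul, hw₀] at h5
    exact hw₁ (hW.eq_one h5)

end Main

/-- The group-theoretic step: two elements `x`, `n x` that are pseudo-reflections whenever their
squares are nontrivial have equal squares or commute. -/
theorem sq_eq_or_commute {A : Subgroup Γ} (hA4 : ∀ a ∈ A, a * a * (a * a) = 1)
    (hAz : ∀ a ∈ A, ∀ b ∈ A, Commute (a * a) b) {x n : Γ} (hxA : ∀ a ∈ A, x * a * x⁻¹ ∈ A)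
    (hn : n ∈ A) (hx4 : x * x * (x * x) = 1) (h4 : n * x * (n * x) * (n * x * (n * x)) = 1)
    (hx : x * x ≠ 1 → Exc W x) (hy : n * x * (n * x) ≠ 1 → Exc W (n * x)) :
    n * x * (n * x) = x * x ∨ Commute n x := by
  by_cases h1 : x * x = 1
  · by_cases h2 : n * x * (n * x) = 1
    · exact Or.inl (h2.trans h1.symm)
    · have := (hy h2).sq_eq_or_commute hW hA4 hAz (x := n * x) (fun a ha => by
        rw [show n * x * a * (n * x)⁻¹ = n * (x * a * x⁻¹) * n⁻¹ by group]
        exact A.mul_mem (A.mul_mem hn (hxA a ha)) (A.inv_mem hn)) h2 (A.inv_mem hn)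
        (by rwa [inv_mul_cancel_left]) (by rwa [inv_mul_cancel_left])
      rw [inv_mul_cancel_left] at this
      rcases this with h3 | h3
      · exact Or.inl h3.symm
      · refine Or.inr ?_
        have := (Commute.refl n).inv_right.mul_right (Commute.inv_left_iff.1 h3)
        rwa [inv_mul_cancel_left] at this
  · exact (hx h1).sq_eq_or_commute hW hA4 hAz hxA h1 hn h4 hy

end Cfsg.Agent.GT.TL
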