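import Mathlib
import Cfsg.Agent.GT.HallHigmanB
import Cfsg.Agent.GT.ModRep2
import Cfsg.Agent.GT.TwoLenGrp
import Cfsg.Agent.S3784

/-!
# Exceptional 2-elements in Theorem B of Hall and Higman act as pseudo-reflections
-/

set_option autoImplicit false

namespace Cfsg.Agent.GT.TL

open Module
open scoped commutatorElement

theorem pm_of_card {Γ W : Type*} [Group Γ] [CommGroup W] [MulDistribMulAction Γ W] [Finite W]
    {q : ℕ} (hq : q.Prime) (hW : OddGrp W) (hWq : ∀ w : W, w ^ q = 1) (ort : W → Subgroup W)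
    (hself : ∀ w, w ∈ ort w) (hnd : ∀ w, ort w = ⊤ → w = 1)
    (ho : ∀ (γ : Γ) (a b : W), γ • a = a⁻¹ → γ • b = b → b ∈ ort a) {t : Γ} (ht : t * t = 1)
    {P : Subgroup W} (hP : ∀ w, w ∈ P ↔ t • w = w⁻¹) (hc : Nat.card P ≤ q ^ 2) (γ : Γ)
    (h1 : ∀ w : W, t • w = w⁻¹ → t • γ • w = (γ • w)⁻¹)
    (h2 : ∀ w : W, t • w = w⁻¹ → γ • γ • w = w) :
    (∀ w : W, t • w = w⁻¹ → γ • w = w) ∨ (∀ w : W, t • w = w⁻¹ → γ • w = w⁻¹) := by
  by_contra hcon
  push Not at hcon
  obtain ⟨⟨x, hx, hx'⟩, y, hy, hy'⟩ := hcon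
  have haP : x * (γ • x)⁻¹ ∈ P := P.mul_mem ((hP _).2 hx) (P.inv_mem ((hP _).2 (h1 x hx)))
  have hbP : y * γ • y ∈ P := P.mul_mem ((hP _).2 hy) ((hP _).2 (h1 y hy))
  have ha : γ • (x * (γ • x)⁻¹) = (x * (γ • x)⁻¹)⁻¹ := by
    rw [smul_mul', smul_inv', h2 x hx, mul_inv, inv_inv, mul_comm]
  have hb : γ • (y * γ • y) = y * γ • y := by rw [smul_mul', h2 y hy, mul_comm]
  have ha1 : x * (γ • x)⁻¹ ≠ 1 := fun h => hx' (mul_inv_eq_one.1 h).symm
  have hb1 : y * γ • y ≠ 1 := fun h => hy' (eq_inv_of_mul_eq_one_right h)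
  generalize x * (γ • x)⁻¹ = a at *
  generalize y * γ • y = b at *
  have := Fact.mk hq
  have hd : Subgroup.zpowers a ⊓ Subgroup.zpowers b = ⊥ := by
    refine eq_bot_iff.2 ?_
    rintro _ ⟨⟨i, rfl⟩, j, hj⟩
    have e1 : γ • a ^ i = (a ^ i)⁻¹ := by rw [smul_zpow', ha, inv_zpow]
    have e2 : γ • b ^ j = b ^ j := by rw [smul_zpow', hb]
    dsimp only at hj
    rw [hj] at e2
    exact hW.eq_one (e2.symm.trans e1)
  have hcard := card_sup_mul_card_inf (Subgroup.zpowers a) (Subgroup.zpowers b)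
  rw [hd, Subgroup.card_bot, mul_one, Nat.card_zpowers, Nat.card_zpowers,
    orderOf_eq_prime (hWq a) ha1, orderOf_eq_prime (hWq b) hb1] at hcard
  have hle : Subgroup.zpowers a ⊔ Subgroup.zpowers b ≤ P :=
    sup_le (Subgroup.zpowers_le.2 haP) (Subgroup.zpowers_le.2 hbP)
  have hP' := Subgroup.eq_of_le_of_card_ge hle (by rw [hcard, ← sq]; exact hc)
  refine ha1 (hnd a (eq_top_iff.2 fun w _ => ?_))
  obtain ⟨u, v, hu, hv, rfl⟩ := hW.exists_mul ht w
  refine (ort a).mul_mem ?_ (ho t a v ((hP a).1 haP) hv)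
  exact (sup_le (Subgroup.zpowers_le.2 (hself a)) (Subgroup.zpowers_le.2 (ho γ a b ha hb)) :
    _ ≤ ort a) (hP'.ge ((hP u).2 hu))

variable {K : Type*} [Field K] {M : Type*} [Group M] {U V : Type*} [AddCommGroup U] [Module K U]
  [AddCommGroup V] [Module K V]

theorem mem_repStab_of_mul {τ : Representation K M U} {T T' : End K U} {β : MulAut M}
    (hβ : ∀ m, T * τ m = τ (β m) * T) (hb : T * T' = 1) (hb' : T' * T = 1) : β ∈ repStab τ := by
  refine ⟨LinearEquiv.ofLinear _ _ hb' hb, fun m w => ?_⟩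
  change (T' * τ _) w = (τ m * T') w
  rw [← mul_one (τ (β m)), ← hb, ← mul_assoc (τ _), ← hβ, ← mul_assoc, ← mul_assoc, hb', one_mul]

theorem map_scalarSub {τ : Representation K M U} (γ : repStab τ) :
    (scalarSub τ).map ((γ : MulAut M) : M →* M) = scalarSub τ := by
  refine le_antisymm ?_ fun m hm => ⟨_, apply_mem_scalarSub (γ⁻¹).2 hm, ?_⟩
  · rintro _ ⟨m, hm, rfl⟩
    exact apply_mem_scalarSub γ.2 hm
  · exact (γ : MulAut M).apply_inv_self M m

/-- The action of the stabilizer of `τ` on the quotient by the scalars. -/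
def quotAct (τ : Representation K M U) [(scalarSub τ).Normal] :
    repStab τ →* MulAut (M ⧸ scalarSub τ) where
  toFun γ := QuotientGroup.congr _ _ (γ : MulAut M) (map_scalarSub γ)
  map_one' := MulEquiv.ext fun w => QuotientGroup.induction_on w fun _ => rfl
  map_mul' _ _ := MulEquiv.ext fun w => QuotientGroup.induction_on w fun _ => rfl

theorem quotAct_mk {τ : Representation K M U} [(scalarSub τ).Normal] (γ : repStab τ) (m : M) :
    quotAct τ γ (m : M ⧸ scalarSub τ) = ((γ : MulAut M) m : M) := rfl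

theorem apply_of_mem_scalarSub {τ : Representation K M U} {γ : MulAut M} (h : γ ∈ repStab τ)
    {m : M} (hm : m ∈ scalarSub τ) : τ (γ m) = τ m := by
  obtain ⟨e, he⟩ := h
  obtain ⟨c, hc⟩ := hm
  exact LinearMap.ext fun w => e.injective (by rw [he, hc]; simp)

theorem normal_scalarSub {τ : Representation K M U} (h2 : ∀ a b : M, ⁅a, b⁆ ∈ scalarSub τ) :
    (scalarSub τ).Normal :=
  ⟨fun n hn g => by
    simpa [commutatorElement_def] using (scalarSub τ).mul_mem (h2 g n) hn⟩

theorem commute_of_mem_scalarSub {τ : Representation K M U} {s : M} (hs : s ∈ scalarSub τ)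
    (A : End K U) : Commute (τ s) A := by
  obtain ⟨c, hc⟩ := hs
  rw [hc]
  exact (Commute.one_left A).smul_left c

variable [CharP K 2]

/-- An element inverted and an element fixed modulo scalars commute. -/
theorem commute_of_neg_pos {τ : Representation K M U} [Nontrivial U]
    (h2 : ∀ a b : M, ⁅a, b⁆ ∈ scalarSub τ) {γ : MulAut M} (h : γ ∈ repStab τ) {a b : M}
    (ha : γ a * a ∈ scalarSub τ) (hb : γ b * b⁻¹ ∈ scalarSub τ) : Commute (τ a) (τ b) := by
  obtain ⟨c, hc⟩ := h2 a b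
  have e0 : ∀ a b : M, τ a * τ b = τ ⁅a, b⁆ * (τ b * τ a) := fun a b => by
    simp [← map_mul, commutatorElement_def]
  have e1 := e0 a b
  have e2 := e0 (γ a) (γ b)
  rw [← map_commutatorElement, apply_of_mem_scalarSub h (h2 a b)] at e2
  rw [hc, smul_mul_assoc, one_mul] at e1 e2
  obtain ⟨s, hs⟩ := ha
  obtain ⟨r, hr⟩ := hb
  have e3 : τ (γ a) = s • τ a⁻¹ := by
    rw [← mul_inv_cancel_right (γ a) a, map_mul τ _ a⁻¹, hs, smul_mul_assoc, one_mul]
  have e4 : τ (γ b) = r • τ b := by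
    rw [← inv_mul_cancel_right (γ b) b, map_mul τ _ b, hr, smul_mul_assoc, one_mul]
  have u : ∀ m : M, τ m ≠ 0 := fun m h0 => by
    have : τ m * τ m⁻¹ = 1 := by rw [← map_mul, mul_inv_cancel, map_one]
    rw [h0, zero_mul] at this
    exact zero_ne_one this
  have hs0 : s ≠ 0 := fun h0 => u _ (by rw [e3, h0, zero_smul])
  have hr0 : r ≠ 0 := fun h0 => u _ (by rw [e4, h0, zero_smul])
  rw [e3, e4, smul_mul_smul_comm, smul_mul_smul_comm, smul_comm c, mul_comm r s,
    smul_right_inj (mul_ne_zero hs0 hr0)] at e2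
  have e5 : τ b * τ a = c • (τ a * τ b) := by
    have := congrArg (fun A => τ a * A * τ a) e2
    simpa [mul_assoc, ← map_mul] using this
  have e6 : (c * c - 1) • τ (a * b) = 0 := by
    rw [sub_smul, one_smul, map_mul, mul_smul, ← e5, ← e1, sub_self]
  have e7 : c = 1 := by
    have h1 := (smul_eq_zero.1 e6).resolve_right (u _)
    have h3 : (c - 1) ^ 2 = 0 := by rw [sub_pow_char, one_pow, sq, h1]
    exact sub_eq_zero.1 (pow_eq_zero_iff two_ne_zero |>.1 h3)
  rw [e7, one_smul] at e1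
  exact e1

variable [IsAlgClosed K] [Finite M] [FiniteDimensional K U]

/-- Passing to the stabilizer of a constituent. -/
theorem exists_stab [FiniteDimensional K V] (hM : (Nat.card M : K) ≠ 0)
    {σ : Representation K M V} {T : End K V} {α : MulAut M} (hα : ∀ m, T * σ m = σ (α m) * T)
    {n : ℕ} (hαn : α ^ 2 ^ n = 1) (hr : (T - 1) ^ (2 ^ n - 1) = 0) {τ : Representation K M U}
    (hτ : IrrRep τ) {f : U →ₗ[K] V} (hf : ∀ m w, f (τ m w) = σ m (f w))
    (hfi : Function.Injective f) :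
    ∃ a k, n = a + k + 1 ∧ ∃ T' : End K U, (∀ m, T' * τ m = τ ((α ^ 2 ^ a) m) * T') ∧
      (T' - 1) ^ (2 ^ (k + 1) - 1) = 0 := by
  have hT : T ^ 2 ^ n = 1 := by
    rw [← sub_eq_zero, ← sub_one_pow_char_pow (K := K)]
    exact pow_eq_zero_of_le (Nat.sub_le _ _) hr
  have hTi : Function.Injective T := by
    refine Function.Injective.of_comp (f := ⇑(T ^ (2 ^ n - 1))) ?_
    rw [← Module.End.coe_mul, ← pow_succ, Nat.sub_add_cancel Nat.one_le_two_pow, hT]
    exact Function.injective_id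
  obtain ⟨d, hd, f', T', hfi', hf', hT', hind⟩ :=
    clifford_cyclic hM hTi hα hτ hf hfi (N := 2 ^ n) (by rw [hαn]; exact one_mem _)
  obtain ⟨a, ha, rfl⟩ := (Nat.dvd_prime_pow Nat.prime_two).1 hd
  have := hτ.nontrivial
  have hpow' : ∀ (k : ℕ) w, ((T ^ (2 ^ a : ℕ) - 1 : End K V) ^ k) (f' w) = f' (((T' - 1) ^ k) w) :=
    fun k w => by
      induction k with
      | zero => rfl
      | succ k ih =>
        rw [pow_succ', End.mul_apply, ih, pow_succ', End.mul_apply]
        simp [hT']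
  have hlow : ∀ j, 2 ^ n = 2 ^ a * (j + 1) → (T' - 1) ^ j = 0 := fun j hj => by
    refine LinearMap.ext fun w => ?_
    have h0 : 0 < 2 ^ a := Nat.two_pow_pos a
    have h2 := LinearMap.congr_fun hr (f' w)
    rw [show 2 ^ n - 1 = 2 ^ a - 1 + 2 ^ a * j by rw [hj, mul_add]; omega, pow_add, pow_mul,
      sub_one_pow_char_pow (K := K), End.mul_apply, hpow',
      ← geom_sum_char_pow (K := K), LinearMap.sum_apply, ← Fin.sum_univ_eq_sum_range
        (fun i => (T ^ i) (f' (((T' - 1) ^ j) w)))] at h2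
    exact congrFun (hind _ h2) ⟨0, h0⟩
  rcases ha.lt_or_eq with ha | rfl
  swap
  · exact absurd (hlow 0 (by simp)) (by simp)
  obtain ⟨k, rfl⟩ := Nat.exists_eq_add_of_lt ha
  refine ⟨a, k, rfl, T', fun m => LinearMap.ext fun w => hfi' ?_, hlow _ ?_⟩
  · rw [End.mul_apply, End.mul_apply, ← hT', hf', hf', ← hT', ← End.mul_apply, pow_mul_rep hα,
      End.mul_apply]
  · rw [Nat.sub_add_cancel Nat.one_le_two_pow, ← pow_add, add_assoc]

omit [IsAlgClosed K] [Finite M] [FiniteDimensional K U] in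
theorem pow_eq_one_of_def {T : End K U} {n : ℕ} (hr : (T - 1) ^ (2 ^ n - 1) = 0) :
    T ^ 2 ^ n = 1 := by
  rw [← sub_eq_zero, ← sub_one_pow_char_pow (K := K)]
  exact pow_eq_zero_of_le (Nat.sub_le _ _) hr

omit [IsAlgClosed K] [Finite M] [FiniteDimensional K U] in
/-- An operator with a deficient minimal polynomial acts trivially on the multiplicity space of a
constituent on which its minimal polynomial has almost full degree. -/
theorem comm_intertwiner {σ : Representation K M V} {T : End K V} {α : MulAut M}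
    (hα : ∀ m, T * σ m = σ (α m) * T) {k : ℕ} (hr : (T - 1) ^ (2 ^ (k + 1) - 1) = 0)
    {τ : Representation K M U} (hτ : IrrRep τ) {T' : End K U}
    (hα' : ∀ m, T' * τ m = τ (α m) * T') (hr' : (T' - 1) ^ (2 ^ (k + 1) - 1) = 0)
    (hr'' : (T' - 1) ^ (2 ^ (k + 1) - 2) ≠ 0) {φ : U →ₗ[K] V}
    (hφ : ∀ m w, φ (τ m w) = σ m (φ w)) : T ∘ₗ φ = φ ∘ₗ T' := by
  have h2 : 2 ≤ 2 ^ (k + 1) := Nat.one_lt_two_pow k.succ_ne_zero
  have hT := pow_eq_one_of_def hr
  have hT' := pow_eq_one_of_def hr'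
  obtain ⟨S, hS⟩ : ∃ S, S = T' ^ (2 ^ (k + 1) - 1) := ⟨_, rfl⟩
  have hb : T' * S = 1 := by rw [hS, ← pow_succ', Nat.sub_add_cancel (by omega), hT']
  have hb' : S * T' = 1 := by rw [hS, ← pow_succ, Nat.sub_add_cancel (by omega), hT']
  have hS1 : S ^ 2 ^ (k + 1) = 1 := by rw [hS, ← pow_mul, mul_comm, pow_mul, hT', one_pow]
  have hSτ : ∀ m, S * τ (α m) = τ m * S := fun m => by
    rw [← mul_one (τ (α m)), ← hb, ← mul_assoc (τ _), ← hα', ← mul_assoc, ← mul_assoc, hb',
      one_mul]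
  let e : End K (U →ₗ[K] V) := (LinearMap.llcomp K U V V T) ∘ₗ (LinearMap.lcomp K V S)
  have he : ∀ g w, e g w = T (g (S w)) := fun _ _ => rfl
  have hep : ∀ (j : ℕ) g w, (e ^ j) g w = (T ^ j) (g ((S ^ j) w)) := fun j => by
    induction j with
    | zero => exact fun _ _ => rfl
    | succ j ih =>
      intro g w
      rw [pow_succ, End.mul_apply, ih, he, pow_succ, pow_succ', End.mul_apply, End.mul_apply]
  have hen : (e - 1) ^ 2 ^ (k + 1) = 0 := by
    rw [sub_one_pow_char_pow (K := K), sub_eq_zero]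
    ext g w
    rw [hep, hT, hS1]
    rfl
  have hI : ∀ (j : ℕ) m w, ((e - 1) ^ j) φ (τ m w) = σ m (((e - 1) ^ j) φ w) := fun j => by
    induction j with
    | zero => exact hφ
    | succ j ih =>
      intro m w
      obtain ⟨m, rfl⟩ := α.surjective m
      rw [pow_succ', End.mul_apply]
      simp only [LinearMap.sub_apply, End.one_apply, he, map_sub, ih]
      rw [← End.mul_apply S, hSτ, End.mul_apply, ih, ← End.mul_apply T, hα, End.mul_apply]
  by_contra hne
  have h1 : ((e - 1) ^ (1 : ℕ)) φ ≠ 0 := fun h => hne (LinearMap.ext fun w => by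
    have := LinearMap.congr_fun h (T' w)
    rw [pow_one, LinearMap.sub_apply, LinearMap.sub_apply, he, ← End.mul_apply S, hb',
      LinearMap.zero_apply, sub_eq_zero] at this
    exact this)
  classical
  have hex : ∃ j : ℕ, ((e - 1) ^ (j + 2)) φ = 0 :=
    ⟨2 ^ (k + 1) - 2, by rw [Nat.sub_add_cancel h2, hen, LinearMap.zero_apply]⟩
  obtain ⟨j, hj0, hj1⟩ : ∃ j : ℕ, ((e - 1) ^ (j + 2)) φ = 0 ∧ ((e - 1) ^ (j + 1)) φ ≠ 0 := by
    refine ⟨Nat.find hex, Nat.find_spec hex, ?_⟩
    rcases h : Nat.find hex with _ | j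
    · exact h1
    · exact Nat.find_min hex (m := j) (by omega)
  have hψ := (hτ.injective_or_eq_zero (hI (j + 1))).resolve_right hj1
  rw [pow_succ', End.mul_apply] at hj0
  have hd : ((e - 1) ^ (j + 1)) φ = (e - 1) (((e - 1) ^ j) φ) := by
    rw [pow_succ', End.mul_apply]
  generalize ((e - 1) ^ (j + 1)) φ = ψ at *
  generalize ((e - 1) ^ j) φ = χ at *
  have e1 : ∀ w, (T - 1) (ψ w) = ψ ((T' - 1) w) := fun w => by
    have := LinearMap.congr_fun hj0 (T' w)
    rw [LinearMap.sub_apply, LinearMap.sub_apply, he, ← End.mul_apply S, hb',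
      LinearMap.zero_apply, sub_eq_zero] at this
    simpa using this
  have e2 : ∀ w, (T - 1) (χ w) = χ ((T' - 1) w) + ψ (T' w) := fun w => by
    rw [hd, LinearMap.sub_apply (e : End K (U →ₗ[K] V)), LinearMap.sub_apply (e χ), he,
      ← End.mul_apply S, hb']
    simp
  have hc : ∀ (i : ℕ) w, ((T' - 1) ^ i) (T' w) = T' (((T' - 1) ^ i) w) := fun i w => by
    rw [← End.mul_apply, ← End.mul_apply,
      (((Commute.refl T').sub_left (Commute.one_left T')).pow_left i).eq]
  have e3 : ∀ (i : ℕ) w, ((T - 1) ^ (i + 1)) (χ w) =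
      χ (((T' - 1) ^ (i + 1)) w) + ((i + 1 : ℕ) : K) • ψ (((T' - 1) ^ i) (T' w)) := fun i => by
    induction i with
    | zero => intro w; simpa using e2 w
    | succ i ih =>
      intro w
      rw [pow_succ' (T - 1), End.mul_apply, ih, map_add, map_smul, e1, e2, ← End.mul_apply (T' - 1),
        ← pow_succ', ← End.mul_apply (T' - 1), ← pow_succ', hc (i + 1), Nat.cast_succ (i + 1),
        add_smul, one_smul]
      abel
  refine hr'' (LinearMap.ext fun w => hψ ?_)
  have := e3 (2 ^ (k + 1) - 2) (S w)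
  rw [show 2 ^ (k + 1) - 2 + 1 = 2 ^ (k + 1) - 1 by omega, hr, hr', ← End.mul_apply T', hb,
    Nat.cast_sub (by omega), Nat.cast_pow, Nat.cast_ofNat, CharTwo.two_eq_zero,
    zero_pow k.succ_ne_zero] at this
  simpa using this

open scoped IsMulCommutative

omit [CharP K 2] [IsAlgClosed K] [Finite M] [FiniteDimensional K U] in
theorem oddGrp_of_isPGroup {W : Type*} [CommGroup W] [Finite W] {q : ℕ} [hq : Fact q.Prime]
    (hq2 : q ≠ 2) (h : IsPGroup q W) : OddGrp W := by
  obtain ⟨k, hk⟩ := h.exists_card_eq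
  have hc : (Nat.card W).Coprime 2 := by
    rw [hk]
    exact ((Nat.coprime_primes hq.out Nat.prime_two).2 hq2).pow_left k
  refine ⟨fun w => ?_, fun w hw => (powCoprime hc).injective ?_⟩
  · obtain ⟨u, hu⟩ := (powCoprime hc).surjective w
    exact ⟨u, by rw [← sq]; exact hu⟩
  · change w ^ 2 = 1 ^ 2
    rw [sq, hw, one_pow]

section Quot

variable {τ : Representation K M U} [(scalarSub τ).Normal] [IsMulCommutative (M ⧸ scalarSub τ)]

omit [CharP K 2] [IsAlgClosed K] [Finite M] [FiniteDimensional K U] in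
theorem commutator_mem_scalarSub (a b : M) : ⁅a, b⁆ ∈ scalarSub τ := by
  rw [← QuotientGroup.eq_one_iff, ← QuotientGroup.mk'_apply, map_commutatorElement,
    commutatorElement_eq_one_iff_mul_comm, mul_comm]

omit [CharP K 2] [IsAlgClosed K] [Finite M] [FiniteDimensional K U] in
theorem quotAct_neg_iff (γ : repStab τ) (m : M) :
    quotAct τ γ m = (m : M ⧸ scalarSub τ)⁻¹ ↔ (γ : MulAut M) m * m ∈ scalarSub τ := by
  rw [quotAct_mk, ← QuotientGroup.eq_one_iff, QuotientGroup.mk_mul, mul_eq_one_iff_eq_inv]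

omit [CharP K 2] [IsAlgClosed K] [Finite M] [FiniteDimensional K U] in
theorem quotAct_pos_iff (γ : repStab τ) (m : M) :
    quotAct τ γ m = (m : M ⧸ scalarSub τ) ↔ (γ : MulAut M) m * m⁻¹ ∈ scalarSub τ := by
  rw [quotAct_mk, ← QuotientGroup.eq_one_iff, QuotientGroup.mk_mul, QuotientGroup.mk_inv,
    mul_inv_eq_one]

/-- The elements inverted by an automorphism of an abelian group. -/
def negSub {W : Type*} [CommGroup W] (t : MulAut W) : Subgroup W where
  carrier := {w | t w = w⁻¹}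
  one_mem' := by simp
  mul_mem' := fun {a b} ha hb => by
    rw [Set.mem_setOf_eq] at *
    rw [map_mul, ha, hb, mul_inv]
  inv_mem' := fun {a} ha => by
    rw [Set.mem_setOf_eq] at *
    rw [map_inv, ha]

theorem exc_irr {q : ℕ} [hq : Fact q.Prime] (hq2 : q ≠ 2) (hM : IsPGroup q M) (hτ : IrrRep τ)
    {T : End K U} {β : repStab τ} (hβ : ∀ m, T * τ m = τ ((β : MulAut M) m) * T) {k : ℕ}
    (hβn : β ^ 2 ^ (k + 1) = 1) (hr : (T - 1) ^ (2 ^ (k + 1) - 1) = 0)
    (hne : quotAct τ (β ^ 2 ^ k) ≠ 1) :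
    1 ≤ k ∧ (∀ w, quotAct τ (β ^ 2 ^ k) w = w → quotAct τ β w = w) ∧
      Nat.card (negSub (quotAct τ (β ^ 2 ^ k))) ≤ q ^ 2 := by
  classical
  have := hτ.nontrivial
  have h2 := commutator_mem_scalarSub (τ := τ)
  have hW := oddGrp_of_isPGroup hq2 (hM.to_quotient (scalarSub τ))
  have hqK : (q : K) ≠ 0 := by
    rw [Ne, CharP.cast_eq_zero_iff K 2, Nat.prime_dvd_prime_iff_eq Nat.prime_two hq.out]
    exact hq2.symm
  obtain ⟨t, htd⟩ : ∃ t, t = β ^ 2 ^ k := ⟨_, rfl⟩
  have htβ : Commute (quotAct τ t) (quotAct τ β) :=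
    (htd ▸ (Commute.refl β).pow_left _ : Commute t β).map _
  have ht2 : t * t = 1 := by rw [htd, ← pow_add, ← two_mul, ← pow_succ', hβn]
  have ht2' : quotAct τ t * quotAct τ t = 1 := by rw [← map_mul, ht2, map_one]
  rw [← htd] at hne ⊢
  let E : Subgroup M := (negSub (quotAct τ t)).comap (QuotientGroup.mk' _)
  have hE : ∀ m, m ∈ E ↔ quotAct τ t m = (m : M ⧸ scalarSub τ)⁻¹ := fun _ => Iff.rfl
  have hβE : ∀ γ : repStab τ, Commute (quotAct τ t) (quotAct τ γ) → ∀ m ∈ E,
      (γ : MulAut M) m ∈ E := fun γ hγ m hm =>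
        neg_smul_of_commute (w := (m : M ⧸ scalarSub τ)) hγ hm
  let β₁ : MulAut E :=
    { toFun := fun m => ⟨_, hβE β htβ m m.2⟩
      invFun := fun m => ⟨_, hβE β⁻¹ (map_inv (quotAct τ) β ▸ htβ.inv_right) m m.2⟩
      left_inv := fun m => Subtype.ext ((β : MulAut M).inv_apply_self M m)
      right_inv := fun m => Subtype.ext ((β : MulAut M).apply_inv_self M m)
      map_mul' := fun a b => Subtype.ext (map_mul (β : MulAut M) (a : M) b) }
  have hβ₁ : ∀ (j : ℕ) (m : E), ((β₁ ^ j) m : M) = ((β ^ j : repStab τ) : MulAut M) m :=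
    fun j => by
      induction j with
      | zero => exact fun _ => rfl
      | succ j ih =>
        intro m
        rw [pow_succ, pow_succ, MulAut.mul_apply, ih]
        rfl
  have hEc : (Nat.card E : K) ≠ 0 := by
    obtain ⟨j, hj⟩ := (hM.to_subgroup E).exists_card_eq
    rw [hj, Nat.cast_pow]
    exact pow_ne_zero _ hqK
  have := Fintype.ofFinite E
  obtain ⟨U₁, -, hU₁, hτ₁⟩ := exists_irrRep_le (τ.comp E.subtype) (V' := ⊤) (by simp) top_ne_bot
  set τ₁ := Representation.subrepresentation (τ.comp E.subtype) U₁ hU₁ with hτ₁d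
  have hcm : ∀ a ∈ E, ∀ y : M, quotAct τ t y = y → Commute (τ a) (τ y) := fun a ha y hy =>
    commute_of_neg_pos h2 t.2 ((quotAct_neg_iff t a).1 ha) ((quotAct_pos_iff t y).1 hy)
  have hH : ∀ f : U₁ →ₗ[K] U, Function.Injective f → (∀ (m : E) w, f (τ₁ m w) = τ m (f w)) →
      ∀ X : End K U, (∀ y : M, quotAct τ t y = y → ∀ u, X (τ y (f u)) = 0) → X = 0 := by
    intro f hfi hf X hX
    have hsp : Submodule.span K {v | ∃ y : M, quotAct τ t y = y ∧ ∃ u, v = τ y (f u)} = ⊤ := by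
      refine (hτ.irr _ fun m w hw => ?_).resolve_left fun h0 => ?_
      · obtain ⟨a, b, ha, hb, hab⟩ := hW.exists_mul ht2' (m : M ⧸ scalarSub τ)
        obtain ⟨a, rfl⟩ := QuotientGroup.mk_surjective a
        have hb' : quotAct τ t (a⁻¹ * m : M) = (a⁻¹ * m : M) := by
          rw [QuotientGroup.mk_mul, hab, QuotientGroup.mk_inv, inv_mul_cancel_left]
          exact hb
        induction hw using Submodule.span_induction with
        | zero => simp
        | add x y _ _ hx hy => rw [map_add]; exact Submodule.add_mem _ hx hy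
        | smul c x _ hx => rw [map_smul]; exact Submodule.smul_mem _ _ hx
        | mem x hx =>
          obtain ⟨y, hy, u, rfl⟩ := hx
          have hy' : quotAct τ t (a⁻¹ * m * y : M) = (a⁻¹ * m * y : M) := by
            rw [QuotientGroup.mk_mul, map_mul, hb', hy]
          refine Submodule.subset_span ⟨_, hy', τ₁ ⟨a, ha⟩ u, ?_⟩
          rw [hf, ← End.mul_apply (τ (a⁻¹ * m * y)), ← (hcm a ha _ hy').eq, ← map_mul,
            ← End.mul_apply, ← map_mul]
          congr 2
          group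
      · have := hτ₁.nontrivial
        obtain ⟨u, hu⟩ := exists_ne (0 : U₁)
        have h1 : f u ∈ Submodule.span K {v | ∃ y : M, quotAct τ t y = y ∧ ∃ u, v = τ y (f u)} :=
          Submodule.subset_span ⟨1, by simp, u, by simp⟩
        rw [h0, Submodule.mem_bot, ← map_zero f] at h1
        exact hu (hfi h1)
    rw [← LinearMap.ker_eq_top, eq_top_iff, ← hsp, Submodule.span_le]
    rintro _ ⟨y, hy, u, rfl⟩
    exact hX y hy u
  have hH1 := hH U₁.subtype U₁.injective_subtype fun _ _ => rfl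
  have hsc : ∀ m : E, m ∈ scalarSub τ₁ → (m : M) ∈ scalarSub τ := by
    rintro m ⟨c, hc⟩
    refine ⟨c, sub_eq_zero.1 (hH1 _ fun y hy u => ?_)⟩
    have : τ m u = c • (u : U) := congrArg Subtype.val (LinearMap.congr_fun hc u)
    rw [LinearMap.sub_apply, ← End.mul_apply, (hcm m m.2 y hy).eq, End.mul_apply]
    simp [this]
  have hsc' : ∀ m : E, (m : M) ∈ scalarSub τ → m ∈ scalarSub τ₁ := by
    rintro m ⟨c, hc⟩
    exact ⟨c, LinearMap.ext fun u => Subtype.ext (LinearMap.congr_fun hc u)⟩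
  have hTβ : ∀ m : E, T * (τ.comp E.subtype) m = (τ.comp E.subtype) (β₁ m) * T := fun m => hβ m
  have hT := pow_eq_one_of_def hr
  have hTi : Function.Injective T := by
    refine Function.Injective.of_comp (f := ⇑(T ^ (2 ^ (k + 1) - 1))) ?_
    rw [← Module.End.coe_mul, ← pow_succ, Nat.sub_add_cancel Nat.one_le_two_pow, hT]
    exact Function.injective_id
  have hβs : β₁ ∈ repStab τ₁ := by
    by_contra hn
    have h3 := hτ₁.charProj_apply_of_notMem (σ := τ.comp E.subtype) (f := U₁.subtype)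
      (fun _ _ => rfl) hTβ hn
    have h4 : charProj τ₁ (τ.comp E.subtype) - ((Nat.card E : K) / finrank K U₁) • 1 = 0 := by
      refine hH1 _ fun y hy u => ?_
      rw [LinearMap.sub_apply, ← LinearMap.comp_apply (τ y),
        charProj_apply_intertwiner (τ' := τ₁) (fun m w => by
          change τ y (τ m w) = τ m (τ y w)
          rw [← End.mul_apply, ← (hcm m m.2 y hy).eq, End.mul_apply]), hτ₁.charProj_self hEc]
      simp
    have := hτ₁.nontrivial
    obtain ⟨u, hu⟩ := exists_ne (0 : U₁)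
    have h5 := h3 u
    rw [sub_eq_zero.1 h4, LinearMap.smul_apply, End.one_apply, smul_eq_zero, div_eq_zero_iff,
      ← map_zero T] at h5
    exact hu (Subtype.ext (hTi (h5.resolve_left
      (not_or.2 ⟨hEc, hτ₁.finrank_ne_zero hEc⟩))))
  obtain ⟨d, hd, f, T', hfi, hf, hT', -⟩ := clifford_cyclic hEc hTi hTβ hτ₁ (f := U₁.subtype)
    (fun _ _ => rfl) U₁.injective_subtype (N := 1) (by rwa [pow_one])
  rw [Nat.dvd_one.1 hd, pow_one] at hT'
  have hα' : ∀ m, T' * τ₁ m = τ₁ (β₁ m) * T' := fun m => LinearMap.ext fun w => hfi (by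
    rw [End.mul_apply, End.mul_apply, ← hT', hf, hf, ← hT', ← End.mul_apply, hTβ, End.mul_apply])
  have hr' : (T' - 1) ^ (2 ^ (k + 1) - 1) = 0 := by
    have : ∀ (j : ℕ) w, ((T - 1) ^ j) (f w) = f (((T' - 1) ^ j) w) := fun j w => by
      induction j with
      | zero => rfl
      | succ j ih =>
        rw [pow_succ', End.mul_apply, ih, pow_succ', End.mul_apply]
        simp [hT']
    exact LinearMap.ext fun w => hfi (by rw [← this, hr]; simp)
  have hD : finrank K U₁ ≠ 1 := fun h => by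
    obtain ⟨w, hw, hw1⟩ := hW.exists_neg ht2' hne
    obtain ⟨m, rfl⟩ := QuotientGroup.mk_surjective w
    refine hw1 ((QuotientGroup.eq_one_iff m).2 (hsc ⟨m, hw⟩ ?_))
    obtain ⟨c, hc⟩ := (LinearMap.existsUnique_eq_smul_id_of_finrank_eq_one h (τ₁ ⟨m, hw⟩)).exists
    exact ⟨c, hc⟩
  have hcore := fun s => hallHigman_core (p := 2) hEc hτ₁ hα' (pow_eq_one_of_def hr')
    (MulEquiv.ext fun m => Subtype.ext (by rw [hβ₁, hβn]; rfl))
    (fun m hm => hsc' m ((QuotientGroup.eq_one_iff _).1 (hW.eq_one (by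
      have h3 := congrArg Subtype.val hm
      rw [hβ₁, ← htd] at h3
      rw [← (hE m).1 m.2, quotAct_mk, h3])))) hD (s := s)
  have h2' : 2 ≤ 2 ^ (k + 1) := Nat.one_lt_two_pow k.succ_ne_zero
  have hdim := (hcore _ hr' (by omega)).2
  have hr'' : (T' - 1) ^ (2 ^ (k + 1) - 2) ≠ 0 := fun h => by
    have := (hcore _ h (by omega)).1
    omega
  obtain ⟨j, hj⟩ := hτ₁.exists_finrank_eq_pow hqK (hM.to_subgroup E)
  have hj1 : 1 ≤ j := Nat.pos_of_ne_zero fun h => hD (by rw [hj, h, pow_zero])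
  have hjq : finrank K U₁ = q := by
    rcases S3784.result 2 q (k + 1) j Nat.prime_two hq.out (by omega) hj1 (by omega) with
      h | h | h
    · rw [hj, h.2.1, pow_one]
    · exact absurd h.1 hq2
    · exact absurd (h.1 ▸ dvd_pow_self 2 k.succ_ne_zero) (by norm_num)
  refine ⟨Nat.pos_of_ne_zero fun h => hD (by rw [h] at hdim; omega), fun w hw => ?_, ?_⟩
  · obtain ⟨y, rfl⟩ := QuotientGroup.mk_surjective w
    have hTs : Function.Surjective T' := by
      refine Function.Surjective.of_comp (g := ⇑(T' ^ (2 ^ (k + 1) - 1))) ?_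
      rw [← Module.End.coe_mul, ← pow_succ', Nat.sub_add_cancel Nat.one_le_two_pow,
        pow_eq_one_of_def hr']
      exact Function.surjective_id
    have key : ∀ z : M, quotAct τ t z = z → ∀ u, T (τ z (f u)) = τ z (f (T' u)) := fun z hz u =>
      LinearMap.congr_fun (comm_intertwiner hTβ hr hτ₁ hα' hr' hr'' (φ := τ z ∘ₗ f) fun m w => by
        change τ z (f _) = τ m (τ z (f w))
        rw [hf, ← End.mul_apply (τ m), (hcm m m.2 z hz).eq]
        rfl) u
    have h3 : τ ((β : MulAut M) y) - τ y = 0 := hH f hfi hf _ fun z hz u => by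
      obtain ⟨u, rfl⟩ := hTs u
      have h4 := key (y * z) (by rw [QuotientGroup.mk_mul, map_mul, hw, hz]) u
      rw [map_mul, End.mul_apply, End.mul_apply, ← End.mul_apply T, hβ, End.mul_apply,
        key z hz] at h4
      rw [LinearMap.sub_apply, h4, sub_self]
    refine (quotAct_pos_iff β y).2 ⟨1, ?_⟩
    rw [map_mul, sub_eq_zero.1 h3, ← map_mul, mul_inv_cancel, map_one, one_smul]
  · have h3 := hτ₁.index_scalarSub_le hEc fun a b => hsc' _ (h2 a b)
    rw [hjq] at h3
    refine le_trans (le_of_eq ?_) h3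
    have h4 : scalarSub τ₁ = ((QuotientGroup.mk' (scalarSub τ)).comp E.subtype).ker := by
      ext m
      rw [MonoidHom.mem_ker, MonoidHom.comp_apply, QuotientGroup.mk'_apply,
        QuotientGroup.eq_one_iff]
      exact ⟨hsc m, hsc' m⟩
    rw [h4, Subgroup.index_ker, MonoidHom.range_comp, Subgroup.range_subtype,
      Subgroup.map_comap_eq_self_of_surjective (QuotientGroup.mk'_surjective _)]

end Quot

end Cfsg.Agent.GT.TL
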