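import Mathlib
import Cfsg.Agent.GT.HallHigmanA
import Cfsg.Agent.GT.PGroupCritical
import Cfsg.Agent.GT.Fitting

/-!
# A chief factor carrying the 2-length

For a solvable group `H` with `O_2(H) = 1` and 2-length above `m + 1` we find a subgroup `L`, a
chief factor `A / B` of `L` with `A` a 2-group of exponent dividing four with central squares, on
which `L` induces a group of 2-length above `m`, and a normal subgroup `Q` of odd prime power
order and class at most two that `A` does not centralize.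
-/

set_option autoImplicit false

namespace Cfsg.Agent.GT.TL

open Subgroup
open scoped commutatorElement

universe u

variable {G : Type*} [Group G] [Finite G]

theorem exists_critical_map {p : ℕ} [Fact p.Prime] {P : Subgroup G} (hP : IsPGroup p P) :
    ∃ D ≤ P, normalizer (P : Set G) ≤ normalizer (D : Set G) ∧
      (∀ a ∈ D, ∀ b ∈ D, Commute (a ^ p) b) ∧ (∀ a ∈ D, ∀ b ∈ D, ∀ c ∈ D, Commute ⁅a, b⁆ c) ∧
      ∀ A : Subgroup G, A ≤ normalizer (P : Set G) → (Nat.card A).Coprime p →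
        A ≤ centralizer (D : Set G) → A ≤ centralizer (P : Set G) := by
  obtain ⟨D, hD⟩ := PG.exists_isCritical hP
  have := hD.char
  refine ⟨D.map P.subtype, map_subtype_le _,
    CopAct.le_normalizer_map_subtype_of_characteristic le_rfl D, ?_, ?_, fun A h1 h2 h3 => ?_⟩
  · rintro _ ⟨a, ha, rfl⟩ _ ⟨b, hb, rfl⟩
    exact congrArg Subtype.val (hD.pow_mem a ha b hb).symm
  · rintro _ ⟨a, ha, rfl⟩ _ ⟨b, -, rfl⟩ _ ⟨c, hc, rfl⟩
    exact congrArg Subtype.val (hD.commutator_mem a ha b c hc).symm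
  · refine CopAct.le_centralizer_of_isNilpotent_of_subgroup hP.isNilpotent h1
      (CopAct.coprime_of_isPGroup_right h2 hP) (map_subtype_le _) h3 ?_
    exact le_trans (inf_centralizer_map_subtype_le_iff.2 hD.centralizer_le)
      (le_centralizer_iff.1 h3)

theorem exists_nice_char {P : Subgroup G} (hP : IsPGroup 2 P) :
    ∃ C ≤ P, normalizer (P : Set G) ≤ normalizer (C : Set G) ∧
      (∀ a ∈ C, a * a * (a * a) = 1) ∧ (∀ a ∈ C, ∀ b ∈ C, Commute (a * a) b) ∧
      ∀ x ∈ normalizer (P : Set G), (orderOf x).Coprime 2 → x ∈ centralizer (C : Set G) →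
        x ∈ centralizer (P : Set G) := by
  obtain ⟨D, hDP, hN, h1, h2, h3⟩ := exists_critical_map hP
  let C : Subgroup G :=
    { carrier := {a | a ∈ D ∧ a ^ 4 = 1}
      one_mem' := ⟨D.one_mem, one_pow _⟩
      inv_mem' := fun ha => ⟨D.inv_mem ha.1, by rw [inv_pow, ha.2, inv_one]⟩
      mul_mem' := fun {a b} ha hb => ⟨D.mul_mem ha.1 hb.1, by
        have e := CopAct.commutatorElement_pow_left_of_commute
          (h2 b hb.1 a ha.1 b hb.1).symm 2
        rw [commutatorElement_eq_one_iff_commute.2 (h1 b hb.1 a ha.1)] at e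
        rw [CopAct.mul_pow_of_commute_commutatorElement (h2 b hb.1 a ha.1 a ha.1).symm
          (h2 b hb.1 a ha.1 b hb.1).symm, ha.2, hb.2, show Nat.choose 4 2 = 2 * 3 from rfl,
          pow_mul, ← e]
        simp⟩ }
  refine ⟨C, fun a ha => hDP ha.1, fun g hg => ?_, fun a ha => ?_, fun a ha b hb => ?_,
    fun x hx hx2 hxC => ?_⟩
  · refine mem_normalizer_iff_of_finite.2 fun a ha =>
      ⟨conj_mem_of_mem_normalizer (hN hg) ha.1, ?_⟩
    rw [conj_pow, ha.2, mul_one, mul_inv_cancel]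
  · rw [← ha.2, show 4 = 2 + 2 from rfl, pow_add, sq]
  · simpa only [sq] using h1 a ha.1 b hb.1
  · have hc : (Nat.card (zpowers x)).Coprime 2 := by rwa [Nat.card_zpowers]
    refine zpowers_le.1 (h3 _ (zpowers_le.2 hx) hc (CopAct.le_centralizer_of_pow_sq_eq_one
      (hP.to_le hDP) (zpowers_le.2 (hN hx)) hc fun d hd hd4 => ?_))
    rw [centralizer_zpowers, mem_centralizer_singleton_iff]
    exact hxC d ⟨hd, hd4⟩

theorem pLengthLE_quotient_inf {p k : ℕ} (N M : Subgroup G) [N.Normal] [M.Normal]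
    (hN : PLengthLE p k (G ⧸ N)) (hM : PLengthLE p k (G ⧸ M)) : PLengthLE p k (G ⧸ (N ⊓ M)) := by
  refine pLengthLE_of_ker_inf_ker (QuotientGroup.map (N ⊓ M) N (MonoidHom.id G) inf_le_left)
    (QuotientGroup.map (N ⊓ M) M (MonoidHom.id G) inf_le_right) (eq_bot_iff.2 fun x hx => ?_) hN hM
  obtain ⟨x, rfl⟩ := QuotientGroup.mk_surjective x
  exact (QuotientGroup.eq_one_iff x).2
    ⟨(QuotientGroup.eq_one_iff x).1 hx.1, (QuotientGroup.eq_one_iff x).1 hx.2⟩

theorem exists_chief {p m : ℕ} [Fact p.Prime] (C : Subgroup G) [hCn : C.Normal]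
    (hC : IsPGroup p C)
    (h : ∀ (Y : Subgroup G) [Y.Normal], PLengthLE p m (G ⧸ Y) →
      ¬ ∀ y ∈ Y, (orderOf y).Coprime p → y ∈ centralizer (C : Set G)) :
    ∃ (A B : Subgroup G) (_ : A.Normal) (_ : B.Normal), A ≤ C ∧ B < A ∧
      (∀ A₁ : Subgroup G, A₁.Normal → A₁ < A → A₁ ≤ B) ∧
      ¬ PLengthLE p m (G ⧸ centMod A B) := by
  let PP : Subgroup G → Prop := fun A => ∃ (Y : Subgroup G) (_ : Y.Normal),
    PLengthLE p m (G ⧸ Y) ∧ ∀ y ∈ Y, (orderOf y).Coprime p → y ∈ centralizer (A : Set G)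
  obtain ⟨A, ⟨hAn, hAC, hA⟩, hmin⟩ := (wellFounded_lt (α := Subgroup G)).has_min
    {A | A.Normal ∧ A ≤ C ∧ ¬ PP A} ⟨C, hCn, le_rfl, fun ⟨Y, _, h1, h2⟩ => h Y h1 h2⟩
  have hP : ∀ A₁ : Subgroup G, A₁.Normal → A₁ < A → PP A₁ := fun A₁ h1 h2 => by
    by_contra h3
    exact hmin A₁ ⟨h1, h2.le.trans hAC, h3⟩ h2
  have hA0 : ⊥ < A := bot_lt_iff_ne_bot.2 fun h0 => hA ⟨⊤, inferInstance,
    pLengthLE_of_coprime (by rw [← index_eq_card, index_top]; exact Nat.coprime_one_left _) m,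
    fun y _ _ => by rw [h0, centralizer_bot]; trivial⟩
  obtain ⟨B, ⟨hBn, hBA⟩, hmax⟩ := (wellFounded_gt (α := Subgroup G)).has_min
    {B | B.Normal ∧ B < A} ⟨⊥, inferInstance, hA0⟩
  obtain ⟨Y, _, hY1, hY2⟩ := hP B hBn hBA
  refine ⟨A, B, hAn, hBn, hAC, hBA, fun A₁ h1 h2 => ?_, fun h1 => hA
    ⟨Y ⊓ centMod A B, inferInstance, pLengthLE_quotient_inf _ _ hY1 h1, fun y hy hyp => ?_⟩⟩
  · obtain ⟨Y₁, _, h3, h4⟩ := hP A₁ h1 h2
    have h5 : A₁ ⊔ B < A := lt_of_le_of_ne (sup_le h2.le hBA.le) fun h5 => hA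
      ⟨Y₁ ⊓ Y, inferInstance, pLengthLE_quotient_inf _ _ h3 hY1, fun y hy hyp => by
        rw [← h5, centralizer_sup]
        exact ⟨h4 y hy.1 hyp, hY2 y hy.2 hyp⟩⟩
    by_contra h6
    exact hmax _ ⟨inferInstance, h5⟩ (lt_of_le_of_ne le_sup_right fun h7 => h6 (h7 ▸ le_sup_left))
  · refine zpowers_le.1 (CopAct.le_centralizer_of_commutator_le
      (CopAct.coprime_of_isPGroup_right (by rwa [Nat.card_zpowers]) (hC.to_le (hBA.le.trans hAC)))
      (le_centMod_iff.1 (zpowers_le.2 hy.2)) (zpowers_le.2 (hY2 y hy.1 hyp)))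

theorem pLengthLE_succ_of_normalizer {p m : ℕ} [Fact p.Prime] (hG : IsPSolvable p G)
    (S : Sylow p (pPrimePCore p G)) {P : Subgroup G}
    (hP : P = (S : Subgroup (pPrimePCore p G)).map (pPrimePCore p G).subtype)
    (Y : Subgroup (normalizer (P : Set G))) [hYn : Y.Normal]
    (h1 : PLengthLE p m (normalizer (P : Set G) ⧸ Y))
    (h2 : ∀ y ∈ Y, (orderOf y).Coprime p → (y : G) ∈ centralizer (P : Set G)) :
    PLengthLE p (m + 1) G := by
  have hs : normalizer (P : Set G) ⊔ pPrimeCore p G = ⊤ := by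
    rw [eq_top_iff, ← S.normalizer_sup_eq_top, ← hP, ← pPrimeCore_sup_sylow_pPrimePCore S, ← hP]
    exact sup_le le_sup_left (sup_le le_sup_right (le_normalizer.trans le_sup_left))
  let π := (QuotientGroup.mk' (pPrimeCore p G)).comp (normalizer (P : Set G)).subtype
  have hπ : Function.Surjective π := by
    rw [← MonoidHom.range_eq_top, MonoidHom.range_comp, range_subtype, map_mk'_eq_top_iff, hs]
  have hY : Y.map π ≤ pCore p (G ⧸ pPrimeCore p G) := by
    have := hYn.map π hπ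
    refine le_pCore ?_
    rw [← range_subtype Y, ← MonoidHom.range_comp]
    refine IsPGroup.of_equiv (pResidual_le_iff_isPGroup.1 (pResidual_le_iff.2 fun y hy => ?_))
      (QuotientGroup.quotientKerEquivRange _)
    have hy' : (orderOf (y : normalizer (P : Set G))).Coprime p := by rwa [orderOf_coe]
    have h3 : ((y : normalizer (P : Set G)) : G) ∈ pPrimePCore p G :=
      hG.isPConstrained.centralizer_le (by rw [hP, pPrimeCore_sup_sylow_pPrimePCore])
        (h2 y y.2 hy')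
    have h4 : zpowers (π y) ≤ pCore p _ ⊓ zpowers (π y) := le_inf (zpowers_le.2 h3) le_rfl
    rw [pCore_inf_eq_bot (by
      rw [Nat.card_zpowers]; exact hy'.coprime_dvd_left (orderOf_map_dvd _ _))] at h4
    exact h4 (mem_zpowers _)
  rw [pLengthLE_iff_quotient_pPrimeCore,
    pLengthLE_succ_iff_of_pPrimeCore_eq_bot pPrimeCore_quotient_pPrimeCore]
  have hk : Y ≤ ((QuotientGroup.mk' (pCore p (G ⧸ pPrimeCore p G))).comp π).ker := fun y hy =>
    (QuotientGroup.eq_one_iff _).2 (hY (mem_map_of_mem _ hy))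
  exact h1.of_surjective (QuotientGroup.lift_surjective_of_surjective _
    ((QuotientGroup.mk' (pCore p (G ⧸ pPrimeCore p G))).comp π)
    ((QuotientGroup.mk'_surjective _).comp hπ) hk)

theorem exists_odd_normal [Group.IsSolvable G] (hO : pCore 2 G = ⊥) {A : Subgroup G}
    (hA : IsPGroup 2 A) (hA0 : A ≠ ⊥) :
    ∃ (q : ℕ) (_ : Fact q.Prime) (Q : Subgroup G) (_ : Q.Normal), q ≠ 2 ∧ IsPGroup q Q ∧
      (∀ a b c : Q, Commute ⁅a, b⁆ c) ∧ (∀ a c : Q, Commute (a ^ q) c) ∧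
      ¬ A ≤ centralizer (Q : Set G) := by
  have h1 : ¬ fittingSubgroup G ≤ centralizer (A : Set G) := fun h => hA0 (eq_bot_iff.2
    (hO ▸ le_pCore_of_le_fitting hA ((le_centralizer_iff.1 h).trans centralizer_fitting_le)))
  rw [fitting_le_iff] at h1
  push Not at h1
  obtain ⟨q, hq, h1⟩ := h1
  have := Fact.mk hq
  have hq2 : q ≠ 2 := fun h => h1 (by rw [h, hO]; exact bot_le)
  obtain ⟨D, hD, hN, h2, h3, h4⟩ := exists_critical_map (isPGroup_pCore (G := G) q)
  rw [normalizer_eq_top, top_le_iff, normalizer_eq_top_iff] at hN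
  refine ⟨q, this, D, hN, hq2, (isPGroup_pCore q).to_le hD,
    fun a b c => Subtype.ext (h3 a a.2 b b.2 c c.2), fun a c => Subtype.ext (h2 a a.2 c c.2),
    fun h => h1 (le_centralizer_iff.1 (h4 A (by rw [normalizer_eq_top]; exact le_top) ?_ h))⟩
  obtain ⟨k, hk⟩ := hA.exists_card_eq
  rw [hk]
  exact ((Nat.coprime_primes Nat.prime_two hq).2 hq2.symm).pow_left k

/-- The module given by a chief factor. -/
theorem exists_module {L : Type u} [Group L] [Finite L] {p : ℕ} [Fact p.Prime] {A B : Subgroup L}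
    [A.Normal] [B.Normal] (hA : IsPGroup p A) (hBA : B < A)
    (hB : ∀ A₁ : Subgroup L, A₁.Normal → A₁ < A → A₁ ≤ B) :
    ∃ (V : Type u) (_ : AddCommGroup V) (_ : Module (ZMod p) V) (_ : Finite V)
      (ρ : Representation (ZMod p) (L ⧸ centMod A B) V) (κ : L → V), Function.Injective ρ ∧
      pCore p (L ⧸ centMod A B) = ⊥ ∧ (∀ a ∈ A, ∀ b ∈ A, κ (a * b) = κ a + κ b) ∧
      (∀ a ∈ A, κ a = 0 ↔ a ∈ B) ∧ (∀ v, ∃ a ∈ A, κ a = v) ∧
      ∀ l : L, ∀ a ∈ A, κ (l * a * l⁻¹) = ρ l (κ a) := by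
  classical
  have hΦ : (frattini A).map A.subtype ≤ B := by
    have : Nontrivial A := (nontrivial_iff_ne_bot A).2 hBA.ne_bot
    refine hB _ inferInstance (lt_of_le_of_ne (map_subtype_le _) fun h => PG.frattini_ne_top
      (G := A) (map_injective A.subtype_injective ?_))
    rw [h, ← MonoidHom.range_eq_map, range_subtype]
  rw [PG.map_frattini_subtype_le_iff hA] at hΦ
  have hV : IsElementaryAbelian p (A.map (QuotientGroup.mk' B)) := by
    refine ⟨PG.isMulCommutative_iff_le_centralizer.2 (CopAct.commutator_eq_bot_iff.1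
      (commutator_le_iff_map_mk'.1 hΦ.1)), ?_⟩
    rintro _ ⟨a, ha, rfl⟩
    rw [← map_pow]
    exact (QuotientGroup.eq_one_iff _).2 (hΦ.2 a ha)
  have := normal_map_mk' (N := B) A
  let ρ₀ := (eaRepN hV).comp (QuotientGroup.mk' B)
  have hρ₀ : ∀ g, ρ₀ g = 1 ↔ g ∈ centMod A B := fun g => eaRepN_eq_one_iff
  have hinj : ∀ x, QuotientGroup.lift (centMod A B) ρ₀ (fun g hg => (hρ₀ g).2 hg) x = 1 → x = 1 :=
    fun x hx => by
      obtain ⟨g, rfl⟩ := QuotientGroup.mk_surjective x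
      exact (QuotientGroup.eq_one_iff g).2 ((hρ₀ g).1 hx)
  refine ⟨EAV hV, inferInstance, inferInstance, inferInstance,
    QuotientGroup.lift (centMod A B) ρ₀ fun g hg => (hρ₀ g).2 hg,
    fun a => if h : a ∈ A then EAV.mk hV a (mem_map_of_mem _ h) else 0, fun a b h => ?_, ?_,
    fun a ha b hb => ?_, fun a ha => ?_, fun v => ?_, fun l a ha => ?_⟩
  · refine mul_inv_eq_one.1 (hinj _ ?_)
    rw [map_mul, h, ← map_mul, mul_inv_cancel, map_one]
  · obtain ⟨X, hX, hX'⟩ := exists_isPGroup_map_eq (QuotientGroup.mk' (centMod A B))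
      (isPGroup_pCore (G := L ⧸ centMod A B) p) (by rw [QuotientGroup.range_mk']; exact le_top)
    rw [← hX', map_mk'_eq_bot_iff, le_centMod_iff]
    have hn : (X ⊔ centMod A B).Normal := by
      rw [← comap_map_mk', hX']
      infer_instance
    have h1 : ⁅A, X ⊔ centMod A B⁆ ≤ ⁅A, X⁆ ⊔ B := by
      rw [commutator_comm]
      refine commutator_sup_le ?_ (by rw [commutator_comm]; exact le_sup_left)
        (by rw [commutator_comm]; exact (le_centMod_iff.1 le_rfl).trans le_sup_right)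
      refine sup_le (CopAct.le_normalizer_sup (normalizer_commutator_ge_right A X)
        (by rw [normalizer_eq_top]; exact le_top)) (CopAct.le_normalizer_of_commutator_le
          (sup_le (commutator_le_left A X) hBA.le)
          ((le_centMod_iff.1 le_rfl).trans le_sup_right))
    refine (commutator_mono le_rfl le_sup_left).trans (hB _ inferInstance
      (lt_of_le_of_ne (commutator_le_left A (X ⊔ centMod A B)) fun h => ?_))
    rw [h] at h1
    have h2 := map_mono (f := QuotientGroup.mk' B) h1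
    rw [map_mk'_sup, map_commutator] at h2
    exact (PG.commutator_lt_of_isPGroup hV.isPGroup (hX.map _)
      (by rw [normalizer_eq_top]; exact le_top)
      (fun h0 => hBA.not_ge (map_mk'_eq_bot_iff.1 h0))).not_ge h2
  · simp only [dif_pos ha, dif_pos hb, dif_pos (A.mul_mem ha hb)]
    rfl
  · simp only [dif_pos ha]
    exact EAV.val_eq_one_iff.symm.trans (QuotientGroup.eq_one_iff a)
  · obtain ⟨a, ha, h⟩ := v.val_mem
    exact ⟨a, ha, by simp only [dif_pos (show a ∈ A from ha)]; exact EAV.ext h⟩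
  · simp only [dif_pos ha, dif_pos (Normal.conj_mem inferInstance a ha l)]
    exact EAV.ext rfl

theorem exists_setup {H : Type u} [Group H] [Finite H] [Group.IsSolvable H] (hO : pCore 2 H = ⊥)
    {m : ℕ} (h : ¬ PLengthLE 2 (m + 1) H) :
    ∃ (L : Subgroup H) (A B : Subgroup L) (_ : A.Normal) (_ : B.Normal) (q : ℕ) (_ : Fact q.Prime)
      (Q : Subgroup H) (_ : Q.Normal), q ≠ 2 ∧ IsPGroup q Q ∧
      (∀ a b c : Q, Commute ⁅a, b⁆ c) ∧ (∀ a c : Q, Commute (a ^ q) c) ∧ IsPGroup 2 A ∧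
      (∀ a ∈ A, a * a * (a * a) = 1) ∧ (∀ a ∈ A, ∀ b ∈ A, Commute (a * a) b) ∧ B < A ∧
      (∀ A₁ : Subgroup L, A₁.Normal → A₁ < A → A₁ ≤ B) ∧
      ¬ A ≤ ((MulAut.conjNormal (H := Q)).comp L.subtype).ker ∧
      ¬ PLengthLE 2 m (L ⧸ centMod A B) := by
  obtain ⟨S⟩ : Nonempty (Sylow 2 (pPrimePCore 2 H)) := inferInstance
  obtain ⟨P, hP⟩ : ∃ P, P = (S : Subgroup (pPrimePCore 2 H)).map (pPrimePCore 2 H).subtype :=
    ⟨_, rfl⟩
  have hP2 : IsPGroup 2 P := hP ▸ S.2.map _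
  obtain ⟨C, hCP, hN, h1, h2, h3⟩ := exists_nice_char hP2
  have hCL : C ≤ normalizer (P : Set H) := hCP.trans le_normalizer
  have := normal_subgroupOf_of_le_normalizer hN
  obtain ⟨A, B, hA, hB, hAC, hBA, h4, h5⟩ := exists_chief (p := 2) (m := m)
    (C.subgroupOf (normalizer (P : Set H))) ((hP2.to_le hCP).comap_subtype) fun Y _ hY hY' =>
      h (pLengthLE_succ_of_normalizer (isPSolvable_of_isSolvable inferInstance) S hP Y hY
        fun y hy hy2 => h3 y y.2 (by rwa [orderOf_coe]) fun c hc =>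
          congrArg Subtype.val (hY' y hy hy2 ⟨c, hCL hc⟩ hc))
  have hA2 : IsPGroup 2 A := (hP2.to_le hCP).comap_subtype.to_le hAC
  obtain ⟨q, hq, Q, hQ, h6, h7, h8, h9, h10⟩ := exists_odd_normal hO (hA2.map (Subgroup.subtype _))
    fun h0 => hBA.ne_bot ((map_eq_bot_iff_of_injective _ (subtype_injective _)).1 h0)
  refine ⟨_, A, B, hA, hB, q, hq, Q, hQ, h6, h7, h8, h9, hA2,
    fun a ha => Subtype.ext (h1 a (hAC ha)), fun a ha b hb => Subtype.ext (h2 a (hAC ha) b (hAC hb)),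
    hBA, h4, fun h0 => h10 ?_, h5⟩
  rintro _ ⟨a, ha, rfl⟩ x hx
  have := congrArg Subtype.val (MulEquiv.congr_fun (h0 ha) ⟨x, hx⟩)
  exact (mul_inv_eq_iff_eq_mul.1 this).symm

end Cfsg.Agent.GT.TL
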