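import Mathlib
import Cfsg.Agent.GT.TwoLenExc
import Cfsg.Agent.GT.TwoLenRed
import Cfsg.Agent.S0205

/-!
# The 2-length is at most the exponent of a Sylow 2-subgroup
-/

set_option autoImplicit false

namespace Cfsg.Agent.GT.TL

open Module Subgroup
open scoped commutatorElement IsMulCommutative

universe u

variable {K : Type*} [Field K] {M : Type*} [Group M] {U V : Type*} [AddCommGroup U] [Module K U]
  [AddCommGroup V] [Module K V]

/-- The elements whose operators commute with the operator of `x`. -/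
def commSub (τ : Representation K M U) (x : M) : Subgroup M where
  carrier := {y | Commute (τ x) (τ y)}
  one_mem' := by simp
  mul_mem' := fun {a b} ha hb => by
    rw [Set.mem_setOf_eq, map_mul]
    exact Commute.mul_right ha hb
  inv_mem' := fun {a} ha => by
    have e1 : τ a * τ a⁻¹ = 1 := by rw [← map_mul, mul_inv_cancel, map_one]
    have e2 : τ a⁻¹ * τ a = 1 := by rw [← map_mul, inv_mul_cancel, map_one]
    change τ x * τ a⁻¹ = τ a⁻¹ * τ x
    rw [← one_mul (τ x * _), ← e2, mul_assoc, ← mul_assoc (τ a), ← Commute.eq ha, mul_assoc, e1,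
      mul_one]

theorem eq_one_of_forall_irr [Finite M] [FiniteDimensional K V] (hM : (Nat.card M : K) ≠ 0)
    (σ : Representation K M V) {m₀ : M} (h : ∀ (U : Submodule K V) (hU : ∀ m, U ≤ U.comap (σ m)),
      IrrRep (σ.subrepresentation U hU) → σ.subrepresentation U hU m₀ = 1) : σ m₀ = 1 := by
  by_contra h₀
  let N := normalClosure {m₀}
  have := Fintype.ofFinite N
  have e : ∀ n : N, (∑ g : N, σ g) * σ n = ∑ g : N, σ g := fun n => by
    rw [Finset.sum_mul, ← Equiv.sum_comp (Equiv.mulRight n) (fun g : N => σ g)]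
    simp
  have e' : ∀ m : M, (∑ g : N, σ g) * σ m = σ m * ∑ g : N, σ g := fun m => by
    rw [Finset.sum_mul, Finset.mul_sum,
      ← Equiv.sum_comp (MulAut.conjNormal m).toEquiv (fun g : N => σ g * σ m)]
    simp [← map_mul]
  obtain ⟨U, hUV, hU, h1⟩ := exists_irrRep_le σ (V' := LinearMap.ker (∑ g : N, σ g))
    (fun m v hv => by
      rw [LinearMap.mem_ker] at hv ⊢
      rw [← End.mul_apply, e', End.mul_apply, hv, map_zero])
    (fun h => h₀ (LinearMap.ext fun v => by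
      have : σ m₀ v - v ∈ LinearMap.ker (∑ g : N, σ g) := by
        rw [LinearMap.mem_ker, map_sub, ← End.mul_apply,
          e ⟨m₀, subset_normalClosure rfl⟩, sub_self]
      rw [h, Submodule.mem_bot, sub_eq_zero] at this
      exact this))
  have hN : N ≤ MonoidHom.ker (σ.subrepresentation U hU) :=
    normalClosure_le_normal (Set.singleton_subset_iff.2 (h U hU h1))
  have := h1.nontrivial
  obtain ⟨u, hu⟩ := exists_ne (0 : U)
  have h2 : (∑ g : N, σ g) u = 0 := hUV u.2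
  have h3 : ∀ g : N, σ g u = u := fun g => congrArg Subtype.val (LinearMap.congr_fun (hN g.2) u)
  simp only [LinearMap.sum_apply, h3, Finset.sum_const, Finset.card_univ,
    ← Nat.card_eq_fintype_card] at h2
  rw [← Nat.cast_smul_eq_nsmul K, smul_eq_zero] at h2
  refine hu (Subtype.ext (h2.resolve_left fun h4 => hM ?_))
  rw [← N.card_mul_index, Nat.cast_mul, h4, zero_mul]

theorem isMulCommutative_quot {τ : Representation K M U} [(scalarSub τ).Normal]
    (h2 : ∀ a b : M, ⁅a, b⁆ ∈ scalarSub τ) : IsMulCommutative (M ⧸ scalarSub τ) :=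
  ⟨⟨fun a b => by
    obtain ⟨a, rfl⟩ := QuotientGroup.mk_surjective a
    obtain ⟨b, rfl⟩ := QuotientGroup.mk_surjective b
    rw [← commutatorElement_eq_one_iff_mul_comm]
    exact (QuotientGroup.eq_one_iff _).2 (h2 a b)⟩⟩

theorem mul_pow_mul_inv_mem {L : Type*} [Group L] {A : Subgroup L} [hA : A.Normal] {w : L}
    (hw : w ∈ A) (g : L) (k : ℕ) : (w * g) ^ k * (g ^ k)⁻¹ ∈ A := by
  rw [← QuotientGroup.eq_one_iff] at hw ⊢
  simp [hw]

theorem exists_conj_notMem {L : Type*} [Group L] {A B X : Subgroup L} [hA : A.Normal]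
    (hB : ∀ A₁ : Subgroup L, A₁.Normal → A₁ < A → A₁ ≤ B) (hX : ¬ A ≤ X) {a : L} (ha : a ∈ A)
    (haB : a ∉ B) : ∃ l : L, l * a * l⁻¹ ∉ X := by
  by_contra h
  push Not at h
  exact haB (hB (A ⊓ X.normalCore) inferInstance (lt_of_le_of_ne inf_le_left fun h1 =>
    hX (h1.ge.trans (inf_le_right.trans X.normalCore_le))) ⟨ha, h⟩)

variable [CharP K 2] [IsAlgClosed K] [Finite M] [FiniteDimensional K U] [FiniteDimensional K V]
  {q : ℕ} [hq : Fact q.Prime]

omit [IsAlgClosed K] [FiniteDimensional K U] [FiniteDimensional K V] in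
theorem card_ne_zero (hq2 : q ≠ 2) (hM : IsPGroup q M) : (Nat.card M : K) ≠ 0 := by
  obtain ⟨j, hj⟩ := hM.exists_card_eq
  rw [hj, Nat.cast_pow]
  refine pow_ne_zero _ ?_
  rw [Ne, CharP.cast_eq_zero_iff K 2, Nat.prime_dvd_prime_iff_eq Nat.prime_two hq.out]
  exact hq2.symm

theorem exc_of_deficient (hq2 : q ≠ 2) (hM : IsPGroup q M) {σ : Representation K M V}
    {T : End K V} {α : MulAut M} (hα : ∀ m, T * σ m = σ (α m) * T) {n : ℕ}
    (hαn : α ^ 2 ^ (n + 2) = 1) (hr : (T - 1) ^ (2 ^ (n + 2) - 1) = 0) {τ : Representation K M U}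
    (hτ : IrrRep τ) {f : U →ₗ[K] V} (hf : ∀ m w, f (τ m w) = σ m (f w))
    (hfi : Function.Injective f) [(scalarSub τ).Normal] [IsMulCommutative (M ⧸ scalarSub τ)]
    (hWq : ∀ w : M ⧸ scalarSub τ, w ^ q = 1) :
    ∃ h1 : α ^ 2 ^ (n + 1) ∈ repStab τ, quotAct τ ⟨_, h1⟩ ≠ 1 →
      ∃ h2 : α ^ 2 ^ n ∈ repStab τ,
        Exc (M ⧸ scalarSub τ) ((quotAct τ).rangeRestrict ⟨_, h2⟩) := by
  obtain ⟨a, k, hak, T', hT', hr'⟩ := exists_stab (card_ne_zero hq2 hM) hα hαn hr hτ hf hfi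
  have hT1 := pow_eq_one_of_def hr'
  have hβ : α ^ 2 ^ a ∈ repStab τ := mem_repStab_of_mul hT' (T' := T' ^ (2 ^ (k + 1) - 1))
    (by rw [← pow_succ', Nat.sub_add_cancel Nat.one_le_two_pow, hT1])
    (by rw [← pow_succ, Nat.sub_add_cancel Nat.one_le_two_pow, hT1])
  have e1 : α ^ 2 ^ (n + 1) = (α ^ 2 ^ a) ^ 2 ^ k := by
    rw [← pow_mul, ← pow_add, show a + k = n + 1 by omega]
  refine ⟨e1 ▸ pow_mem hβ _, fun hne => ?_⟩
  have e2 : (⟨_, e1 ▸ pow_mem hβ _⟩ : repStab τ) = (⟨_, hβ⟩ : repStab τ) ^ 2 ^ k := Subtype.ext e1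
  rw [e2] at hne
  have hβn : (⟨_, hβ⟩ : repStab τ) ^ 2 ^ (k + 1) = 1 := Subtype.ext (by
    change (α ^ 2 ^ a) ^ 2 ^ (k + 1) = 1
    rw [← pow_mul, ← pow_add, ← add_assoc, ← hak, hαn])
  obtain ⟨hk, hfix, hc⟩ := exc_irr hq2 hM hτ (β := ⟨_, hβ⟩) hT' hβn hr' hne
  obtain ⟨k, rfl⟩ := Nat.exists_eq_add_of_le' hk
  have e3 : α ^ 2 ^ n = (α ^ 2 ^ a) ^ 2 ^ k := by
    rw [← pow_mul, ← pow_add, show a + k = n by omega]
  refine ⟨e3 ▸ pow_mem hβ _, ?_⟩
  have e4 : (⟨_, e3 ▸ pow_mem hβ _⟩ : repStab τ) = (⟨_, hβ⟩ : repStab τ) ^ 2 ^ k := Subtype.ext e3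
  rw [e4]
  generalize (⟨_, hβ⟩ : repStab τ) = β at *
  have e5 : (quotAct τ).rangeRestrict (β ^ 2 ^ k) * (quotAct τ).rangeRestrict (β ^ 2 ^ k) =
      (quotAct τ).rangeRestrict (β ^ 2 ^ (k + 1)) := by
    rw [← map_mul, ← pow_add, ← two_mul, ← pow_succ']
  have e6 : (quotAct τ).rangeRestrict (β ^ 2 ^ (k + 1)) *
      (quotAct τ).rangeRestrict (β ^ 2 ^ (k + 1)) = 1 := by
    rw [← map_mul, ← pow_add, ← two_mul, ← pow_succ', hβn, map_one]
  have := hτ.nontrivial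
  refine ⟨by rw [e5, e6], fun w hw => ?_, fun γ => ?_⟩
  · rw [e5] at hw
    change quotAct τ (β ^ 2 ^ k) w = w
    rw [map_pow]
    have h0 : quotAct τ β w = w := hfix w hw
    generalize 2 ^ k = i
    induction i with
    | zero => rfl
    | succ i ih => rw [pow_succ, MulAut.mul_apply, h0, ih]
  · rw [e5]
    refine pm_of_card hq.out (oddGrp_of_isPGroup hq2 (hM.to_quotient _)) hWq
      (fun w => (commSub τ w.out).map (QuotientGroup.mk' _))
      (fun w => ⟨w.out, Commute.refl _, w.out_eq'⟩) (fun w hw => ?_) ?_ e6 (fun _ => Iff.rfl) hc γ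
    · rw [← w.out_eq', QuotientGroup.eq_one_iff]
      refine hτ.exists_eq_smul fun m => ?_
      obtain ⟨y, hy, hym⟩ : (m : M ⧸ scalarSub τ) ∈ _ := hw.ge (mem_top _)
      rw [← mul_inv_cancel_left y m, map_mul]
      exact Commute.mul_right hy (commute_of_mem_scalarSub (QuotientGroup.eq.1 hym) _).symm
    · rintro ⟨_, γ, rfl⟩ a b ha hb
      refine ⟨b.out, commute_of_neg_pos commutator_mem_scalarSub γ.2
        ((quotAct_neg_iff γ _).1 ?_) ((quotAct_pos_iff γ _).1 ?_), b.out_eq'⟩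
      · rw [QuotientGroup.out_eq']
        exact ha
      · rw [QuotientGroup.out_eq']
        exact hb

omit [CharP K 2] in
/-- A 2-group acting nontrivially on `M` and fixing all constituents acts nontrivially modulo the
scalars of some constituent. -/
theorem exists_constituent (hq2 : q ≠ 2) (hM : IsPGroup q M) (hc : (Nat.card M : K) ≠ 0)
    {σ : Representation K M V} (hσ : Function.Injective σ) {α : MulAut M} {j : ℕ}
    (hj : α ^ 2 ^ j = 1) (h1 : α ≠ 1)
    (hs : ∀ (U : Submodule K V) (hU : ∀ m, U ≤ U.comap (σ m)),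
      IrrRep (σ.subrepresentation U hU) → α ∈ repStab (σ.subrepresentation U hU)) :
    ∃ (U : Submodule K V) (hU : ∀ m, U ≤ U.comap (σ m)), IrrRep (σ.subrepresentation U hU) ∧
      ∃ m, α m * m⁻¹ ∉ scalarSub (σ.subrepresentation U hU) := by
  by_contra h
  push Not at h
  refine h1 (MulEquiv.ext fun x => ?_)
  have h2 : α (α x * x⁻¹) = α x * x⁻¹ := by
    rw [← mul_inv_eq_one]
    refine hσ ((eq_one_of_forall_irr hc σ fun U hU hi => ?_).trans (map_one σ).symm)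
    rw [map_mul, apply_of_mem_scalarSub (hs U hU hi) (h U hU hi x), ← map_mul, mul_inv_cancel,
      map_one]
  have h3 : ∀ k : ℕ, (α ^ k) x = (α x * x⁻¹) ^ k * x := fun k => by
    induction k with
    | zero => simp
    | succ k ih => rw [pow_succ', MulAut.mul_apply, ih, map_mul, map_pow, h2, pow_succ]; group
  have h4 := h3 (2 ^ j)
  rw [hj, MulAut.one_apply, right_eq_mul] at h4
  obtain ⟨i, hi⟩ := hM (α x * x⁻¹)
  have h5 := pow_gcd_eq_one.2 ⟨h4, hi⟩
  rw [((Nat.coprime_primes Nat.prime_two hq.out).2 hq2.symm).pow j i, pow_one] at h5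
  exact mul_inv_eq_one.1 h5

theorem not_deficient (hq2 : q ≠ 2) (hM : IsPGroup q M) (hM1 : ∀ a b c : M, Commute ⁅a, b⁆ c)
    (hM2 : ∀ a c : M, Commute (a ^ q) c) {σ : Representation K M V} (hσ : Function.Injective σ)
    {L : Type*} [Group L] [Finite L] (ρ : Representation K L V) (φ : L →* MulAut M)
    (hρ : ∀ l m, ρ l * σ m = σ (φ l m) * ρ l) {A B : Subgroup L} [A.Normal] (hA : IsPGroup 2 A)
    (hA4 : ∀ a ∈ A, a * a * (a * a) = 1) (hAz : ∀ a ∈ A, ∀ b ∈ A, Commute (a * a) b)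
    (hB : ∀ A₁ : Subgroup L, A₁.Normal → A₁ < A → A₁ ≤ B) (hAM : ¬ A ≤ φ.ker) {m : ℕ}
    (hdef : ∀ (u : L) (j : ℕ), u ^ 2 ^ j = 1 → (ρ u - 1) ^ (2 ^ (m + 2) - 1) = 0)
    {g w : L} {j : ℕ} (hg : g ^ 2 ^ j = 1) (hw : w ∈ A)
    (hN : (w * g) ^ 2 ^ (m + 1) * (g ^ 2 ^ (m + 1))⁻¹ ∉ B) : False := by
  have hc : (Nat.card M : K) ≠ 0 := card_ne_zero hq2 hM
  have hφ : ∀ (u : L) (j : ℕ), u ^ 2 ^ j = 1 → φ u ^ 2 ^ (m + 2) = 1 := fun u j hu =>
    MulEquiv.ext fun x => hσ (by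
      have := pow_mul_rep (hρ u) (2 ^ (m + 2)) x
      rw [pow_eq_one_of_def (hdef u j hu), one_mul, mul_one] at this
      exact this.symm)
  have hNA := mul_pow_mul_inv_mem hw g (2 ^ (m + 1))
  have key : ∀ X : Subgroup L, ¬ A ≤ X → ∃ g w : L, (∃ j, g ^ 2 ^ j = 1) ∧ w ∈ A ∧
      (∃ j, (w * g) ^ 2 ^ j = 1) ∧ (w * g) ^ 2 ^ (m + 1) * (g ^ 2 ^ (m + 1))⁻¹ ∉ X := by
    intro X hX
    obtain ⟨l, hl⟩ := exists_conj_notMem hB hX hNA hN
    have h1 : (l * g * l⁻¹) ^ 2 ^ j = 1 := by rw [conj_pow, hg, mul_one, mul_inv_cancel]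
    have h2 := Normal.conj_mem inferInstance w hw l
    refine ⟨l * g * l⁻¹, l * w * l⁻¹, ⟨j, h1⟩, h2, PG.exists_pow_pow_eq_one_of_mem
      (hA.to_sup_of_normal_left (isPGroup_zpowers_of_pow_eq_one h1))
      (mul_mem_sup h2 (mem_zpowers _)), ?_⟩
    rw [show l * w * l⁻¹ * (l * g * l⁻¹) = l * (w * g) * l⁻¹ by group, conj_pow, conj_pow]
    convert hl using 1
    group
  have hirr : ∀ (U : Submodule K V) (hU : ∀ m, U ≤ U.comap (σ m)),
      IrrRep (σ.subrepresentation U hU) → ∀ a b : M,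
        ⁅a, b⁆ ∈ scalarSub (σ.subrepresentation U hU) :=
    fun U hU hi a b => hi.mem_scalarSub_of_comm (hM1 a b)
  have hq' : ∀ (U : Submodule K V) (hU : ∀ m, U ≤ U.comap (σ m)),
      IrrRep (σ.subrepresentation U hU) → ∀ [(scalarSub (σ.subrepresentation U hU)).Normal],
        ∀ w : M ⧸ scalarSub (σ.subrepresentation U hU), w ^ q = 1 := fun U hU hi _ w => by
    obtain ⟨x, rfl⟩ := QuotientGroup.mk_surjective w
    exact (QuotientGroup.eq_one_iff (x ^ q)).2 (hi.mem_scalarSub_of_comm (hM2 x))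
  have hstab : ∀ (U : Submodule K V) (hU : ∀ m, U ≤ U.comap (σ m)),
      IrrRep (σ.subrepresentation U hU) → A ≤ (repStab (σ.subrepresentation U hU)).comap φ := by
    intro U hU hi
    by_contra hX
    obtain ⟨g, w, ⟨j, hg⟩, -, ⟨j', hwg⟩, h⟩ := key _ hX
    have := normal_scalarSub (hirr U hU hi)
    have := isMulCommutative_quot (hirr U hU hi)
    have h1 := fun u j hu => (exc_of_deficient hq2 hM (hρ u) (hφ u j hu) (hdef u j hu) hi
      (f := U.subtype) (fun _ _ => rfl) U.injective_subtype (hq' U hU hi)).1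
    refine h (mul_mem ?_ (inv_mem ?_))
    · rw [mem_comap, map_pow]
      exact h1 _ _ hwg
    · rw [mem_comap, map_pow]
      exact h1 _ _ hg
  obtain ⟨a, ha, ha1⟩ := SetLike.not_le_iff_exists.1 hAM
  obtain ⟨i, hi⟩ := PG.exists_pow_pow_eq_one_of_mem hA ha
  obtain ⟨U, hU, hτ, x₀, hx₀⟩ := exists_constituent hq2 hM hc hσ (α := φ a) (j := i)
    (by rw [← map_pow, hi, map_one]) ha1 fun U hU hi => hstab U hU hi ha
  have := normal_scalarSub (hirr U hU hτ)
  have := isMulCommutative_quot (hirr U hU hτ)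
  have hexc := fun u j hu => exc_of_deficient hq2 hM (hρ u) (hφ u j hu) (hdef u j hu) hτ
    (f := U.subtype) (fun _ _ => rfl) U.injective_subtype (hq' U hU hτ)
  have hAS := hstab U hU hτ
  set τ := σ.subrepresentation U hU
  let S := (repStab τ).comap φ
  let π : S →* (quotAct τ).range := (quotAct τ).rangeRestrict.comp (φ.subgroupComap _)
  let A' := (A.subgroupOf S).map π
  have hA' : IsPGroup 2 A' := hA.comap_subtype.map _
  have : Finite A' := Finite.of_surjective _ (π.subgroupMap_surjective (A.subgroupOf S))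
  have : Nontrivial A' := ⟨⟨π ⟨a, hAS ha⟩, mem_map_of_mem _ ha⟩, 1, fun h => hx₀
    ((quotAct_pos_iff ⟨φ a, hAS ha⟩ x₀).1 (MulEquiv.congr_fun
      (congrArg Subtype.val (congrArg Subtype.val h)) x₀))⟩
  let X := (((frattini A').map A'.subtype).comap π).map S.subtype
  have hX : ∀ s : S, (s : L) ∈ X ↔ π s ∈ (frattini A').map A'.subtype := fun s =>
    ⟨fun ⟨t, ht, h⟩ => Subtype.ext h ▸ ht, fun h => ⟨s, h, rfl⟩⟩
  obtain ⟨g, w, ⟨j, hg⟩, hw, ⟨j', hwg⟩, h⟩ := key X fun h => PG.frattini_ne_top (G := A')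
    (eq_top_iff.2 fun ⟨_, s, hs, rfl⟩ _ => by
      obtain ⟨t, ht, h⟩ := (hX s).1 (h hs)
      exact A'.subtype_injective (a₁ := t) (a₂ := ⟨_, s, hs, rfl⟩) h ▸ ht)
  obtain ⟨h1, h1'⟩ := hexc g j hg
  obtain ⟨h2, h2'⟩ := hexc _ j' hwg
  have h1S : g ^ 2 ^ (m + 1) ∈ S := by rwa [mem_comap, map_pow]
  have h2S : (w * g) ^ 2 ^ (m + 1) ∈ S := by rwa [mem_comap, map_pow]
  have e1 : (π ⟨_, h1S⟩ : MulAut _) = quotAct τ ⟨_, h1⟩ :=
    congrArg (quotAct τ) (Subtype.ext (map_pow φ _ _))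
  have e2 : (π ⟨_, h2S⟩ : MulAut _) = quotAct τ ⟨_, h2⟩ :=
    congrArg (quotAct τ) (Subtype.ext (map_pow φ _ _))
  have h' : π ⟨_, h2S⟩ * (π ⟨_, h1S⟩)⁻¹ ∉ (frattini A').map A'.subtype := fun h0 =>
    h ((hX (⟨_, h2S⟩ * ⟨_, h1S⟩⁻¹)).2 (by rwa [map_mul, map_inv]))
  have hn := mul_pow_mul_inv_mem hw g (2 ^ m)
  have hxS : g ^ 2 ^ m ∈ S := by
    by_contra hx
    have h3 : π ⟨_, h1S⟩ = 1 := Subtype.ext (e1.trans (by
      by_contra h3
      exact hx (by rw [mem_comap, map_pow]; exact (h1' h3).1)))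
    have h4 : π ⟨_, h2S⟩ = 1 := Subtype.ext (e2.trans (by
      by_contra h4
      have h5 : (w * g) ^ 2 ^ m ∈ S := by rw [mem_comap, map_pow]; exact (h2' h4).1
      exact hx (by simpa using S.mul_mem (S.inv_mem (hAS hn)) h5)))
    rw [h3, h4, inv_one, mul_one] at h'
    exact h' (one_mem _)
  have hyS : (w * g) ^ 2 ^ m ∈ S := by simpa using S.mul_mem (hAS hn) hxS
  have e0 : ∀ u : L, u ^ 2 ^ m * u ^ 2 ^ m = u ^ 2 ^ (m + 1) := fun u => by
    rw [pow_succ 2, pow_mul, sq]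
  have e3 : π ⟨_, hxS⟩ * π ⟨_, hxS⟩ = π ⟨_, h1S⟩ := by
    rw [← map_mul]
    exact congrArg π (Subtype.ext (e0 g))
  have e4 : π ⟨_, hyS⟩ * π ⟨_, hyS⟩ = π ⟨_, h2S⟩ := by
    rw [← map_mul]
    exact congrArg π (Subtype.ext (e0 _))
  have e5 : π ⟨_, hAS hn⟩ * π ⟨_, hxS⟩ = π ⟨_, hyS⟩ := by
    rw [← map_mul]
    exact congrArg π (Subtype.ext (inv_mul_cancel_right _ _))
  have e6 : ∀ (u : L) (j : ℕ), u ^ 2 ^ j = 1 → ∀ h : u ^ 2 ^ (m + 1) ∈ S,
      π ⟨_, h⟩ * π ⟨_, h⟩ = 1 := fun u j hu h => by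
    rw [← map_mul, ← map_one (quotAct τ).rangeRestrict]
    refine congrArg (quotAct τ).rangeRestrict (Subtype.ext ?_)
    change φ (u ^ 2 ^ (m + 1) * u ^ 2 ^ (m + 1)) = 1
    rw [← pow_add, ← two_mul, ← pow_succ', map_pow, hφ u j hu]
  have e7 : ∀ (u : L) (h : u ^ 2 ^ m ∈ S) (h' : φ u ^ 2 ^ m ∈ repStab τ),
      π ⟨_, h⟩ = (quotAct τ).rangeRestrict ⟨_, h'⟩ := fun u h h' =>
    congrArg (quotAct τ).rangeRestrict (Subtype.ext (map_pow φ _ _))
  have hnA' : π ⟨_, hAS hn⟩ ∈ A' := mem_map_of_mem _ hn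
  rcases sq_eq_or_commute (oddGrp_of_isPGroup hq2 (hM.to_quotient (scalarSub τ))) (A := A')
    (by
      rintro _ ⟨a, ha, rfl⟩
      rw [← map_mul, ← map_mul, ← map_one π]
      exact congrArg π (Subtype.ext (hA4 a ha)))
    (by
      rintro _ ⟨a, ha, rfl⟩ _ ⟨b, hb, rfl⟩
      rw [← map_mul]
      exact Commute.map (Subtype.ext (hAz a ha b hb) : Commute (a * a) b) π)
    (x := π ⟨_, hxS⟩) (by
      rintro _ ⟨a, ha, rfl⟩
      rw [← map_inv, ← map_mul, ← map_mul]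
      exact mem_map_of_mem _ (Normal.conj_mem inferInstance a ha _))
    hnA' (by rw [e3, e6 g j hg]) (by rw [e5, e4, e6 _ j' hwg])
    (fun h3 => by
      obtain ⟨h4, h5⟩ := h1' fun h4 => h3 (e3.trans (Subtype.ext (e1.trans h4)))
      rwa [e7 g hxS h4])
    (fun h3 => by
      rw [e5] at h3 ⊢
      obtain ⟨h4, h5⟩ := h2' fun h4 => h3 (e4.trans (Subtype.ext (e2.trans h4)))
      rwa [e7 _ hyS h4]) with h3 | h3
  · rw [e5, e4, e3] at h3
    rw [h3, mul_inv_cancel] at h'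
    exact h' (one_mem _)
  · rw [← e4, ← e3, ← e5, h3.symm.mul_mul_mul_comm, mul_inv_cancel_right, ← sq] at h'
    exact h' ⟨⟨_, hnA'⟩ ^ 2, PG.pow_mem_frattini hA' _, rfl⟩

theorem pLengthLE_of_deficient (m : ℕ) : ∀ (H : Type u) [Group H] [Finite H] [Group.IsSolvable H]
    (V : Type u) [AddCommGroup V] [Module (ZMod 2) V] [Finite V]
    (ρ : Representation (ZMod 2) H V), Function.Injective ρ → pCore 2 H = ⊥ →
    (∀ (u : H) (j : ℕ), u ^ 2 ^ j = 1 → (ρ u - 1) ^ (2 ^ (m + 1) - 1) = 0) →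
    PLengthLE 2 m H := by
  induction m with
  | zero =>
    intro H _ _ _ V _ _ _ ρ hρ _ h
    refine pLengthLE_zero_iff.2 (PExp.coprime_card fun x k hx => hρ ?_)
    have := h x k hx
    rw [zero_add, pow_one, show 2 - 1 = 1 from rfl, pow_one, sub_eq_zero] at this
    rw [pow_zero, pow_one, this, map_one]
  | succ m ih =>
    intro H _ _ _ V _ _ _ ρ hρ hO h
    by_contra hcon
    obtain ⟨L, A, B, _, _, q, _, Q, _, hq2, hQ, hQ1, hQ2, hA, hA4, hAz, hBA, hB, hAQ, hl⟩ :=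
      exists_setup hO hcon
    obtain ⟨V₂, _, _, _, ρ₂, κ, hρ₂, hO₂, hκ1, hκ2, hκ3, hκ4⟩ := exists_module hA hBA hB
    have h1 := mt (ih _ V₂ ρ₂ hρ₂ hO₂) hl
    push Not at h1
    obtain ⟨u, j, hu, hu'⟩ := h1
    obtain ⟨g, ⟨j', hg⟩, rfl⟩ := exists_pElt_lift (QuotientGroup.mk'_surjective _) hu
    obtain ⟨v, hv⟩ := DFunLike.ne_iff.1 hu'
    obtain ⟨w, hw, rfl⟩ := hκ3 v
    have h2 : ∀ k : ℕ, κ ((w * g) ^ k * (g ^ k)⁻¹) =
        (∑ i ∈ Finset.range k, ρ₂ g ^ i) (κ w) := fun k => by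
      induction k with
      | zero => simpa using (hκ2 1 A.one_mem).2 B.one_mem
      | succ k ih =>
        rw [show (w * g) ^ (k + 1) * (g ^ (k + 1))⁻¹ = w * (g * ((w * g) ^ k * (g ^ k)⁻¹) * g⁻¹) by
          rw [pow_succ', pow_succ']; group, hκ1 w hw _
          (Normal.conj_mem inferInstance _ (mul_pow_mul_inv_mem hw g k) g),
          hκ4 g _ (mul_pow_mul_inv_mem hw g k), ih, Finset.sum_range_succ', LinearMap.add_apply,
          ← End.mul_apply, Finset.mul_sum, add_comm]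
        simp only [pow_succ', pow_zero, End.one_apply]
    let K := AlgebraicClosure (ZMod 2)
    have hinj : Function.Injective (repBaseChange K ρ) := fun a b hab => hρ
      (endBaseChangeHom_injective K hab)
    refine not_deficient (K := K) hq2 hQ hQ1 hQ2 (σ := (repBaseChange K ρ).comp Q.subtype)
      (hinj.comp Q.subtype_injective) ((repBaseChange K ρ).comp L.subtype) _
      (fun l x => ?_) hA hA4 hAz hB hAQ (m := m) (fun u j hu => ?_) hg hw fun h3 => hv ?_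
    · change repBaseChange K ρ l * repBaseChange K ρ x =
        repBaseChange K ρ (l * x * (l : H)⁻¹) * repBaseChange K ρ l
      simp [← map_mul]
    · have := congrArg (Module.End.baseChangeHom (ZMod 2) K V) (h u j (congrArg Subtype.val hu))
      rwa [map_pow, map_sub, map_one, map_zero] at this
    · rw [← geom_sum_char_pow (K := ZMod 2), LinearMap.zero_apply]
      exact (h2 _).symm.trans ((hκ2 _ (mul_pow_mul_inv_mem hw g _)).2 h3)

omit hq in
theorem isSolvable_of_isPSolvable_two {G : Type u} [Group G] [Finite G] (hG : IsPSolvable 2 G) :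
    Group.IsSolvable G := by
  induction hn : Nat.card G using Nat.strong_induction_on generalizing G with
  | _ n ih =>
  rcases subsingleton_or_nontrivial G with h | h
  · infer_instance
  have key : ∀ (N : Subgroup G) [N.Normal], N ≠ ⊥ → Group.IsSolvable N → Group.IsSolvable G :=
    fun N _ h0 h1 => by
      have := ih _ (hn ▸ card_quotient_lt h0) (hG.quotient N) rfl
      exact solvable_of_ker_le_range N.subtype (QuotientGroup.mk' N) (by simp)
  rcases hG.pCore_ne_bot_or with h1 | h1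
  · exact key _ h1 (CopAct.isSolvable_of_isPGroup (isPGroup_pCore 2))
  · exact key _ h1 (S0205.result (Nat.coprime_two_right.1 (coprime_card_pPrimeCore 2)))

theorem pLengthLE_of_pExp_two {G : Type u} [Group G] [Finite G] (hG : IsPSolvable 2 G) {e : ℕ}
    (h : PExp 2 e G) : PLengthLE 2 e G := by
  rcases e with _ | e
  · exact pLengthLE_zero_iff.2 h.coprime_card
  obtain ⟨X, _, _, f, hf, hV, hC, hcomap⟩ := exists_frattini_quotient hG
  have := isSolvable_of_isPSolvable_two (hG.of_surjective hf)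
  refine (pLengthLE_succ_iff_of_ker_eq (f := (QuotientGroup.mk' (pCore 2 X)).comp f)
    ((QuotientGroup.mk'_surjective _).comp hf)
    (by rw [← MonoidHom.comap_ker, QuotientGroup.ker_mk', hcomap])).2
    (pLengthLE_of_deficient e _ (EAV hV) (eaRepQ hV) (eaRepQ_injective hC) pCore_quotient_pCore
      fun u j hu => ?_)
  obtain ⟨x, ⟨i, hx⟩, rfl⟩ := exists_pElt_lift (QuotientGroup.mk'_surjective _) hu
  exact (h.of_surjective hf).pow_eq_zero hV ((h.of_surjective hf) x i hx)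

end Cfsg.Agent.GT.TL
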